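import Groth.Agent.L21.RR.Coh
import Groth.Agent.L17.BC.Model
import Groth.Agent.L29.LocFree
import Groth.Agent.L18.AmplePull

/-!
Cohomology over fields is invariant under extensions of the ground field and isomorphisms.
-/

set_option autoImplicit false
set_option linter.style.haveILetI false
universe u

open CategoryTheory CategoryTheory.Limits AlgebraicGeometry

noncomputable section

namespace Groth.L21.RR

variable {k : Type u} [Field k] {X : Scheme.{u}} [X.Over (Spec (CommRingCat.of k))]
  [IsProper (X ↘ Spec (CommRingCat.of k))]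
  {K : Type u} [Field K] [Algebra k K] {Y : Scheme.{u}} [Y.Over (Spec (CommRingCat.of K))] (g : Y ⟶ X)
  (sq : IsPullback g (Y ↘ Spec (CommRingCat.of K)) (X ↘ Spec (CommRingCat.of k))
    (Spec.map (CommRingCat.ofHom (algebraMap k K))))

include sq in
/-- Cohomology commutes with extensions of the ground field. -/
theorem h_pullback {F : X.Modules} (hF : Coh.IsCoh F) (p : ℕ) :
    h K p ((Scheme.Modules.pullback g).obj F) = h k p F := by
  haveI := hF.1
  obtain ⟨m⟩ := Groth.L17.BC.nonempty_model (X ↘ Spec (CommRingCat.of k)) F hF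
    fun V _ => inferInstance
  have sq' : IsPullback (𝟙 X) (X ↘ Spec (CommRingCat.of k)) (X ↘ Spec (CommRingCat.of k))
      (Spec.map (CommRingCat.ofHom (algebraMap k k))) := by
    rw [Algebra.algebraMap_self, show CommRingCat.ofHom (RingHom.id k) = 𝟙 (CommRingCat.of k) from rfl, Spec.map_id]
    exact IsPullback.of_horiz_isIso ⟨by simp⟩
  have e1 := m.finrank_eq_dRank (X ↘ Spec (CommRingCat.of k)) (𝟙 X) sq' p
  have e2 := m.finrank_eq_dRank (Y ↘ Spec (CommRingCat.of K)) g sq p
  have hpt : PrimeSpectrum.comap (algebraMap k k) ⊥ = PrimeSpectrum.comap (algebraMap k K) ⊥ :=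
    Subsingleton.elim _ _
  rw [hpt, ← e2] at e1
  exact e1.symm.trans (h_congr k ((Scheme.Modules.pullbackId X).app F) p)

include sq in
theorem h_structure_bc (p : ℕ) :
    h K p (Coh.structureModule Y) = h k p (Coh.structureModule X) := by
  haveI : IsLocallyNoetherian X := LocallyOfFiniteType.isLocallyNoetherian (X ↘ Spec (CommRingCat.of k))
  rw [← h_pullback g sq (Groth.L16.CohClosedPush.isCoh_structure (X := X)) p]
  exact (h_congr K (Groth.L29.LocFree.pullbackUnitIso g) p).symm

include sq in
theorem euler_pullback {F : X.Modules} (hF : Coh.IsCoh F) :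
    Curv2.euler K Y ((Scheme.Modules.pullback g).obj F) = Curv2.euler k X F :=
  finsum_congr fun p => by
    rw [show Module.finrank K (Coh.HH Y ((Scheme.Modules.pullback g).obj F) p) =
      Module.finrank k (Coh.HH X F p) from h_pullback g sq hF p]

include sq in
theorem genus_bc : Curv2.genus K Y = Curv2.genus k X := h_structure_bc g sq 1

include sq in
theorem deg_pullback {L : X.Modules} (hL : PicF.IsInvertible L) :
    Curv2.deg K Y ((Scheme.Modules.pullback g).obj L) 1 = Curv2.deg k X L 1 := by
  haveI : IsLocallyNoetherian X := LocallyOfFiniteType.isLocallyNoetherian (X ↘ Spec (CommRingCat.of k))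
  rw [Curv2.deg, Curv2.deg, euler_pullback g sq (Groth.L16.ProperFinite.isCoh_of_isInvertible hL),
    ← euler_congr K (Groth.L29.LocFree.pullbackUnitIso g),
    euler_pullback g sq (Groth.L16.CohClosedPush.isCoh_structure (X := X))]

omit [Algebra k K] in
/-- An isomorphism over the base is a base change. -/
theorem isPullback_of_iso {Z : Scheme.{u}} [Z.Over (Spec (CommRingCat.of k))] (e : Z ≅ X)
    (he : e.hom ≫ (X ↘ Spec (CommRingCat.of k)) = Z ↘ Spec (CommRingCat.of k)) :
    IsPullback e.hom (Z ↘ Spec (CommRingCat.of k)) (X ↘ Spec (CommRingCat.of k))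
      (Spec.map (CommRingCat.ofHom (algebraMap k k))) := by
  rw [Algebra.algebraMap_self, show CommRingCat.ofHom (RingHom.id k) = 𝟙 (CommRingCat.of k) from rfl, Spec.map_id]
  exact IsPullback.of_horiz_isIso ⟨by rw [Category.comp_id, he]⟩

end Groth.L21.RR
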