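import Groth.Agent.L21.RR.Coh
import Groth.Agent.L16.CohKernel

/-!
Global sections as morphisms out of the structure module; injectivity on integral schemes.
-/

set_option autoImplicit false
set_option linter.style.haveILetI false
universe u

open CategoryTheory CategoryTheory.Limits AlgebraicGeometry TopologicalSpace Opposite

noncomputable section

namespace Groth.L21.RR

open Groth.L16.CohLinear (hmap hmap_comp hmap_id overLin)
open Groth.L18.Frame (IsFrame rs ro)

variable {X : Scheme.{u}}

/-- Degree zero cohomology is global sections. -/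
def e0 (M : X.Modules) : Coh.HH X M 0 ≃+ Γ(M, ⊤) :=
  CategoryTheory.Sheaf.H.equiv₀ (Coh.toAb M)
    (Limits.IsTerminal.ofUniqueHom (fun U => homOfLE le_top) (fun _ _ => Subsingleton.elim _ _))

theorem e0_hmap {M N : X.Modules} (f : M ⟶ N) (x : Coh.HH X M 0) :
    e0 N (hmap f 0 x) = f.app ⊤ (e0 M x) :=
  (CategoryTheory.Sheaf.H.equiv₀_naturality _ (Groth.L16.CohLinear.tm f) x).symm

theorem app_homOfSection_one {L : X.Modules} (s : Γ(L, ⊤)) :
    (Groth.L16.homOfSection L s).app ⊤ (oneSec X) = s := by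
  refine (Groth.L16.homOfSection_app L s ⊤ _).trans ?_
  exact (one_smul _ _).trans (Groth.L18.Frame.rs_self L le_rfl s)

theorem exists_hom_of_hh0 {L : X.Modules} (x : Coh.HH X L 0) :
    ∃ φ : Coh.structureModule X ⟶ L, φ.app ⊤ (oneSec X) = e0 L x :=
  ⟨_, app_homOfSection_one _⟩

theorem exists_hom_ne_zero {L : X.Modules} [Nontrivial (Coh.HH X L 0)] :
    ∃ φ : Coh.structureModule X ⟶ L, φ ≠ 0 := by
  obtain ⟨x, hx⟩ := exists_ne (0 : Coh.HH X L 0)
  obtain ⟨φ, hφ⟩ := exists_hom_of_hh0 x
  refine ⟨φ, fun h => hx ((e0 L).injective ?_)⟩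
  rw [map_zero, ← hφ, h]
  rfl

/-- The stalk map at a point. -/
def st {M N : X.Modules} (f : M ⟶ N) (x : X) :
    M.presheaf.stalk x →ₗ[X.presheaf.stalk x] N.presheaf.stalk x :=
  ((Groth.L00.Stk.F X x).map f).hom

theorem st_germ {M N : X.Modules} (f : M ⟶ N) {U : X.Opens} {x : X} (hx : x ∈ U) (s : Γ(M, U)) :
    st f x (M.presheaf.germ U x hx s) = N.presheaf.germ U x hx (f.app U s) :=
  DerSch.stalkFunctor_map_germ x f U hx s

theorem st_one {L : X.Modules} (φ : Coh.structureModule X ⟶ L) (x : X) {W : X.Opens} (hx : x ∈ W) :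
    st φ x (one X x) = L.presheaf.germ W x hx (rs L le_top (φ.app ⊤ (oneSec X))) := by
  rw [one, st_germ, Groth.L20.ModStalk.germ_rs]

/-- In a frame, a section is a multiple of the frame, compatibly with germs. -/
theorem exists_coeff_st {L : X.Modules} {W : X.Opens} {e : Γ(L, W)} (he : IsFrame L W e)
    (φ : Coh.structureModule X ⟶ L) :
    ∃ a : Γ(X, W), ∀ (x : X) (hx : x ∈ W),
      st φ x (one X x) = X.presheaf.germ W x hx a • L.presheaf.germ W x hx e := by
  obtain ⟨a, ha⟩ := he.exists_coeff le_rfl (rs L le_top (φ.app ⊤ (oneSec X)))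
  refine ⟨a, fun x hx => ?_⟩
  rw [st_one φ x hx, ← ha, Groth.L20.ModStalk.germ_smul, Groth.L18.Frame.rs_self]

theorem eq_zero_of_st_one {L : X.Modules} (φ : Coh.structureModule X ⟶ L)
    (h : ∀ x : X, st φ x (one X x) = 0) : φ = 0 := by
  refine Groth.L21.Mod.hom_ext_stalk fun x => ?_
  ext v
  obtain ⟨a, rfl⟩ := (bijective_smul_one x).2 v
  rw [Functor.map_zero]
  change st φ x (a • one X x) = 0
  rw [map_smul, h x, smul_zero]

variable [IsIntegral X]

/-- A nonzero section of an invertible module on an integral scheme vanishes at no point identically. -/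
theorem st_one_ne_zero {L : X.Modules} (hL : PicF.IsInvertible L) {φ : Coh.structureModule X ⟶ L}
    (hφ : φ ≠ 0) (x : X) : st φ x (one X x) ≠ 0 := by
  intro hx
  refine hφ (eq_zero_of_st_one φ fun y => ?_)
  have key : ∀ z : X, st φ z (one X z) = 0 ↔ st φ (genericPoint X) (one X (genericPoint X)) = 0 := by
    intro z
    obtain ⟨W, e, hz, he⟩ := Groth.L18.Frame.exists_frame hL z
    obtain ⟨a, ha⟩ := exists_coeff_st he φ
    have hη : genericPoint X ∈ W := ((genericPoint_spec X).specializes trivial).mem_open W.2 hz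
    have hzero : ∀ (p : X) (hp : p ∈ W), st φ p (one X p) = 0 ↔ a = 0 := fun p hp => by
      rw [ha p hp]
      constructor
      · intro h
        have h' := (bijective_germ_frame he hp).1 (h.trans (zero_smul (X.presheaf.stalk p) _).symm)
        exact germ_injective_of_isIntegral X p hp (h'.trans (map_zero _).symm)
      · rintro rfl
        rw [map_zero]
        exact zero_smul _ _
    exact (hzero z hz).trans (hzero _ hη).symm
  exact (key y).2 ((key x).1 hx)

theorem injective_st {L : X.Modules} (hL : PicF.IsInvertible L) {φ : Coh.structureModule X ⟶ L}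
    (hφ : φ ≠ 0) (x : X) : Function.Injective (st φ x) := by
  refine (injective_iff_map_eq_zero _).2 fun v hv => ?_
  obtain ⟨a, rfl⟩ := (bijective_smul_one x).2 v
  obtain ⟨e, he⟩ := exists_frame_stalk hL x
  obtain ⟨b, hb⟩ := he.2 (st φ x (one X x))
  change st φ x (a • one X x) = 0 at hv
  rw [map_smul, ← hb, smul_smul] at hv
  have h0 : a * b = 0 := he.1 (hv.trans (zero_smul (X.presheaf.stalk x) e).symm)
  rcases mul_eq_zero.1 h0 with h | h
  · change a • one X x = 0
    rw [h, zero_smul]
  · exact absurd (by rw [← hb, h]; exact zero_smul _ _) (st_one_ne_zero hL hφ x)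

theorem mono_of_ne_zero {L : X.Modules} (hL : PicF.IsInvertible L) {φ : Coh.structureModule X ⟶ L}
    (hφ : φ ≠ 0) : Mono φ :=
  (Groth.L21.Mod.mono_iff_stalk_injective φ).2 fun x => injective_st hL hφ x

omit [IsIntegral X] in
theorem surjective_st_iff {L : X.Modules} {x : X} {e : L.presheaf.stalk x}
    (he : Function.Bijective fun a : X.presheaf.stalk x => a • e) (φ : Coh.structureModule X ⟶ L)
    {b : X.presheaf.stalk x} (hb : b • e = st φ x (one X x)) :
    Function.Surjective (st φ x) ↔ IsUnit b := by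
  constructor
  · intro h
    obtain ⟨v, hv⟩ := h e
    obtain ⟨a, rfl⟩ := (bijective_smul_one x).2 v
    change st φ x (a • one X x) = e at hv
    rw [map_smul, ← hb, smul_smul] at hv
    exact IsUnit.of_mul_eq_one a ((mul_comm b a).trans (he.1 (hv.trans (one_smul (X.presheaf.stalk x) e).symm)))
  · intro h v
    obtain ⟨a, rfl⟩ := he.2 v
    refine ⟨(a * ↑h.unit⁻¹) • one X x, ?_⟩
    rw [map_smul, ← hb, smul_smul, mul_assoc, IsUnit.val_inv_mul, mul_one]

theorem stalk_isField {x : X} (hd : topologicalKrullDim X ≤ 1) (hx : ¬ IsClosed ({x} : Set X)) :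
    IsField (X.presheaf.stalk x) := by
  obtain ⟨z, hz, hzne⟩ : ∃ z, x ⤳ z ∧ x ≠ z := by
    by_contra hh
    push Not at hh
    exact hx (isClosed_of_closure_subset fun z hz => (hh z (specializes_iff_mem_closure.2 hz)).symm)
  rcases Top.spec_of_dim_le_one (X := X.toTopCat) hd (genericPoint X) x z
    ((genericPoint_spec X).specializes trivial) hz with e | e
  · rw [← e]; exact Field.toIsField X.functionField
  · exact absurd e hzne

theorem suppClosed_cokernel (hd : topologicalKrullDim X ≤ 1) {L : X.Modules} (hL : PicF.IsInvertible L)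
    {φ : Coh.structureModule X ⟶ L} (hφ : φ ≠ 0) : SuppClosed (cokernel φ) := by
  refine suppClosed_cokernel_of_surjective φ fun x hx => (show Function.Surjective (st φ x) from ?_)
  obtain ⟨e, he⟩ := exists_frame_stalk hL x
  obtain ⟨b, hb⟩ := he.2 (st φ x (one X x))
  refine (surjective_st_iff he φ hb).2 ?_
  have hb0 : b ≠ 0 := fun h => st_one_ne_zero hL hφ x (by rw [← hb, h]; exact zero_smul _ _)
  obtain ⟨c, hc⟩ := (stalk_isField hd hx).mul_inv_cancel hb0
  exact IsUnit.of_mul_eq_one c hc

section Degree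

variable (k : Type u) [Field k] [X.Over (Spec (CommRingCat.of k))] [IsProper (X ↘ Spec (CommRingCat.of k))]

/-- The degree of the module of a section is the length of its cokernel. -/
theorem deg_eq_h0_cokernel (hd : topologicalKrullDim X ≤ 1) {L : X.Modules} (hL : PicF.IsInvertible L)
    {φ : Coh.structureModule X ⟶ L} (hφ : φ ≠ 0) :
    Curv2.deg k X L 1 = (h k 0 (cokernel φ) : ℤ) := by
  haveI := isNoetherian_of_proper (X := X) k
  haveI := mono_of_ne_zero hL hφ
  have hS : (ShortComplex.mk φ (cokernel.π φ) (cokernel.condition φ)).ShortExact :=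
    { exact := ShortComplex.exact_cokernel φ }
  have hO := Groth.L16.CohClosedPush.isCoh_structure (X := X)
  have hLc := Groth.L16.ProperFinite.isCoh_of_isInvertible hL
  have hQ := (Groth.L16.CohKernel.isCoh_kernel_cokernel hO hLc φ).2
  rw [Curv2.deg, euler_add k hd hS hO hLc hQ, euler_eq_h0_of_suppClosed k (suppClosed_cokernel hd hL hφ)]
  push_cast
  ring

theorem deg_nonneg (hd : topologicalKrullDim X ≤ 1) {L : X.Modules} (hL : PicF.IsInvertible L)
    (hs : Nontrivial (Coh.HH X L 0)) : 0 ≤ Curv2.deg k X L 1 := by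
  obtain ⟨φ, hφ⟩ := exists_hom_ne_zero (L := L)
  rw [deg_eq_h0_cokernel k hd hL hφ]
  positivity

theorem h0_le_add (hd : topologicalKrullDim X ≤ 1) {L : X.Modules} (hL : PicF.IsInvertible L)
    {φ : Coh.structureModule X ⟶ L} (hφ : φ ≠ 0) :
    h k 0 L ≤ h k 0 (Coh.structureModule X) + h k 0 (cokernel φ) ∧
      (h k 0 L = h k 0 (Coh.structureModule X) + h k 0 (cokernel φ) →
        Function.Surjective (hmap (cokernel.π φ) 0)) := by
  haveI := isNoetherian_of_proper (X := X) k
  haveI := mono_of_ne_zero hL hφ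
  have hS : (ShortComplex.mk φ (cokernel.π φ) (cokernel.condition φ)).ShortExact :=
    { exact := ShortComplex.exact_cokernel φ }
  have hO := Groth.L16.CohClosedPush.isCoh_structure (X := X)
  have hLc := Groth.L16.ProperFinite.isCoh_of_isInvertible hL
  haveI := finite_HH' k hO 0
  haveI := finite_HH' k hLc 0
  haveI := finite_HH' k (Groth.L16.CohKernel.isCoh_kernel_cokernel hO hLc φ).2 0
  let f₀ := hk k φ 0
  let g₀ := hk k (cokernel.π φ) 0
  have e₀ : Function.Exact f₀ g₀ := Groth.L16.CohLinear.exact_hmap_hmap hS 0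
  have r₀ := f₀.finrank_range_add_finrank_ker
  have r₁ := g₀.finrank_range_add_finrank_ker
  rw [LinearMap.ker_eq_bot.2 (show Function.Injective f₀ from injective_hmap_zero φ), finrank_bot] at r₀
  rw [LinearMap.exact_iff.1 e₀] at r₁
  have hle := g₀.range.finrank_le
  simp only [h] at *
  refine ⟨by omega, fun heq => ?_⟩
  have htop : g₀.range = ⊤ := Submodule.eq_top_of_finrank_eq (by omega)
  exact (LinearMap.range_eq_top.1 htop : Function.Surjective g₀)

end Degree

end Groth.L21.RR
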