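import Groth.Agent.L21.RR.TopVanish
import Groth.Agent.L16.CohLinear
import Groth.Agent.L16.ProperFinite
import Groth.Agent.L16.ProjSpace.Twist
import Groth.Agent.L00.StalkFunctor
import Groth.Agent.L20.ModStalk
import Groth.Prelude.Def_CurvBase
import Mathlib.LinearAlgebra.Dimension.RankNullity
import Mathlib.LinearAlgebra.FiniteDimensional.Basic

/-!
Coherent cohomology in dimension at most one: vanishing, six-term sequence, Euler characteristics.
-/

set_option autoImplicit false
set_option linter.style.haveILetI false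
universe u

open CategoryTheory CategoryTheory.Limits CategoryTheory.Abelian AlgebraicGeometry TopologicalSpace Opposite

noncomputable section

namespace Groth.L21.RR

open Groth.L16.CohLinear (hmap hmap_comp hmap_id overLin delta exact_hmap_hmap exact_hmap_delta exact_delta_hmap)

variable {X : Scheme.{u}}

/-- The support consists of closed points only. -/
def SuppClosed (M : X.Modules) : Prop :=
  ∀ x : X, ¬ IsClosed ({x} : Set X) → Subsingleton (M.presheaf.stalk x)

instance [IsNoetherian X] : NoetherianSpace X.toTopCat := (inferInstance : NoetherianSpace X)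
instance : QuasiSober X.toTopCat := (inferInstance : QuasiSober X)
instance : T0Space X.toTopCat := (inferInstance : T0Space X)

theorem isFlasque_of_suppClosed [IsNoetherian X] {M : X.Modules} (h : SuppClosed M) :
    TopCat.Sheaf.IsFlasque (show CohTop.Ab X.toTopCat from Coh.toAb M) :=
  Top.isFlasque_of_stalks _ h

theorem subsingleton_HH_of_suppClosed [IsNoetherian X] {M : X.Modules} (h : SuppClosed M) (n : ℕ) :
    Subsingleton (Coh.HH X M (n + 1)) :=
  Groth.L10.TopCoh.subsingleton_H_of_flasque (X := X.toTopCat) _ (isFlasque_of_suppClosed h) n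

theorem subsingleton_HH_two [IsNoetherian X] (hd : topologicalKrullDim X ≤ 1) (M : X.Modules) (n : ℕ) :
    Subsingleton (Coh.HH X M (n + 2)) :=
  Top.subsingleton_H (X := X.toTopCat) hd (Coh.toAb M) n

section Maps

theorem hmap_smulΓ {M N : X.Modules} (f : M ⟶ N) (n : ℕ) (r : Coh.Γtop X) (x : Coh.HH X M n) :
    hmap f n (r • x) = r • hmap f n x := map_smul _ _ _

theorem hmap_add {M N : X.Modules} (f g : M ⟶ N) (n : ℕ) (x : Coh.HH X M n) :
    hmap (f + g) n x = hmap f n x + hmap g n x := by
  change Sheaf.H.map (Groth.L16.CohLinear.tm (f + g)) n x = _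
  rw [Groth.L16.CohLinear.tm, Functor.map_add, Sheaf.H.map_add_apply]
  rfl

theorem hmap_zero (M N : X.Modules) (n : ℕ) (x : Coh.HH X M n) : hmap (0 : M ⟶ N) n x = 0 := by
  change Sheaf.H.map (Groth.L16.CohLinear.tm (0 : M ⟶ N)) n x = 0
  rw [Groth.L16.CohLinear.tm, Functor.map_zero]
  change ((Sheaf.functorH _ n).map 0).hom x = 0
  rw [Functor.map_zero]
  rfl

theorem injective_hmap_zero {M N : X.Modules} (f : M ⟶ N) [Mono f] :
    Function.Injective (hmap f 0) := by
  haveI : Mono (Groth.L16.CohLinear.tm f) := (Groth.L16.CohLinear.tF X).map_mono f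
  intro x y h
  obtain ⟨a, rfl⟩ : ∃ a, Ext.mk₀ a = x := Ext.mk₀_bijective _ _ |>.2 x
  obtain ⟨b, rfl⟩ : ∃ b, Ext.mk₀ b = y := Ext.mk₀_bijective _ _ |>.2 y
  change (Ext.mk₀ a).comp (Ext.mk₀ (Groth.L16.CohLinear.tm f)) (add_zero 0) =
    (Ext.mk₀ b).comp (Ext.mk₀ (Groth.L16.CohLinear.tm f)) (add_zero 0) at h
  rw [Ext.mk₀_comp_mk₀, Ext.mk₀_comp_mk₀] at h
  exact congrArg Ext.mk₀ ((cancel_mono _).1 ((Ext.mk₀_bijective _ _).1 h))

theorem surjective_hmap_one_of_suppClosed [IsNoetherian X] (hd : topologicalKrullDim X ≤ 1)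
    {M N : X.Modules} (f : M ⟶ N) (h : SuppClosed (cokernel f)) : Function.Surjective (hmap f 1) := by
  let SI : ShortComplex X.Modules :=
    ShortComplex.mk (Abelian.image.ι f) (cokernel.π f) (kernel.condition _)
  have hSI : SI.ShortExact :=
    { exact := ShortComplex.exact_of_f_is_kernel _ (kernelIsKernel (cokernel.π f)) }
  have hSK := Groth.L16.Devissage.shortExact_kernel_image f
  intro y
  obtain ⟨z, hz⟩ := (exact_hmap_hmap hSI 1 y).1 ((subsingleton_HH_of_suppClosed h 0).elim _ _)
  obtain ⟨w, hw⟩ := (exact_hmap_delta hSK 1 z).1 ((subsingleton_HH_two hd _ 0).elim _ _)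
  refine ⟨w, ?_⟩
  rw [← Abelian.image.fac f, hmap_comp]
  exact (congrArg (hmap (Abelian.image.ι f) 1) hw).trans hz

end Maps

section Euler

variable (k : Type u) [Field k] [X.Over (Spec (CommRingCat.of k))]

/-- `dim_k H^n`. -/
abbrev h (n : ℕ) (M : X.Modules) : ℕ := Module.finrank k (Coh.HH X M n)

/-- The linear map on cohomology. -/
abbrev hk {M N : X.Modules} (f : M ⟶ N) (n : ℕ) : Coh.HH X M n →ₗ[k] Coh.HH X N n :=
  overLin k (hmap f n)

theorem h_congr {M N : X.Modules} (e : M ≅ N) (n : ℕ) : h k n M = h k n N := by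
  refine LinearEquiv.finrank_eq (LinearEquiv.ofLinear (hk k e.hom n) (hk k e.inv n) ?_ ?_)
  · exact LinearMap.ext fun x => (hmap_comp e.inv e.hom n x).symm.trans (by rw [e.inv_hom_id]; exact hmap_id n x)
  · exact LinearMap.ext fun x => (hmap_comp e.hom e.inv n x).symm.trans (by rw [e.hom_inv_id]; exact hmap_id n x)

theorem euler_congr {M N : X.Modules} (e : M ≅ N) : Curv2.euler k X M = Curv2.euler k X N :=
  finsum_congr fun i => by rw [show Module.finrank k (Coh.HH X M i) = Module.finrank k (Coh.HH X N i) from h_congr k e i]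

theorem deg_congr {M N : X.Modules} (e : M ≅ N) (n : ℕ) : Curv2.deg k X M n = Curv2.deg k X N n := by
  rw [Curv2.deg, Curv2.deg, euler_congr k e]

theorem h_eq_zero_of_subsingleton {M : X.Modules} {n : ℕ} (hs : Subsingleton (Coh.HH X M n)) : h k n M = 0 :=
  Module.finrank_zero_of_subsingleton

variable [IsProper (X ↘ Spec (CommRingCat.of k))]

include k in
theorem isNoetherian_of_proper : IsNoetherian X := by
  haveI : IsLocallyNoetherian X := LocallyOfFiniteType.isLocallyNoetherian (X ↘ Spec (CommRingCat.of k))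
  haveI : CompactSpace X := QuasiCompact.compactSpace_of_compactSpace (X ↘ Spec (CommRingCat.of k))
  exact ⟨⟩

theorem finite_HH' {M : X.Modules} (hM : Coh.IsCoh M) (n : ℕ) : Module.Finite k (Coh.HH X M n) :=
  Groth.L16.ProperFinite.finite_HH k hM n

theorem euler_eq (hd : topologicalKrullDim X ≤ 1) (M : X.Modules) :
    Curv2.euler k X M = (h k 0 M : ℤ) - h k 1 M := by
  haveI := isNoetherian_of_proper (X := X) k
  rw [Curv2.euler, finsum_eq_sum_of_support_subset _ (s := Finset.range 2) fun i hi => ?_]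
  · simp [Finset.sum_range_succ, h]
    ring
  · simp only [Finset.coe_range, Set.mem_Iio]
    by_contra h2
    push Not at h2
    obtain ⟨m, rfl⟩ := Nat.exists_eq_add_of_le h2
    refine hi ?_
    have h0 : h k (2 + m) M = 0 :=
      h_eq_zero_of_subsingleton k (add_comm 2 m ▸ subsingleton_HH_two hd M m)
    simp [h] at h0 ⊢
    simp [h0]

theorem euler_eq_h0_of_suppClosed {M : X.Modules} (hM : SuppClosed M) :
    Curv2.euler k X M = (h k 0 M : ℤ) := by
  haveI := isNoetherian_of_proper (X := X) k
  rw [Curv2.euler, finsum_eq_single _ 0 fun i hi => ?_]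
  · simp [h]
  · obtain ⟨m, rfl⟩ := Nat.exists_eq_succ_of_ne_zero hi
    rw [show Module.finrank k (Coh.HH X M (m + 1)) = 0 from
      h_eq_zero_of_subsingleton k (subsingleton_HH_of_suppClosed hM m)]
    simp

variable {S : ShortComplex X.Modules}

/-- The six-term dimension count. -/
theorem euler_add (hd : topologicalKrullDim X ≤ 1) (hS : S.ShortExact)
    (h₁ : Coh.IsCoh S.X₁) (h₂ : Coh.IsCoh S.X₂) (h₃ : Coh.IsCoh S.X₃) :
    Curv2.euler k X S.X₂ = Curv2.euler k X S.X₁ + Curv2.euler k X S.X₃ := by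
  haveI := isNoetherian_of_proper (X := X) k
  haveI : ∀ n, Module.Finite k (Coh.HH X S.X₁ n) := finite_HH' k h₁
  haveI : ∀ n, Module.Finite k (Coh.HH X S.X₂ n) := finite_HH' k h₂
  haveI : ∀ n, Module.Finite k (Coh.HH X S.X₃ n) := finite_HH' k h₃
  haveI := hS.mono_f
  let f₀ := hk k S.f 0
  let g₀ := hk k S.g 0
  let d := overLin k (delta hS 0)
  let f₁ := hk k S.f 1
  let g₁ := hk k S.g 1
  have e₀ : Function.Exact f₀ g₀ := exact_hmap_hmap hS 0
  have ed : Function.Exact g₀ d := exact_hmap_delta hS 0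
  have e₁ : Function.Exact d f₁ := exact_delta_hmap hS 0
  have e₁' : Function.Exact f₁ g₁ := exact_hmap_hmap hS 1
  have hg₁ : Function.Surjective g₁ := fun y =>
    (exact_hmap_delta hS 1 y).1 ((subsingleton_HH_two hd _ 0).elim _ _)
  have hf₀ : LinearMap.ker f₀ = ⊥ := LinearMap.ker_eq_bot.2 (injective_hmap_zero S.f)
  have r₀ := f₀.finrank_range_add_finrank_ker
  have r₁ := g₀.finrank_range_add_finrank_ker
  have r₂ := d.finrank_range_add_finrank_ker
  have r₃ := f₁.finrank_range_add_finrank_ker
  have r₄ := g₁.finrank_range_add_finrank_ker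
  rw [hf₀, finrank_bot] at r₀
  rw [LinearMap.exact_iff.1 e₀] at r₁
  rw [LinearMap.exact_iff.1 ed] at r₂
  rw [LinearMap.exact_iff.1 e₁] at r₃
  rw [LinearMap.exact_iff.1 e₁', LinearMap.range_eq_top.2 hg₁, finrank_top] at r₄
  rw [euler_eq k hd, euler_eq k hd, euler_eq k hd]
  simp only [h]
  clear_value f₀ g₀ d f₁ g₁
  have r₃' : (Module.finrank k (LinearMap.range f₁) : ℤ) + Module.finrank k (LinearMap.range d) = Module.finrank k (Coh.HH X S.X₁ 1) := by exact_mod_cast r₃
  omega

end Euler

section Stalks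

open Groth.L18.Frame (IsFrame rs)

/-- A frame is a basis of the stalk. -/
theorem bijective_germ_frame {L : X.Modules} {W : X.Opens} {e : Γ(L, W)} (he : IsFrame L W e) {x : X}
    (hx : x ∈ W) :
    Function.Bijective fun a : X.presheaf.stalk x => a • L.presheaf.germ W x hx e := by
  constructor
  · intro a b hab
    obtain ⟨U, hxU, a, rfl⟩ := TopCat.Presheaf.exists_germ_eq X.presheaf a
    obtain ⟨V, hxV, b, rfl⟩ := TopCat.Presheaf.exists_germ_eq X.presheaf b
    let O : X.Opens := U ⊓ V ⊓ W
    have hO : x ∈ O := ⟨⟨hxU, hxV⟩, hx⟩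
    simp only at hab
    rw [← TopCat.Presheaf.germ_res_apply X.presheaf (homOfLE (inf_le_left.trans inf_le_left : O ≤ U)) x hO a,
      ← TopCat.Presheaf.germ_res_apply X.presheaf (homOfLE (inf_le_left.trans inf_le_right : O ≤ V)) x hO b,
      ← Groth.L20.ModStalk.germ_rs L (inf_le_right : O ≤ W) hO e,
      ← Groth.L20.ModStalk.germ_smul L hO, ← Groth.L20.ModStalk.germ_smul L hO] at hab
    obtain ⟨O', hO', i₁, i₂, heq⟩ := TopCat.Presheaf.germ_eq L.presheaf x hO hO _ _ hab
    have h' : rs L i₁.le _ = rs L i₂.le _ := heq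
    simp only [Groth.L18.Frame.rs_smul, Groth.L18.Frame.rs_rs] at h'
    have := he.inj (i₁.le.trans inf_le_right) h'
    rw [← TopCat.Presheaf.germ_res_apply X.presheaf (homOfLE (inf_le_left.trans inf_le_left : O ≤ U)) x hO a,
      ← TopCat.Presheaf.germ_res_apply X.presheaf (homOfLE (inf_le_left.trans inf_le_right : O ≤ V)) x hO b,
      ← TopCat.Presheaf.germ_res_apply X.presheaf i₁ x hO', ← TopCat.Presheaf.germ_res_apply X.presheaf i₂ x hO']
    exact congrArg (X.presheaf.germ O' x hO') this
  · intro m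
    obtain ⟨U, hxU, m, rfl⟩ := TopCat.Presheaf.exists_germ_eq L.presheaf m
    let O : X.Opens := U ⊓ W
    have hO : x ∈ O := ⟨hxU, hx⟩
    obtain ⟨a, ha⟩ := he.exists_coeff (inf_le_right : O ≤ W) (rs L inf_le_left m)
    refine ⟨X.presheaf.germ O x hO a, ?_⟩
    simp only
    rw [← Groth.L20.ModStalk.germ_rs L (inf_le_right : O ≤ W) hO e, ← Groth.L20.ModStalk.germ_smul L hO, ha,
      Groth.L20.ModStalk.germ_rs L]

/-- The global section `1`. -/
def oneSec (X : Scheme.{u}) : Γ(Coh.structureModule X, ⊤) := show Γ(X, ⊤) from 1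

theorem isFrame_oneSec : IsFrame (Coh.structureModule X) ⊤ (oneSec X) := by
  intro V hV
  have h1 : rs (Coh.structureModule X) hV (oneSec X) = (show Γ(X, V) from 1) :=
    map_one (X.presheaf.map (homOfLE hV).op).hom
  rw [h1]
  have : (fun a : Γ(X, V) => a • (show Γ(Coh.structureModule X, V) from (show Γ(X, V) from 1))) = fun a => a :=
    funext fun a => mul_one a
  rw [this]
  exact Function.bijective_id

/-- The germ of `1` in the stalk of the structure module. -/
def one (X : Scheme.{u}) (x : X) : (Coh.structureModule X).presheaf.stalk x :=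
  (Coh.structureModule X).presheaf.germ ⊤ x trivial (oneSec X)

theorem bijective_smul_one (x : X) : Function.Bijective fun a : X.presheaf.stalk x => a • one X x :=
  bijective_germ_frame isFrame_oneSec (x := x) trivial

theorem exists_frame_stalk {L : X.Modules} (hL : PicF.IsInvertible L) (x : X) :
    ∃ e : L.presheaf.stalk x, Function.Bijective fun a : X.presheaf.stalk x => a • e := by
  obtain ⟨W, e, hx, he⟩ := Groth.L18.Frame.exists_frame hL x
  exact ⟨_, bijective_germ_frame he hx⟩

theorem suppClosed_cokernel_of_surjective {M N : X.Modules} (f : M ⟶ N)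
    (h : ∀ x : X, ¬ IsClosed ({x} : Set X) → Function.Surjective ((Groth.L00.Stk.F X x).map f)) :
    SuppClosed (cokernel f) := by
  intro x hx
  have h0 : (Groth.L00.Stk.F X x).map (cokernel.π f) = 0 := by
    haveI : Epi ((Groth.L00.Stk.F X x).map f) := (ModuleCat.epi_iff_surjective _).2 (h x hx)
    refine zero_of_epi_comp ((Groth.L00.Stk.F X x).map f) ?_
    rw [← Functor.map_comp, cokernel.condition, Functor.map_zero]
  exact ModuleCat.subsingleton_of_isZero (IsZero.of_epi_eq_zero _ h0)

end Stalks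

end Groth.L21.RR
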