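import Groth.Agent.L21.RR.Finite
import Groth.Agent.L16.CohClosedPush
import Groth.Agent.L16.FrameIso
import Groth.Agent.L00.TensorQCoh
import Groth.Agent.L17.ClosedPush
import Groth.Agent.L18.KerReduced
import Groth.Prelude.Def_ClSub2
import Groth.Prelude.Def_Curv2

/-!
Twists by ideals of finite closed subschemes: bounds on degrees, global generation.
-/

set_option autoImplicit false
set_option linter.style.haveILetI false
universe u

open CategoryTheory CategoryTheory.Limits AlgebraicGeometry TopologicalSpace Opposite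

noncomputable section

namespace Groth.L21.RR

open Groth.L16.CohLinear (hmap hmap_comp hmap_id overLin)
open Groth.L18.Frame (IsFrame rs ro)

variable {X : Scheme.{u}}

theorem epi_toSubscheme (I : X.IdealSheafData) : Epi (ClSub.toSubscheme I) := by
  refine (Groth.L21.Mod.epi_iff_stalk_surjective _).2 fun x v => ?_
  obtain ⟨U, hxU, s, rfl⟩ := TopCat.Presheaf.exists_germ_eq (ClSub.quotMod I).presheaf v
  obtain ⟨_, ⟨V, hV, rfl⟩, hxV, hVU⟩ :=
    X.isBasis_affineOpens.exists_subset_of_mem_open (show x ∈ (U : Set X) from hxU) U.isOpen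
  obtain ⟨a, ha⟩ := I.subschemeι.app_surjective V hV
    (show Γ(I.subscheme, I.subschemeι ⁻¹ᵁ V) from rs (ClSub.quotMod I) (show V ≤ U from hVU) s)
  refine ⟨(Coh.structureModule X).presheaf.germ V x hxV (show Γ(X, V) from a), ?_⟩
  rw [Groth.L21.Mod.stalkF_map_germ, ← Groth.L20.ModStalk.germ_rs (ClSub.quotMod I) (show V ≤ U from hVU) hxV s]
  exact congrArg _ ha

/-- The sequence `0 → I → O → O/I → 0`. -/
def idealSeq (I : X.IdealSheafData) : ShortComplex X.Modules :=
  ShortComplex.mk (ClSub.idealModι I) (ClSub.toSubscheme I) (kernel.condition _)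

theorem shortExact_idealSeq (I : X.IdealSheafData) : (idealSeq I).ShortExact := by
  haveI := epi_toSubscheme I
  exact { exact := ShortComplex.exact_kernel _
          mono_f := inferInstanceAs (Mono (kernel.ι (ClSub.toSubscheme I)))
          epi_g := epi_toSubscheme I }

theorem isCoh_quotMod [IsLocallyNoetherian X] (I : X.IdealSheafData) : Coh.IsCoh (ClSub.quotMod I) := by
  haveI : IsLocallyNoetherian I.subscheme := LocallyOfFiniteType.isLocallyNoetherian I.subschemeι
  exact Groth.L16.CohClosedPush.isCoh_push (i := I.subschemeι) Groth.L16.CohClosedPush.isCoh_structure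

theorem isCoh_idealMod [IsLocallyNoetherian X] (I : X.IdealSheafData) : Coh.IsCoh (ClSub.idealMod I) :=
  (Groth.L16.CohKernel.isCoh_kernel_cokernel Groth.L16.CohClosedPush.isCoh_structure (isCoh_quotMod I) _).1

theorem subsingleton_stalk_quotMod (I : X.IdealSheafData) {x : X} (hx : x ∉ (I.support : Set X)) :
    Subsingleton ((ClSub.quotMod I).presheaf.stalk x) := by
  by_contra h
  refine hx ?_
  rw [← Scheme.IdealSheafData.range_subschemeι]
  exact Groth.L16.CohClosedPush.support_push_subset (i := I.subschemeι) _ h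

theorem suppClosed_quotMod (I : X.IdealSheafData) (hI : topologicalKrullDim (I.support : Set X) ≤ 0) :
    SuppClosed (ClSub.quotMod I) := by
  intro x hx
  refine subsingleton_stalk_quotMod I fun hxI => hx (isClosed_of_closure_subset fun z hz => ?_)
  by_contra hne
  have hzI : z ∈ (I.support : Set X) :=
    I.support.isClosed.closure_subset_iff.2 (Set.singleton_subset_iff.2 hxI) hz
  let c : ↥(I.support : Set X) → IrreducibleCloseds ↥(I.support : Set X) := fun (a : ↥(I.support : Set X)) =>
    ⟨closure ({a} : Set ↥(I.support : Set X)), isIrreducible_singleton.closure, isClosed_closure⟩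
  have hlt : c ⟨z, hzI⟩ < c ⟨x, hxI⟩ := by
    have hs : (⟨x, hxI⟩ : (I.support : Set X)) ⤳ ⟨z, hzI⟩ :=
      (subtype_specializes_iff _ _).2 (specializes_iff_mem_closure.2 hz)
    refine lt_of_le_of_ne (specializes_iff_closure_subset.1 hs : closure {(⟨z, hzI⟩ : (I.support : Set X))} ⊆ _) fun e => ?_
    have hs' : (⟨z, hzI⟩ : (I.support : Set X)) ⤳ ⟨x, hxI⟩ := by
      refine specializes_iff_mem_closure.2 ?_
      rw [show closure ({(⟨z, hzI⟩ : (I.support : Set X))} : Set _) = closure {⟨x, hxI⟩} from
        congrArg IrreducibleCloseds.carrier e]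
      exact subset_closure rfl
    exact hne (congrArg Subtype.val (hs'.antisymm hs).eq)
  have h1 := (Order.LTSeries.length_le_krullDim ((RelSeries.singleton _ (c ⟨z, hzI⟩)).snoc (c ⟨x, hxI⟩) hlt)).trans hI
  simp only [RelSeries.snoc_length, RelSeries.singleton_length] at h1
  norm_cast at h1

section Tensor

variable {L : X.Modules}

/-- A frame trivialises the stalk of a tensor product. -/
def tensorStalkEquiv (N : X.Modules) {x : X} {e : L.presheaf.stalk x}
    (he : Function.Bijective fun a : X.presheaf.stalk x => a • e) :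
    (CohB1.tensorMod L N).presheaf.stalk x ≃ₗ[X.presheaf.stalk x] N.presheaf.stalk x :=
  (Groth.L00.Stk.τ x L N).toLinearEquiv.symm ≪≫ₗ
    (TensorProduct.congr
      (LinearEquiv.ofBijective (LinearMap.toSpanSingleton (X.presheaf.stalk x) (L.presheaf.stalk x) e) he).symm
      (LinearEquiv.refl (X.presheaf.stalk x) (N.presheaf.stalk x))) ≪≫ₗ
    TensorProduct.lid (X.presheaf.stalk x) (N.presheaf.stalk x)

theorem isFlat_of_isInvertible (hL : PicF.IsInvertible L) : FlatMod.IsFlat L := by
  intro x
  obtain ⟨e, he⟩ := exists_frame_stalk hL x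
  exact Module.Flat.of_linearEquiv
    (LinearEquiv.ofBijective (LinearMap.toSpanSingleton (X.presheaf.stalk x) (L.presheaf.stalk x) e) he).symm

theorem suppClosed_tensor (hL : PicF.IsInvertible L) {N : X.Modules} (hN : SuppClosed N) :
    SuppClosed (CohB1.tensorMod L N) := by
  intro x hx
  obtain ⟨e, he⟩ := exists_frame_stalk hL x
  haveI := hN x hx
  exact (tensorStalkEquiv N he).toEquiv.subsingleton

theorem h0_tensor (k : Type u) [Field k] [X.Over (Spec (CommRingCat.of k))] [AlgebraicGeometry.IsNoetherian X]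
    (hL : PicF.IsInvertible L) {N : X.Modules} (hN : SuppClosed N) :
    h k 0 (CohB1.tensorMod L N) = h k 0 N :=
  h0_eq_of_stalk_equiv k (suppClosed_tensor hL hN) hN fun x =>
    tensorStalkEquiv N (exists_frame_stalk hL x).choose_spec

variable (I : X.IdealSheafData) (L)

/-- `L ⊗ I ⟶ L`. -/
def twι : CohB1.tensorMod L (ClSub.idealMod I) ⟶ L :=
  ((DCoh.tensorBi (X := X)).obj L).map (ClSub.idealModι I) ≫ (Groth.L00.Tensor.tensorUnitRight L).hom

/-- `L ⟶ L ⊗ O/I`. -/
def twπ : L ⟶ CohB1.tensorMod L (ClSub.quotMod I) :=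
  (Groth.L00.Tensor.tensorUnitRight L).inv ≫ ((DCoh.tensorBi (X := X)).obj L).map (ClSub.toSubscheme I)

theorem twι_twπ : twι L I ≫ twπ L I = 0 := by
  refine (Category.assoc _ _ _).trans ?_
  refine (congrArg (((DCoh.tensorBi (X := X)).obj L).map (ClSub.idealModι I) ≫ ·)
    ((Groth.L00.Tensor.tensorUnitRight L).hom_inv_id_assoc _)).trans ?_
  exact ((idealSeq I).map ((DCoh.tensorBi (X := X)).obj L)).zero

variable {L}

theorem shortExact_tw (hL : PicF.IsInvertible L) :
    (ShortComplex.mk (twι L I) (twπ L I) (twι_twπ L I)).ShortExact := by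
  have h := Groth.L16.FrameIso.shortExact_tensor_left (isFlat_of_isInvertible hL) _ (shortExact_idealSeq I)
  refine (ShortComplex.shortExact_iff_of_iso (S₁ := (idealSeq I).map ((DCoh.tensorBi (X := X)).obj L))
    (S₂ := ShortComplex.mk (twι L I) (twπ L I) (twι_twπ L I)) (ShortComplex.isoMk (Iso.refl _)
    (Groth.L00.Tensor.tensorUnitRight L) (Iso.refl _) ?_ ?_)).1 h
  · exact Category.id_comp _
  · refine Eq.trans ?_ (Category.comp_id _).symm
    exact (Iso.hom_inv_id_assoc _ _)

theorem isCoh_twist [IsLocallyNoetherian X] (hL : PicF.IsInvertible L) :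
    Coh.IsCoh (CohB1.tensorMod L (ClSub.idealMod I)) := by
  have h1 := Groth.L16.ProperFinite.isCoh_of_isInvertible hL
  have h2 := isCoh_idealMod I
  haveI : Coh.IsQCoh L := h1.1
  haveI : Coh.IsQCoh (ClSub.idealMod I) := h2.1
  exact ⟨Groth.L00.Tensor.isQCoh_tensorMod _ _, Groth.L00.Tensor.isFT_tensorMod _ _ h1.2 h2.2⟩

theorem isCoh_twistQuot [IsLocallyNoetherian X] (hL : PicF.IsInvertible L) :
    Coh.IsCoh (CohB1.tensorMod L (ClSub.quotMod I)) := by
  have h1 := Groth.L16.ProperFinite.isCoh_of_isInvertible hL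
  have h2 := isCoh_quotMod I
  haveI : Coh.IsQCoh L := h1.1
  haveI : Coh.IsQCoh (ClSub.quotMod I) := h2.1
  exact ⟨Groth.L00.Tensor.isQCoh_tensorMod _ _, Groth.L00.Tensor.isFT_tensorMod _ _ h1.2 h2.2⟩

theorem suppClosed_cokernel_twist [IsIntegral X] (hd : topologicalKrullDim X ≤ 1) (hL : PicF.IsInvertible L)
    (φ : Coh.structureModule X ⟶ CohB1.tensorMod L (ClSub.idealMod I)) (hφ : φ ≠ 0) :
    SuppClosed (cokernel φ) := by
  haveI : Mono (twι L I) := (shortExact_tw I hL).mono_f
  have hne : φ ≫ twι L I ≠ 0 := fun h0 => hφ (zero_of_comp_mono _ h0)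
  refine suppClosed_cokernel_of_surjective φ fun x hx v => ?_
  have hinj := (Groth.L21.Mod.mono_iff_stalk_injective (twι L I)).1 inferInstance x
  obtain ⟨e, he⟩ := exists_frame_stalk hL x
  obtain ⟨b, hb⟩ := he.2 (st (φ ≫ twι L I) x (one X x))
  have hb0 : b ≠ 0 := fun h => st_one_ne_zero hL hne x (by rw [← hb, h]; exact zero_smul _ _)
  obtain ⟨c, hc⟩ := (stalk_isField hd hx).mul_inv_cancel hb0
  obtain ⟨w, hw⟩ := (surjective_st_iff he _ hb).2 (IsUnit.of_mul_eq_one c hc) (st (twι L I) x v)
  refine ⟨w, hinj ?_⟩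
  exact (show st (twι L I) x (st φ x w) = st (twι L I) x v by rw [← hw]; simp only [st, Functor.map_comp]; rfl)

variable (k : Type u) [Field k] [X.Over (Spec (CommRingCat.of k))] [IsProper (X ↘ Spec (CommRingCat.of k))]

theorem euler_twist (hd : topologicalKrullDim X ≤ 1) (hL : PicF.IsInvertible L)
    (hI : topologicalKrullDim (I.support : Set X) ≤ 0) :
    Curv2.euler k X (CohB1.tensorMod L (ClSub.idealMod I)) =
      Curv2.euler k X L - h k 0 (ClSub.quotMod I) := by
  haveI := isNoetherian_of_proper (X := X) k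
  have h1 := euler_add k hd (shortExact_tw I hL) (isCoh_twist I hL)
    (Groth.L16.ProperFinite.isCoh_of_isInvertible hL) (isCoh_twistQuot I hL)
  rw [h1, euler_eq_h0_of_suppClosed k (suppClosed_tensor hL (suppClosed_quotMod I hI)),
    h0_tensor k hL (suppClosed_quotMod I hI)]
  ring

theorem h0_twist_le_genus [IsIntegral X] (hd : topologicalKrullDim X ≤ 1) (hL : PicF.IsInvertible L)
    (h1 : Nontrivial (Coh.HH X (CohB1.tensorMod L (ClSub.idealMod I)) 1)) :
    h k 0 (CohB1.tensorMod L (ClSub.idealMod I)) ≤ h k 1 (Coh.structureModule X) := by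
  haveI := isNoetherian_of_proper (X := X) k
  exact h0_le_genus k hd (isCoh_twist I hL) (suppClosed_cokernel_twist I hd hL) h1

theorem deg_le_of_h1_ne_zero [IsIntegral X] (hd : topologicalKrullDim X ≤ 1)
    (h0 : h k 0 (Coh.structureModule X) = 1) (hL : PicF.IsInvertible L)
    (hI : topologicalKrullDim (I.support : Set X) ≤ 0)
    (h1 : Nontrivial (Coh.HH X (CohB1.tensorMod L (ClSub.idealMod I)) 1)) :
    Curv2.deg k X L 1 ≤ 2 * (h k 1 (Coh.structureModule X) : ℤ) - 2 + h k 0 (ClSub.quotMod I) := by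
  haveI := isNoetherian_of_proper (X := X) k
  have hle := h0_twist_le_genus I k hd hL h1
  haveI := finite_HH' k (isCoh_twist I hL) 1
  have hpos : 1 ≤ h k 1 (CohB1.tensorMod L (ClSub.idealMod I)) := Module.finrank_pos
  have he := euler_twist I k hd hL hI
  rw [euler_eq k hd] at he
  have hdeg : Curv2.deg k X L 1 = Curv2.euler k X L - (1 : ℕ) * Curv2.euler k X (Coh.structureModule X) := rfl
  rw [euler_eq k hd (Coh.structureModule X), h0] at hdeg
  push_cast at hdeg
  omega

theorem subsingleton_h1_of_deg_gt [IsIntegral X] (hd : topologicalKrullDim X ≤ 1)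
    (h0 : h k 0 (Coh.structureModule X) = 1) (hL : PicF.IsInvertible L)
    (hdeg : 2 * (h k 1 (Coh.structureModule X) : ℤ) - 2 < Curv2.deg k X L 1) :
    Subsingleton (Coh.HH X L 1) := by
  haveI := isNoetherian_of_proper (X := X) k
  have hLc := Groth.L16.ProperFinite.isCoh_of_isInvertible hL
  by_contra hns
  haveI := finite_HH' k hLc 1
  have hle := h0_le_genus k hd hLc (fun φ hφ => suppClosed_cokernel hd hL hφ) (not_subsingleton_iff_nontrivial.1 hns)
  haveI := not_subsingleton_iff_nontrivial.1 hns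
  have hpos : 1 ≤ h k 1 L := Module.finrank_pos
  have hd' : Curv2.deg k X L 1 = Curv2.euler k X L - (1 : ℕ) * Curv2.euler k X (Coh.structureModule X) := rfl
  rw [euler_eq k hd, euler_eq k hd, h0] at hd'
  push_cast at hd'
  omega

end Tensor

section Generated

theorem isGloballyGenerated_of_sections {L : X.Modules}
    (hgen : ∀ x : X, ∃ φ : Coh.structureModule X ⟶ L, Function.Surjective (st φ x)) :
    Curv2.IsGloballyGenerated L := by
  refine ⟨Γ(L, ⊤), Sigma.desc fun s : Γ(L, ⊤) => Groth.L16.homOfSection L s, ?_⟩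
  refine (Groth.L21.Mod.epi_iff_stalk_surjective _).2 fun x v => ?_
  obtain ⟨φ, hφ⟩ := hgen x
  obtain ⟨w, hw⟩ := hφ v
  let ιs : Coh.structureModule X ⟶ ∐ fun _ : Γ(L, ⊤) => Coh.structureModule X :=
    Sigma.ι (fun _ : Γ(L, ⊤) => Coh.structureModule X) (φ.app ⊤ (oneSec X))
  refine ⟨st ιs x w, ?_⟩
  have h1 : ιs ≫ Sigma.desc (fun s : Γ(L, ⊤) => Groth.L16.homOfSection L s) = φ := by
    rw [Sigma.ι_desc]
    exact hom_ext_one (app_homOfSection_one _)
  rw [← hw]
  conv_rhs => rw [← h1]
  simp only [st, Functor.map_comp]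
  rfl

theorem exists_closed_specialization [CompactSpace X] (x : X) : ∃ z : X, IsClosed ({z} : Set X) ∧ x ⤳ z := by
  obtain ⟨y, hy, hyc⟩ := (isClosed_closure (s := ({x} : Set X))).exists_closed_singleton ⟨x, subset_closure rfl⟩
  exact ⟨y, hyc, specializes_iff_mem_closure.2 hy⟩

theorem surjective_st_of_specializes {L : X.Modules} (hL : PicF.IsInvertible L)
    {φ : Coh.structureModule X ⟶ L} {x z : X} (hxz : x ⤳ z) (hz : Function.Surjective (st φ z)) :
    Function.Surjective (st φ x) := by
  obtain ⟨W, e, hzW, he⟩ := Groth.L18.Frame.exists_frame hL z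
  obtain ⟨a, ha⟩ := exists_coeff_st he φ
  have hu := (surjective_st_iff (bijective_germ_frame he hzW) φ (ha z hzW).symm).1 hz
  have hxW : x ∈ W := hxz.mem_open W.2 hzW
  refine (surjective_st_iff (bijective_germ_frame he hxW) φ (ha x hxW).symm).2 ?_
  have h2 := hu.map (X.presheaf.stalkSpecializes hxz).hom
  rwa [TopCat.Presheaf.germ_stalkSpecializes_apply] at h2

theorem isSimple_quot_point {z : X} (hz : IsClosed ({z} : Set X)) :
    IsSimpleModule (X.presheaf.stalk z)
      ((ClSub.quotMod (Scheme.IdealSheafData.vanishingIdeal ⟨{z}, hz⟩)).presheaf.stalk z) := by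
  set I := Scheme.IdealSheafData.vanishingIdeal (⟨{z}, hz⟩ : Closeds X)
  have hr : Set.range I.subschemeι = {z} := by
    rw [Scheme.IdealSheafData.range_subschemeι, Groth.L18.support_vanishingIdeal]; rfl
  haveI : IsReduced I.subscheme := Groth.L18.isReduced_vanishingIdeal_subscheme _
  haveI : Subsingleton I.subscheme := ⟨fun a b => I.subschemeι.isEmbedding.injective
    ((hr ▸ Set.mem_range_self a : I.subschemeι a ∈ ({z} : Set X)).trans
      (hr ▸ Set.mem_range_self b : I.subschemeι b ∈ ({z} : Set X)).symm)⟩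
  obtain ⟨w, hw⟩ : z ∈ Set.range I.subschemeι := by rw [hr]; rfl
  haveI : IrreducibleSpace I.subscheme :=
    { isPreirreducible_univ := Set.Subsingleton.isPreirreducible Set.subsingleton_univ
      toNonempty := ⟨w⟩ }
  haveI : IsIntegral I.subscheme := isIntegral_of_irreducibleSpace_of_isReduced _
  have h1 := Groth.L16.CohClosedPush.len_push_structure (i := I.subschemeι)
  rw [show I.subschemeι (genericPoint I.subscheme) = z by rw [Subsingleton.elim (genericPoint I.subscheme) w, hw]] at h1
  exact Module.length_eq_one_iff.1 h1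

variable (k : Type u) [Field k] [X.Over (Spec (CommRingCat.of k))] [IsProper (X ↘ Spec (CommRingCat.of k))]
  [IsIntegral X]

/-- Degree at least `2g` implies global generation. -/
theorem isGloballyGenerated_of_deg (hd : topologicalKrullDim X ≤ 1)
    (h0 : h k 0 (Coh.structureModule X) = 1) {L : X.Modules} (hL : PicF.IsInvertible L)
    (hdeg : 2 * (h k 1 (Coh.structureModule X) : ℤ) ≤ Curv2.deg k X L 1) :
    Curv2.IsGloballyGenerated L := by
  haveI := isNoetherian_of_proper (X := X) k
  refine isGloballyGenerated_of_sections fun x => ?_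
  obtain ⟨z, hz, hxz⟩ := exists_closed_specialization x
  suffices hs : ∃ φ : Coh.structureModule X ⟶ L, Function.Surjective (st φ z) from
    hs.imp fun φ hφ => surjective_st_of_specializes hL hxz hφ
  set I := Scheme.IdealSheafData.vanishingIdeal (⟨{z}, hz⟩ : Closeds X) with hI
  have hIs : topologicalKrullDim (I.support : Set X) ≤ 0 := by
    rw [hI, Groth.L18.support_vanishingIdeal]
    haveI : DiscreteTopology ({z} : Set X) := inferInstance
    exact topologicalKrullDim_zero_of_discreteTopology ({z} : Set X)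
  have hQs := suppClosed_quotMod I hIs
  have hex := shortExact_tw I hL
  -- a section with non-zero image in `L ⊗ κ(z)`
  obtain ⟨t, ht⟩ : ∃ t : Coh.HH X L 0, hmap (twπ L I) 0 t ≠ 0 := by
    by_contra hall
    push Not at hall
    have hL1 := subsingleton_h1_of_deg_gt k hd h0 hL (by omega)
    rcases subsingleton_or_nontrivial (Coh.HH X (CohB1.tensorMod L (ClSub.idealMod I)) 1) with hs | hn
    · have hsimple := isSimple_quot_point hz
      haveI := hsimple.nontrivial
      obtain ⟨v, hv⟩ := exists_ne (0 : (ClSub.quotMod I).presheaf.stalk z)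
      obtain ⟨e, he⟩ := exists_frame_stalk hL z
      obtain ⟨q, hq, -⟩ := exists_section_germ (suppClosed_tensor hL hQs) z ((tensorStalkEquiv _ he).symm v)
      obtain ⟨t, ht⟩ := (Groth.L16.CohLinear.exact_hmap_delta hex 0 ((e0 _).symm q)).1 (hs.elim _ _)
      have hq0 : q = 0 := by
        rw [hall t] at ht
        exact (e0 _).symm.injective (ht.symm.trans (map_zero _).symm)
      rw [hq0, map_zero] at hq
      exact hv ((tensorStalkEquiv _ he).symm.injective (hq.symm.trans (map_zero _).symm))
    · have hle := h0_twist_le_genus I k hd hL hn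
      haveI := finite_HH' k (isCoh_twist I hL) 0
      have hsur : Function.Surjective (hk k (twι L I) 0) := fun t =>
        (Groth.L16.CohLinear.exact_hmap_hmap hex 0 t).1 (hall t)
      have h2 : h k 0 L ≤ h k 0 (CohB1.tensorMod L (ClSub.idealMod I)) :=
        LinearMap.finrank_le_finrank_of_surjective hsur
      have hd' : Curv2.deg k X L 1 = Curv2.euler k X L - (1 : ℕ) * Curv2.euler k X (Coh.structureModule X) := rfl
      rw [euler_eq k hd, euler_eq k hd, h0, h_eq_zero_of_subsingleton k hL1] at hd'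
      push_cast at hd'
      omega
  obtain ⟨φ, hφ⟩ := exists_hom_of_hh0 t
  refine ⟨φ, ?_⟩
  obtain ⟨W, e, hzW, he⟩ := Groth.L18.Frame.exists_frame hL z
  obtain ⟨a, ha⟩ := exists_coeff_st he φ
  refine (surjective_st_iff (bijective_germ_frame he hzW) φ (ha z hzW).symm).2 ?_
  by_contra hu
  apply ht
  apply (e0 _).injective
  rw [e0_hmap, map_zero, ← hφ]
  refine germ_ext fun y hy => ?_
  rw [map_zero]
  rcases eq_or_ne y z with rfl | hne
  · rw [← st_germ (twπ L I) hy]
    change st (twπ L I) y (L.presheaf.germ ⊤ y hy (φ.app ⊤ (oneSec X))) = 0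
    rw [← Groth.L20.ModStalk.germ_rs L (le_top : W ≤ ⊤) hzW, ← st_one φ y hzW, ha y hzW, map_smul]
    haveI : IsSimpleModule (X.presheaf.stalk y) ((CohB1.tensorMod L (ClSub.quotMod I)).presheaf.stalk y) :=
      haveI := isSimple_quot_point hz
      IsSimpleModule.congr (tensorStalkEquiv (ClSub.quotMod I) (bijective_germ_frame he hzW))
    by_contra hne0
    obtain ⟨c, hc⟩ := IsSimpleModule.toSpanSingleton_surjective (X.presheaf.stalk y) hne0
      (st (twπ L I) y (L.presheaf.germ W y hzW e))
    rw [LinearMap.toSpanSingleton_apply] at hc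
    rw [smul_smul] at hc
    have h3 : (1 - c * X.presheaf.germ W y hzW a) • st (twπ L I) y (L.presheaf.germ W y hzW e) = 0 := by
      rw [sub_smul, hc]
      exact sub_eq_zero.2 (one_smul _ _)
    have hmem : c * X.presheaf.germ W y hzW a ∈ IsLocalRing.maximalIdeal (X.presheaf.stalk y) :=
      Ideal.mul_mem_left _ _ hu
    obtain ⟨d, hd'⟩ := ((IsLocalRing.isUnit_or_isUnit_one_sub_self _).resolve_left hmem).exists_left_inv
    have h4 := congrArg (d • ·) h3
    simp only [smul_smul, hd', one_smul, smul_zero] at h4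
    exact hne0 (by rw [h4, smul_zero])
  · haveI : Subsingleton ((CohB1.tensorMod L (ClSub.quotMod I)).presheaf.stalk y) := by
      obtain ⟨e', he'⟩ := exists_frame_stalk hL y
      haveI := subsingleton_stalk_quotMod I (x := y) (by
        rw [hI, Groth.L18.support_vanishingIdeal]; exact hne)
      exact (tensorStalkEquiv _ he').toEquiv.subsingleton
    exact Subsingleton.elim _ _

end Generated

end Groth.L21.RR
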