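import Groth.Agent.L21.RR.Sections

/-!
Global sections of modules supported at closed points; a bound for `h⁰` from `h¹ ≠ 0`.
-/

set_option autoImplicit false
set_option linter.style.haveILetI false
universe u

open CategoryTheory CategoryTheory.Limits AlgebraicGeometry TopologicalSpace Opposite

noncomputable section

namespace Groth.L21.RR

open Groth.L16.CohLinear (hmap hmap_comp hmap_id overLin)
open Groth.L18.Frame (IsFrame rs ro)

variable {X : Scheme.{u}} (k : Type u) [Field k] [X.Over (Spec (CommRingCat.of k))]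

theorem e0_smul (M : X.Modules) (c : k) (x : Coh.HH X M 0) :
    e0 M (c • x) = (show Γ(X, ⊤) from Coh.toGlobal (X ↘ Spec (CommRingCat.of k)) c) • e0 M x := by
  obtain ⟨y, rfl⟩ := (e0 M).symm.surjective x
  apply (e0 M).symm.injective
  rw [AddEquiv.symm_apply_apply, AddEquiv.apply_symm_apply]
  refine (CategoryTheory.Sheaf.H.equiv₀_symm_naturality _
    (Coh.smulAb M (Coh.toGlobal (X ↘ Spec (CommRingCat.of k)) c)) y).trans (congrArg (e0 M).symm ?_)
  refine (Coh.smulAb_app M _ (op ⊤) y).trans ?_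
  exact congrArg (fun r => @HSMul.hSMul (X.ringCatSheaf.obj.obj (op ⊤)) (M.val.obj (op ⊤)) (M.val.obj (op ⊤)) _ r y)
    (Groth.L18.Frame.ro_self (le_rfl : (⊤ : X.Opens) ≤ ⊤) _)

omit [X.Over (Spec (CommRingCat.of k))] in
theorem germ_ext {M : X.Modules} {U : X.Opens} {a b : Γ(M, U)}
    (hab : ∀ (x : X) (hx : x ∈ U), M.presheaf.germ U x hx a = M.presheaf.germ U x hx b) : a = b :=
  TopCat.Presheaf.section_ext ((Groth.L21.Mod.toAbSh X).obj M) U a b hab

variable [AlgebraicGeometry.IsNoetherian X]

omit [X.Over (Spec (CommRingCat.of k))] in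
/-- A stalk element at a closed-support point extends by zero. -/
theorem exists_section_germ {M : X.Modules} (hM : SuppClosed M) (x : X) (v : M.presheaf.stalk x) :
    ∃ s : Γ(M, ⊤), M.presheaf.germ ⊤ x trivial s = v ∧ ∀ y, y ≠ x → M.presheaf.germ ⊤ y trivial s = 0 := by
  by_cases hv : v = 0
  · exact ⟨0, by rw [map_zero, hv], fun y _ => map_zero _⟩
  have hx : IsClosed ({x} : Set X) := by
    by_contra hc
    exact hv ((hM x hc).elim _ _)
  obtain ⟨V, hxV, r, rfl⟩ := TopCat.Presheaf.exists_germ_eq M.presheaf v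
  haveI := isFlasque_of_suppClosed hM
  -- shrink so that `r` is supported at `x` only
  let F : CohTop.Ab X.toTopCat := Coh.toAb M
  have hfin : {p : V | TopCat.Presheaf.germ F.obj V p.1 p.2 r ≠ 0}.Finite :=
    Top.finite_of_forall_isClosed (X := X.toTopCat) (Top.isClosed_setOf_germ_ne_zero (X := X.toTopCat) F V r)
      fun p hp => by
        by_contra hc
        exact hp ((hM p.1 hc).elim _ _)
  have hT : IsClosed (((Subtype.val : V → X) '' {p : V | TopCat.Presheaf.germ F.obj V p.1 p.2 r ≠ 0}) \ {x}) := by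
    rw [← Set.biUnion_of_singleton (((Subtype.val : V → X) '' {p : V | TopCat.Presheaf.germ F.obj V p.1 p.2 r ≠ 0}) \ {x})]
    refine ((hfin.image _).subset Set.diff_subset).isClosed_biUnion fun y hy => ?_
    obtain ⟨⟨p, hp, rfl⟩, -⟩ := hy
    by_contra hc
    exact hp ((hM p.1 hc).elim _ _)
  let V' : X.Opens := V ⊓ ⟨_, hT.isOpen_compl⟩
  have hxV' : x ∈ V' := ⟨hxV, fun h => h.2 rfl⟩
  let r' : Γ(M, V') := rs M inf_le_left r
  have hr' : ∀ (y : X) (hy : y ∈ V'), y ≠ x → M.presheaf.germ V' y hy r' = 0 := fun y hy hne => by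
    rw [Groth.L20.ModStalk.germ_rs]
    by_contra h
    exact hy.2 ⟨⟨⟨y, hy.1⟩, h, rfl⟩, hne⟩
  let W : X.Opens := ⟨({x} : Set X)ᶜ, hx.isOpen_compl⟩
  let O : ULift.{u} Bool → X.Opens := fun b => bif b.down then V' else W
  let sf : ∀ b, Γ(M, O b)
    | ⟨true⟩ => r'
    | ⟨false⟩ => 0
  have hcompat : TopCat.Presheaf.IsCompatible M.presheaf O sf := by
    intro i j
    refine germ_ext fun y hy => ?_
    rw [TopCat.Presheaf.germ_res_apply, TopCat.Presheaf.germ_res_apply]
    obtain ⟨(_ | _)⟩ := i <;> obtain ⟨(_ | _)⟩ := j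
    · rfl
    · exact (map_zero (M.presheaf.germ W y hy.1).hom).trans (hr' y hy.2 hy.1).symm
    · exact (hr' y hy.1 hy.2).trans (map_zero (M.presheaf.germ W y hy.2).hom).symm
    · rfl
  obtain ⟨t, ht, -⟩ := TopCat.Sheaf.existsUnique_gluing ((Groth.L21.Mod.toAbSh X).obj M) O sf hcompat
  have hle : (⊤ : X.Opens) ≤ iSup O := fun y _ => by
    rcases eq_or_ne y x with rfl | hne
    · exact Opens.mem_iSup.2 ⟨⟨true⟩, hxV'⟩
    · exact Opens.mem_iSup.2 ⟨⟨false⟩, hne⟩
  refine ⟨rs M hle t, ?_, fun y hy => ?_⟩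
  · rw [Groth.L20.ModStalk.germ_rs,
      ← TopCat.Presheaf.germ_res_apply M.presheaf (Opens.leSupr O ⟨true⟩) x hxV' t]
    refine (congrArg _ (ht ⟨true⟩)).trans ?_
    exact Groth.L20.ModStalk.germ_rs M inf_le_left hxV' r
  · rw [Groth.L20.ModStalk.germ_rs,
      ← TopCat.Presheaf.germ_res_apply M.presheaf (Opens.leSupr O ⟨false⟩) y (show y ∈ W from hy) t]
    exact (congrArg _ (ht ⟨false⟩)).trans (map_zero _)

omit [X.Over (Spec (CommRingCat.of k))] in
/-- A section of a module supported at closed points has finitely many non-zero germs. -/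
theorem finite_germ_ne_zero {M : X.Modules} (hM : SuppClosed M) (s : Γ(M, ⊤)) :
    {x : X | M.presheaf.germ ⊤ x trivial s ≠ 0}.Finite := by
  let F : CohTop.Ab X.toTopCat := Coh.toAb M
  have h := (Top.finite_of_forall_isClosed (X := X.toTopCat)
    (Top.isClosed_setOf_germ_ne_zero (X := X.toTopCat) F ⊤ s) fun p hp => by
      by_contra hc
      exact hp ((hM p.1 hc).elim _ _)).image (Subtype.val : ((⊤ : X.Opens) : Set X) → X)
  exact h.subset fun x hx => ⟨⟨x, trivial⟩, hx, rfl⟩

omit [X.Over (Spec (CommRingCat.of k))] in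
theorem exists_section_of_finite {M : X.Modules} (hM : SuppClosed M) (v : ∀ x, M.presheaf.stalk x)
    (T : Finset X) (hT : ∀ x ∉ T, v x = 0) :
    ∃ s : Γ(M, ⊤), ∀ x, M.presheaf.germ ⊤ x trivial s = v x := by
  classical
  choose S hS hS' using fun x => exists_section_germ hM x (v x)
  refine ⟨∑ x ∈ T, S x, fun y => ?_⟩
  rw [map_sum]
  by_cases hy : y ∈ T
  · rw [Finset.sum_eq_single y (fun z _ hz => hS' z y hz.symm) (fun h => absurd hy h), hS]
  · rw [hT y hy]
    exact Finset.sum_eq_zero fun z hz => hS' z y fun e => hy (e ▸ hz)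

/-- `h⁰` of modules supported at closed points only depends on the stalks. -/
theorem h0_eq_of_stalk_equiv {M N : X.Modules} (hM : SuppClosed M) (hN : SuppClosed N)
    (θ : ∀ x : X, M.presheaf.stalk x ≃ₗ[X.presheaf.stalk x] N.presheaf.stalk x) :
    h k 0 M = h k 0 N := by
  have key : ∀ m : Γ(M, ⊤), ∃! n : Γ(N, ⊤), ∀ x,
      N.presheaf.germ ⊤ x trivial n = θ x (M.presheaf.germ ⊤ x trivial m) := by
    intro m
    obtain ⟨n, hn⟩ := exists_section_of_finite hN (fun x => θ x (M.presheaf.germ ⊤ x trivial m))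
      (finite_germ_ne_zero hM m).toFinset fun x hx => by
        simp only [Set.Finite.mem_toFinset, Set.mem_setOf_eq, not_not] at hx
        rw [hx, map_zero]
    exact ⟨n, hn, fun n' hn' => germ_ext fun x _ => (hn' x).trans (hn x).symm⟩
  choose T hT hTu using key
  let L : Coh.HH X M 0 →ₗ[k] Coh.HH X N 0 :=
    { toFun := fun a => (e0 N).symm (T (e0 M a))
      map_add' := fun a b => (e0 N).injective <| by
        rw [map_add (e0 N), AddEquiv.apply_symm_apply, AddEquiv.apply_symm_apply, AddEquiv.apply_symm_apply]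
        refine (hTu (e0 M (a + b)) _ fun x => ?_).symm
        rw [map_add (e0 M), map_add, map_add, map_add, hT, hT]
      map_smul' := fun c a => (e0 N).injective <| by
        rw [RingHom.id_apply, e0_smul k N, AddEquiv.apply_symm_apply, AddEquiv.apply_symm_apply]
        refine (hTu (e0 M (c • a)) _ fun x => ?_).symm
        rw [e0_smul k M, Groth.L20.ModStalk.germ_smul, Groth.L20.ModStalk.germ_smul, hT]
        exact ((θ x).map_smul _ _).symm }
  refine LinearEquiv.finrank_eq (LinearEquiv.ofBijective L ⟨?_, fun b => ?_⟩)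
  · refine (injective_iff_map_eq_zero L).2 fun a ha => ?_
    refine (e0 M).injective (germ_ext fun x hx => ?_)
    have h1 : T (e0 M a) = 0 := by
      have h2 := congrArg (e0 N) ha
      rw [map_zero] at h2
      exact ((e0 N).apply_symm_apply _).symm.trans h2
    have h3 := hT (e0 M a) x
    rw [h1, map_zero] at h3
    rw [map_zero, map_zero]
    exact (θ x).injective (h3.symm.trans (map_zero _).symm)
  · obtain ⟨m, hm⟩ := exists_section_of_finite hM (fun x => (θ x).symm (N.presheaf.germ ⊤ x trivial (e0 N b)))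
      (finite_germ_ne_zero hN (e0 N b)).toFinset fun x hx => by
        simp only [Set.Finite.mem_toFinset, Set.mem_setOf_eq, not_not] at hx
        rw [hx, map_zero]
    refine ⟨(e0 M).symm m, (e0 N).injective ?_⟩
    change e0 N ((e0 N).symm (T (e0 M ((e0 M).symm m)))) = e0 N b
    rw [AddEquiv.apply_symm_apply, AddEquiv.apply_symm_apply]
    exact (hTu m (e0 N b) fun x => by rw [hm x, LinearEquiv.apply_symm_apply]).symm

omit [X.Over (Spec (CommRingCat.of k))] [AlgebraicGeometry.IsNoetherian X] in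
theorem hom_ext_one {M : X.Modules} {φ ψ : Coh.structureModule X ⟶ M}
    (hφψ : φ.app ⊤ (oneSec X) = ψ.app ⊤ (oneSec X)) : φ = ψ := by
  refine Groth.L21.Mod.hom_ext_stalk fun x => ?_
  ext v
  obtain ⟨a, rfl⟩ := (bijective_smul_one x).2 v
  change st φ x (a • one X x) = st ψ x (a • one X x)
  rw [map_smul, map_smul, st_one φ x (W := ⊤) trivial, st_one ψ x (W := ⊤) trivial, hφψ]

omit [AlgebraicGeometry.IsNoetherian X] in
/-- If `H¹(M) ≠ 0` and non-zero sections have finite cokernel, then `h⁰(M) ≤ h¹(O)`. -/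
theorem h0_le_genus [IsProper (X ↘ Spec (CommRingCat.of k))] (hd : topologicalKrullDim X ≤ 1) {M : X.Modules}
    (hM : Coh.IsCoh M) (htf : ∀ φ : Coh.structureModule X ⟶ M, φ ≠ 0 → SuppClosed (cokernel φ))
    (h1 : Nontrivial (Coh.HH X M 1)) : h k 0 M ≤ h k 1 (Coh.structureModule X) := by
  haveI := isNoetherian_of_proper (X := X) k
  haveI := finite_HH' k hM 1
  haveI := finite_HH' k hM 0
  haveI := finite_HH' k (Groth.L16.CohClosedPush.isCoh_structure (X := X)) 1
  obtain ⟨y, hy⟩ := exists_ne (0 : Coh.HH X M 1)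
  obtain ⟨f, hf⟩ : ∃ f : Module.Dual k (Coh.HH X M 1), f y ≠ 0 := by
    by_contra hall
    push Not at hall
    exact hy ((Module.forall_dual_apply_eq_zero_iff k y).1 hall)
  let one0 : Coh.HH X (Coh.structureModule X) 0 := (e0 _).symm (oneSec X)
  choose φ hφ using fun x : Coh.HH X M 0 => exists_hom_of_hh0 x
  have hφ0 : ∀ x, hmap (φ x) 0 one0 = x := fun x => (e0 M).injective (by
    rw [e0_hmap, AddEquiv.apply_symm_apply, hφ x])
  have huniq : ∀ (x : Coh.HH X M 0) (ψ : Coh.structureModule X ⟶ M), hmap ψ 0 one0 = x → φ x = ψ :=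
    fun x ψ hψ => hom_ext_one (by
      rw [hφ x, ← hψ, e0_hmap, AddEquiv.apply_symm_apply])
  let D : Coh.HH X M 0 →ₗ[k] Module.Dual k (Coh.HH X (Coh.structureModule X) 1) :=
    { toFun := fun x => f ∘ₗ hk k (φ x) 1
      map_add' := fun x x' => LinearMap.ext fun z => by
        have h : φ (x + x') = φ x + φ x' := huniq _ _ (by rw [hmap_add, hφ0, hφ0])
        change f (hmap (φ (x + x')) 1 z) = f (hmap (φ x) 1 z) + f (hmap (φ x') 1 z)
        rw [h, hmap_add, map_add]
      map_smul' := fun c x => LinearMap.ext fun z => by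
        let ψ : Coh.structureModule X ⟶ M :=
          Groth.L16.homOfSection (Coh.structureModule X)
            (show Γ(X, ⊤) from Coh.toGlobal (X ↘ Spec (CommRingCat.of k)) c) ≫ φ x
        have hc : ∀ (n : ℕ) (z : Coh.HH X (Coh.structureModule X) n), hmap ψ n z = c • hmap (φ x) n z := by
          intro n z
          refine (hmap_comp _ _ n z).trans ?_
          have hsm : hmap (Groth.L16.homOfSection (Coh.structureModule X)
              (show Γ(X, ⊤) from Coh.toGlobal (X ↘ Spec (CommRingCat.of k)) c)) n z = c • z := by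
            change Sheaf.H.map (Groth.L16.CohLinear.tm _) n z = _
            rw [show Groth.L16.CohLinear.tm (Groth.L16.homOfSection (Coh.structureModule X)
              (show Γ(X, ⊤) from Coh.toGlobal (X ↘ Spec (CommRingCat.of k)) c)) =
                Coh.smulAb (Coh.structureModule X) (Coh.toGlobal (X ↘ Spec (CommRingCat.of k)) c) from ?_]
            · rfl
            ext U m
            change (Groth.L16.homOfSection _ _).app U.unop m = _
            rw [Groth.L16.homOfSection_app, Coh.smulAb_app]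
            exact mul_comm (G := Γ(X, U.unop)) _ _
          rw [hsm]
          exact map_smul (hk k (φ x) n) c z
        have h : φ (c • x) = ψ := huniq _ _ (by rw [hc, hφ0])
        change f (hmap (φ (c • x)) 1 z) = c • f (hmap (φ x) 1 z)
        rw [h, hc, map_smul] }
  have hD : Function.Injective D := by
    refine (injective_iff_map_eq_zero D).2 fun x hx => ?_
    by_contra hx0
    have hne : φ x ≠ 0 := fun h0 => hx0 (by rw [← hφ0 x, h0, hmap_zero])
    obtain ⟨z, hz⟩ := surjective_hmap_one_of_suppClosed hd (φ x) (htf _ hne) y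
    exact hf (by rw [← hz]; exact LinearMap.congr_fun hx z)
  exact (LinearMap.finrank_le_finrank_of_injective hD).trans (Subspace.dual_finrank_eq).le

end Groth.L21.RR
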