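import Groth.Agent.L21.RR.Sections
import Mathlib.LinearAlgebra.Charpoly.Basic

/-!
The equality case of `h⁰(L) ≤ deg L + 1` on integral proper curves forces genus zero.
-/

set_option autoImplicit false
set_option linter.style.haveILetI false
universe u

open CategoryTheory CategoryTheory.Limits AlgebraicGeometry TopologicalSpace Opposite

noncomputable section

namespace Groth.L21.RR

open Groth.L16.CohLinear (hmap hmap_comp hmap_id overLin tm)
open Groth.L18.Frame (IsFrame rs ro)

variable {X : Scheme.{u}} (k : Type u) [Field k] [X.Over (Spec (CommRingCat.of k))]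

/-- Multiplication by a constant. -/
def mulC (c : k) : Coh.structureModule X ⟶ Coh.structureModule X :=
  Groth.L16.homOfSection (Coh.structureModule X)
    (show Γ(X, ⊤) from Coh.toGlobal (X ↘ Spec (CommRingCat.of k)) c)

theorem tm_mulC (c : k) :
    tm (mulC k c) = Coh.smulAb (Coh.structureModule X) (Coh.toGlobal (X ↘ Spec (CommRingCat.of k)) c) := by
  ext U m
  change (mulC k c).app U.unop m = _
  rw [mulC, Groth.L16.homOfSection_app, Coh.smulAb_app]
  exact mul_comm (G := Γ(X, U.unop)) _ _

theorem hk_mulC (c : k) (n : ℕ) (x : Coh.HH X (Coh.structureModule X) n) :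
    hmap (mulC k c) n x = c • x := by
  change Sheaf.H.map (tm (mulC k c)) n x = _
  rw [tm_mulC]
  rfl

/-- The constant in a local ring. -/
def cstAt (x : X) : k →+* X.presheaf.stalk x :=
  (X.presheaf.germ ⊤ x trivial).hom.comp (Coh.toGlobal (X ↘ Spec (CommRingCat.of k)))

theorem st_mulC (c : k) (x : X) (v : (Coh.structureModule X).presheaf.stalk x) :
    st (mulC k c) x v = cstAt k x c • v := by
  obtain ⟨a, rfl⟩ := (bijective_smul_one x).2 v
  change st (mulC k c) x (a • one X x) = _
  rw [map_smul, smul_smul, mul_comm, ← smul_smul]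
  congr 1
  rw [one, st_germ, mulC, app_homOfSection_one]
  refine Eq.trans ?_ (Groth.L20.ModStalk.germ_smul (Coh.structureModule X) (U := ⊤) (x := x) trivial
    (show Γ(X, ⊤) from Coh.toGlobal (X ↘ Spec (CommRingCat.of k)) c) (oneSec X))
  exact congrArg _ (mul_one (show Γ(X, ⊤) from Coh.toGlobal (X ↘ Spec (CommRingCat.of k)) c)).symm

theorem st_comp {M N P : X.Modules} (f : M ⟶ N) (g : N ⟶ P) (x : X) (v : M.presheaf.stalk x) :
    st (f ≫ g) x v = st g x (st f x v) := by
  simp only [st, Functor.map_comp]
  rfl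

theorem st_sum {ι : Type*} (s : Finset ι) {M N : X.Modules} (f : ι → (M ⟶ N)) (x : X) (v : M.presheaf.stalk x) :
    st (∑ j ∈ s, f j) x v = ∑ j ∈ s, st (f j) x v := by
  haveI : (Groth.L00.Stk.F X x).Additive := DerSch.additive_stalkFunctor x
  simp only [st, Functor.map_sum]
  exact LinearMap.congr_fun (map_sum (ModuleCat.homAddEquiv (M := (Groth.L00.Stk.F X x).obj M)
    (N := (Groth.L00.Stk.F X x).obj N)).toAddMonoidHom _ s) v |>.trans (LinearMap.sum_apply _ _ _)

variable [IsIntegral X]

omit [IsIntegral X] in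
theorem hmap_sum' {ι : Type*} (s : Finset ι) {M N : X.Modules} (f : ι → (M ⟶ N)) (n : ℕ) (x : Coh.HH X M n) :
    hmap (∑ j ∈ s, f j) n x = ∑ j ∈ s, hmap (f j) n x := by
  change Sheaf.H.map (tm (∑ j ∈ s, f j)) n x = _
  rw [tm, Functor.map_sum]
  exact Groth.L16.CohLinear.hMap_sum s _ n x

/-- Iterated "divide by `s`, multiply by `t`". -/
theorem exists_chain [IsLocallyNoetherian X] {L : X.Modules} (hLc : Coh.IsCoh L)
    (s t : Coh.structureModule X ⟶ L) [Mono s] (hsurj : Function.Surjective (st s (genericPoint X))) (m : ℕ) :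
    ∃ (J : X.Modules) (a : ℕ → (J ⟶ Coh.structureModule X)), Coh.IsCoh J ∧
      (∀ i, i < m → a (i + 1) ≫ s = a i ≫ t) ∧ Function.Surjective (st (a 0) (genericPoint X)) := by
  induction m with
  | zero =>
    refine ⟨_, fun _ => 𝟙 _, Groth.L16.CohClosedPush.isCoh_structure, fun i hi => absurd hi (Nat.not_lt_zero i),
      fun v => ⟨v, ?_⟩⟩
    simp only [st, CategoryTheory.Functor.map_id]
    rfl
  | succ m ih =>
    obtain ⟨J, a, hJ, hrel, ha⟩ := ih
    have hQ := (Groth.L16.CohKernel.isCoh_kernel_cokernel Groth.L16.CohClosedPush.isCoh_structure hLc s).2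
    let ψ := a m ≫ t ≫ cokernel.π s
    let ι' : kernel ψ ⟶ J := kernel.ι ψ
    let l : kernel ψ ⟶ Coh.structureModule X := Abelian.monoLift s (ι' ≫ a m ≫ t) (by
      simp only [Category.assoc]
      exact kernel.condition ψ)
    have hl : l ≫ s = ι' ≫ a m ≫ t := Abelian.monoLift_comp _ _ _
    refine ⟨kernel ψ, fun i => if i ≤ m then ι' ≫ a i else l, (Groth.L16.CohKernel.isCoh_kernel_cokernel hJ hQ ψ).1,
      fun i hi => ?_, ?_⟩
    · rcases Nat.lt_succ_iff_lt_or_eq.1 hi with h | rfl
      · simp only [if_pos h.le, if_pos (Nat.succ_le_of_lt h), Category.assoc, hrel i h]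
      · simp only [if_pos le_rfl, Nat.not_succ_le_self, ↓reduceIte, Category.assoc, hl]
    · simp only [Nat.zero_le, ↓reduceIte]
      have h0 : (Groth.L00.Stk.F X (genericPoint X)).map (cokernel.π s) = 0 := by
        haveI : Epi ((Groth.L00.Stk.F X (genericPoint X)).map s) := (ModuleCat.epi_iff_surjective _).2 hsurj
        refine zero_of_epi_comp ((Groth.L00.Stk.F X (genericPoint X)).map s) ?_
        rw [← Functor.map_comp, cokernel.condition, Functor.map_zero]
      have hs : (ShortComplex.mk (kernel.ι ψ) ψ (kernel.condition ψ)).Exact := ShortComplex.exact_kernel ψ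
      have hs' := hs.map (Groth.L00.Stk.F X (genericPoint X))
      have hι : Function.Surjective (st ι' (genericPoint X)) := fun v => by
        refine (ShortComplex.moduleCat_exact_iff _).1 hs' v ?_
        change ((Groth.L00.Stk.F X (genericPoint X)).map ψ) v = 0
        simp only [ψ, Functor.map_comp, h0, comp_zero]
        rfl
      intro v
      obtain ⟨w, rfl⟩ := ha v
      obtain ⟨z, rfl⟩ := hι w
      exact ⟨z, st_comp _ _ _ z⟩

variable [IsProper (X ↘ Spec (CommRingCat.of k))]

/-- Equality `h⁰(L) = deg L + 1` with positive degree forces `h¹(O) = 0`. -/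
theorem genus_eq_zero_of_h0_eq (hd : topologicalKrullDim X ≤ 1)
    (h0 : h k 0 (Coh.structureModule X) = 1) {L : X.Modules} (hL : PicF.IsInvertible L)
    (hs : Nontrivial (Coh.HH X L 0)) (heq : (h k 0 L : ℤ) = Curv2.deg k X L 1 + 1)
    (hpos : 0 < Curv2.deg k X L 1) : h k 1 (Coh.structureModule X) = 0 := by
  classical
  haveI := isNoetherian_of_proper (X := X) k
  have hO := Groth.L16.CohClosedPush.isCoh_structure (X := X)
  have hLc := Groth.L16.ProperFinite.isCoh_of_isInvertible hL
  haveI := finite_HH' k hO 1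
  haveI := finite_HH' k hLc 1
  obtain ⟨s, hs0⟩ := exists_hom_ne_zero (L := L)
  haveI := mono_of_ne_zero hL hs0
  have hdeg := deg_eq_h0_cokernel k hd hL hs0
  have hQcl := suppClosed_cokernel hd hL hs0
  have hQ := (Groth.L16.CohKernel.isCoh_kernel_cokernel hO hLc s).2
  -- surjectivity on global sections
  have hsurj0 : Function.Surjective (hmap (cokernel.π s) 0) :=
    (h0_le_add k hd hL hs0).2 (by omega)
  -- h¹(L) = h¹(O)
  have hχ : (h k 1 L : ℤ) = h k 1 (Coh.structureModule X) := by
    have h2 : Curv2.deg k X L 1 = Curv2.euler k X L - (1 : ℕ) * Curv2.euler k X (Coh.structureModule X) := rfl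
    rw [euler_eq k hd, euler_eq k hd, h0] at h2
    push_cast at h2
    omega
  let S₁ := hk k s 1
  have hS₁ : Function.Surjective S₁ := surjective_hmap_one_of_suppClosed hd s hQcl
  let eS : Coh.HH X (Coh.structureModule X) 1 ≃ₗ[k] Coh.HH X L 1 :=
    LinearEquiv.ofBijective S₁ ⟨(LinearMap.injective_iff_surjective_of_finrank_eq_finrank
      (by simpa [h] using hχ.symm)).2 hS₁, hS₁⟩
  -- a point where `s` vanishes
  obtain ⟨x, hxQ⟩ : ∃ x : X, ¬ Subsingleton ((cokernel s).presheaf.stalk x) := by
    by_contra hall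
    push Not at hall
    have hz : IsZero (cokernel s) := (Groth.L21.Mod.isZero_iff_stalk_subsingleton _).2 hall
    have hzero : ∀ y : Coh.HH X (cokernel s) 0, y = 0 := fun y => by
      rw [← hmap_id 0 y, hz.eq_of_src (𝟙 _) 0, hmap_zero]
    haveI : Subsingleton (Coh.HH X (cokernel s) 0) := subsingleton_of_forall_eq 0 hzero
    rw [h_eq_zero_of_subsingleton k ‹_›] at hdeg
    omega
  obtain ⟨W, e, hxW, he⟩ := Groth.L18.Frame.exists_frame hL x
  obtain ⟨a, ha⟩ := exists_coeff_st he s
  have hax : ¬ IsUnit (X.presheaf.germ W x hxW a) := fun hu => by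
    apply hxQ
    have hsx : Function.Surjective (st s x) :=
      (surjective_st_iff (bijective_germ_frame he hxW) s (ha x hxW).symm).2 hu
    haveI : Epi ((Groth.L00.Stk.F X x).map s) := (ModuleCat.epi_iff_surjective _).2 hsx
    refine ModuleCat.subsingleton_of_isZero (IsZero.of_epi_eq_zero ((Groth.L00.Stk.F X x).map (cokernel.π s)) ?_)
    refine zero_of_epi_comp ((Groth.L00.Stk.F X x).map s) ?_
    rw [← Functor.map_comp, cokernel.condition, Functor.map_zero]
  -- a section generating at `x`
  haveI hflq := isFlasque_of_suppClosed hQcl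
  obtain ⟨q, hq⟩ : ∃ q : Γ(cokernel s, ⊤), rs (cokernel s) (le_top : W ≤ ⊤) q = (cokernel.π s).app W e :=
    (AddCommGrpCat.epi_iff_surjective _).1 (hflq.epi (homOfLE (le_top : W ≤ ⊤)).op) _
  obtain ⟨y, hy⟩ := hsurj0 ((e0 (cokernel s)).symm q)
  obtain ⟨t, ht⟩ := exists_hom_of_hh0 y
  have htq : (cokernel.π s).app ⊤ (t.app ⊤ (oneSec X)) = q := by
    rw [ht, ← e0_hmap, hy, AddEquiv.apply_symm_apply]
  obtain ⟨b, hb⟩ := exists_coeff_st he t
  have hbx : IsUnit (X.presheaf.germ W x hxW b) := by
    have hπ : st (cokernel.π s) x (st t x (one X x)) = st (cokernel.π s) x (L.presheaf.germ W x hxW e) := by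
      rw [one, st_germ, st_germ, st_germ, htq, ← hq, Groth.L20.ModStalk.germ_rs]
    have hex : (ShortComplex.mk s (cokernel.π s) (cokernel.condition s)).Exact := ShortComplex.exact_cokernel s
    obtain ⟨v, hv⟩ := (ShortComplex.moduleCat_exact_iff _).1 (hex.map (Groth.L00.Stk.F X x))
      (L.presheaf.germ W x hxW e - st t x (one X x)) (by
        change st (cokernel.π s) x _ = 0
        rw [map_sub, hπ, sub_self])
    obtain ⟨c, rfl⟩ := (bijective_smul_one x).2 v
    change st s x (c • one X x) = _ at hv
    rw [map_smul, ha x hxW, hb x hxW, smul_smul] at hv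
    have h1 : c * X.presheaf.germ W x hxW a + X.presheaf.germ W x hxW b = 1 :=
      (bijective_germ_frame he hxW).1 (show _ • _ = _ • _ by
        rw [add_smul, hv, sub_add_cancel]; exact (one_smul _ _).symm)
    rcases IsLocalRing.isUnit_or_isUnit_of_add_one h1 with h | h
    · exact absurd (isUnit_of_mul_isUnit_right h) hax
    · exact h
  -- the endomorphism and its characteristic polynomial
  let φ : Module.End k (Coh.HH X (Coh.structureModule X) 1) := eS.symm.toLinearMap ∘ₗ hk k t 1
  let P := φ.charpoly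
  let m := P.natDegree
  by_contra hg
  have hm : P.natDegree = h k 1 (Coh.structureModule X) := φ.charpoly_natDegree
  have hη : genericPoint X ∈ W := ((genericPoint_spec X).specializes trivial).mem_open W.2 hxW
  have hsη : Function.Surjective (st s (genericPoint X)) := by
    refine (surjective_st_iff (bijective_germ_frame he hη) s (ha _ hη).symm).2 ?_
    have h0' : X.presheaf.germ W (genericPoint X) hη a ≠ 0 := fun h =>
      st_one_ne_zero hL hs0 (genericPoint X) (by rw [ha _ hη, h]; exact zero_smul _ _)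
    exact (isUnit_iff_ne_zero (G₀ := X.functionField)).2 h0'
  obtain ⟨J, A, -, hrel, hA0⟩ := exists_chain hLc s t hsη m
  have hpow : ∀ i, i ≤ m → ∀ y : Coh.HH X J 1, hmap (A i) 1 y = (φ ^ i) (hmap (A 0) 1 y) := by
    intro i
    induction i with
    | zero => intro _ y; simp
    | succ i ih =>
      intro hi y
      have h2 : hmap s 1 (hmap (A (i + 1)) 1 y) = hmap t 1 (hmap (A i) 1 y) := by
        rw [← hmap_comp, hrel i hi, hmap_comp]
      rw [pow_succ', Module.End.mul_apply, ← ih (Nat.le_of_succ_le hi) y]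
      exact eS.eq_symm_apply.2 h2
  let F : J ⟶ Coh.structureModule X := ∑ i ∈ Finset.range (m + 1), A i ≫ mulC k (P.coeff i)
  have hF0 : ∀ y : Coh.HH X J 1, hmap F 1 y = 0 := fun y => by
    rw [hmap_sum']
    have hCH : ∑ i ∈ Finset.range (m + 1), P.coeff i • φ ^ i = 0 := by
      rw [← Polynomial.aeval_eq_sum_range]; exact φ.aeval_self_charpoly
    refine Eq.trans (Finset.sum_congr rfl fun i hi => ?_)
      ((LinearMap.sum_apply _ _ _).symm.trans (LinearMap.congr_fun hCH (hmap (A 0) 1 y)))
    rw [hmap_comp, hk_mulC, hpow i (Nat.lt_succ_iff.1 (Finset.mem_range.1 hi)), LinearMap.smul_apply]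
  obtain ⟨v, hv⟩ := hA0 (one X (genericPoint X))
  let α := X.presheaf.germ W (genericPoint X) hη a
  let β := X.presheaf.germ W (genericPoint X) hη b
  have hval : ∀ i, i ≤ m → ∃ c : X.functionField, st (A i) (genericPoint X) v = c • one X (genericPoint X) ∧
      c * α ^ i = β ^ i := by
    intro i
    induction i with
    | zero => intro _; exact ⟨1, by rw [hv]; exact (one_smul _ _).symm, by simp⟩
    | succ i ih =>
      intro hi
      obtain ⟨c, hc, hcp⟩ := ih (Nat.le_of_succ_le hi)
      obtain ⟨c', hc'⟩ := (bijective_smul_one (genericPoint X)).2 (st (A (i + 1)) (genericPoint X) v)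
      refine ⟨c', hc'.symm, ?_⟩
      have h2 := congrArg (fun f => st f (genericPoint X) v) (hrel i hi)
      simp only [st_comp, ← hc', hc, map_smul, ha _ hη, hb _ hη, smul_smul] at h2
      have h3 : c' * α = c * β := (bijective_germ_frame he hη).1 h2
      calc c' * α ^ (i + 1) = (c' * α) * α ^ i := by ring
        _ = (c * β) * α ^ i := by rw [h3]
        _ = β ^ (i + 1) := by rw [mul_comm c β, mul_assoc, hcp, pow_succ']
  by_cases hFη : st F (genericPoint X) v = 0
  · choose! c hc hcp using hval
    have hsum : ∑ i ∈ Finset.range (m + 1), cstAt k (genericPoint X) (P.coeff i) * (α ^ (m - i) * β ^ i) = 0 := by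
      have h1 : ∑ i ∈ Finset.range (m + 1), cstAt k (genericPoint X) (P.coeff i) * c i = 0 := by
        refine (bijective_smul_one (genericPoint X)).1 ?_
        simp only [Finset.sum_smul]
        refine Eq.trans ?_ (hFη.trans (zero_smul (X.presheaf.stalk (genericPoint X)) _).symm)
        rw [st_sum]
        refine Finset.sum_congr rfl fun i hi => ?_
        rw [st_comp, st_mulC, hc i (Nat.lt_succ_iff.1 (Finset.mem_range.1 hi)), smul_smul]
      refine Eq.trans ?_ ((congrArg (α ^ m * ·) h1).trans (mul_zero _))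
      rw [Finset.mul_sum]
      refine Finset.sum_congr rfl fun i hi => ?_
      have hi' := Nat.lt_succ_iff.1 (Finset.mem_range.1 hi)
      rw [← hcp i hi', ← Nat.sub_add_cancel hi', pow_add, Nat.add_sub_cancel]
      ring
    let G : Γ(X, W) := ∑ i ∈ Finset.range (m + 1),
      ro (le_top : W ≤ ⊤) (Coh.toGlobal (X ↘ Spec (CommRingCat.of k)) (P.coeff i)) * (a ^ (m - i) * b ^ i)
    have hG : ∀ (p : X) (hp : p ∈ W), X.presheaf.germ W p hp G = ∑ i ∈ Finset.range (m + 1),
        cstAt k p (P.coeff i) * ((X.presheaf.germ W p hp a) ^ (m - i) * (X.presheaf.germ W p hp b) ^ i) :=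
      fun p hp => by
        simp only [G, map_sum, map_mul, map_pow]
        refine Finset.sum_congr rfl fun i _ => congrArg (· * _) ?_
        exact TopCat.Presheaf.germ_res_apply X.presheaf (homOfLE le_top) p hp _
    have hG0 : G = 0 := germ_injective_of_isIntegral X (genericPoint X) hη
      (((hG _ hη).trans hsum).trans (map_zero _).symm)
    have hx0 := hG x hxW
    rw [hG0, map_zero, Finset.sum_range_succ, Nat.sub_self, pow_zero, one_mul,
      φ.charpoly_monic.coeff_natDegree, map_one, one_mul] at hx0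
    have hmem : X.presheaf.germ W x hxW b ^ m ∈ IsLocalRing.maximalIdeal (X.presheaf.stalk x) := by
      rw [← neg_neg (X.presheaf.germ W x hxW b ^ m)]
      refine Submodule.neg_mem _ ?_
      rw [← eq_neg_of_add_eq_zero_left hx0.symm]
      refine Submodule.sum_mem _ fun i hi => Ideal.mul_mem_left _ _ (Ideal.mul_mem_right _ _ ?_)
      exact Ideal.pow_mem_of_mem _ hax _ (Nat.sub_pos_of_lt (Finset.mem_range.1 hi))
    exact hmem (hbx.pow m)
  · have hFs : SuppClosed (cokernel F) := suppClosed_cokernel_of_surjective F fun p hp w => by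
      have hpη : p = genericPoint X := by
        obtain ⟨z, hz, hzne⟩ : ∃ z, p ⤳ z ∧ p ≠ z := by
          by_contra hh
          push Not at hh
          exact hp (isClosed_of_closure_subset fun z hz => (hh z (specializes_iff_mem_closure.2 hz)).symm)
        exact ((Top.spec_of_dim_le_one (X := X.toTopCat) hd (genericPoint X) p z
          ((genericPoint_spec X).specializes trivial) hz).resolve_right hzne).symm
      subst hpη
      obtain ⟨d, hd'⟩ := (bijective_smul_one (genericPoint X)).2 (st F (genericPoint X) v)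
      obtain ⟨d', rfl⟩ := (bijective_smul_one (genericPoint X)).2 w
      have hd0 : (d : X.functionField) ≠ 0 := fun h => hFη (by
        rw [← hd', show d = (0 : X.presheaf.stalk (genericPoint X)) from h]; exact zero_smul _ _)
      refine ⟨((d' : X.functionField) * (d : X.functionField)⁻¹ : X.functionField) • v, ?_⟩
      change st F (genericPoint X) _ = _
      rw [map_smul, ← hd']
      exact (smul_smul _ _ _).trans (congrArg (· • one X (genericPoint X)) (inv_mul_cancel_right₀ hd0 d'))
    apply hg
    refine h_eq_zero_of_subsingleton k (subsingleton_of_forall_eq 0 fun z => ?_)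
    obtain ⟨y, rfl⟩ := surjective_hmap_one_of_suppClosed hd F hFs z
    exact hF0 y

end Groth.L21.RR
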