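import Groth.Agent.L21.RR.Twist
import Groth.Agent.L21.RR.Equality
import Groth.Agent.L18.AmpleOps

/-!
Multiplication of sections of invertible modules on curves: generation of powers.
-/

set_option autoImplicit false
set_option backward.isDefEq.respectTransparency false
set_option linter.style.haveILetI false
universe u

open CategoryTheory CategoryTheory.Limits AlgebraicGeometry TopologicalSpace Opposite

noncomputable section

namespace Groth.L21.RR

open Groth.L16.CohLinear (hmap hmap_comp hmap_id overLin)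
open Groth.L18.Frame (IsFrame rs ro rs_rs rs_self rs_smul)
open Groth.L18.GenLoc (tens tens_rs tens_smul_left tens_smul_right isFrame_tens secOf)

variable {X : Scheme.{u}} {L : X.Modules}

/-- Multiplication by a section of `L`. -/
def mulS (N : X.Modules) (φ : Coh.structureModule X ⟶ L) : N ⟶ CohB1.tensorMod N L :=
  ⟨PresheafOfModules.homMk
    { app := fun V => AddCommGrpCat.ofHom (AddMonoidHom.mk'
        (fun t : Γ(N, V.unop) => tens N L V.unop t (rs L le_top (secOf φ)))
        fun a b => Groth.L00.Tensor.ev_add₁ _ _ a b _)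
      naturality := fun {V₁ V₂} i => by
        ext t
        refine Eq.trans ?_ (tens_rs i.unop.le t _).symm
        rw [rs_rs]
        rfl }
    (fun V r t => tens_smul_left r t _)⟩

theorem mulS_app (N : X.Modules) (φ : Coh.structureModule X ⟶ L) (V : X.Opens) (t : Γ(N, V)) :
    (mulS N φ).app V t = tens N L V t (rs L le_top (secOf φ)) := rfl

/-- Stalk map of a multiplication in frames. -/
theorem st_mulS (N : X.Modules) (φ : Coh.structureModule X ⟶ L) {W : X.Opens} {e : Γ(N, W)} {ε : Γ(L, W)}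
    {b : Γ(X, W)} (hb : b • ε = rs L le_top (secOf φ)) {x : X} (hx : x ∈ W) (a : X.presheaf.stalk x) :
    st (mulS N φ) x (a • N.presheaf.germ W x hx e) =
      (a * X.presheaf.germ W x hx b) • (CohB1.tensorMod N L).presheaf.germ W x hx (tens N L W e ε) := by
  rw [map_smul, st_germ, mulS_app, ← hb, tens_smul_right, Groth.L20.ModStalk.germ_smul, smul_smul]

theorem exists_frames {N : X.Modules} (hN : PicF.IsInvertible N) (hL : PicF.IsInvertible L) (x : X) :
    ∃ (W : X.Opens) (e : Γ(N, W)) (ε : Γ(L, W)), x ∈ W ∧ IsFrame N W e ∧ IsFrame L W ε := by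
  obtain ⟨W, e, hx, he⟩ := Groth.L18.Frame.exists_frame hN x
  obtain ⟨W', ε, hx', hε⟩ := Groth.L18.Frame.exists_frame hL x
  exact ⟨W ⊓ W', _, _, ⟨hx, hx'⟩, he.mono inf_le_left, hε.mono inf_le_right⟩

theorem exists_coeff_secOf {W : X.Opens} {ε : Γ(L, W)} (hε : IsFrame L W ε) (φ : Coh.structureModule X ⟶ L) :
    ∃ b : Γ(X, W), b • ε = rs L le_top (secOf φ) ∧ ∀ (x : X) (hx : x ∈ W),
      X.presheaf.germ W x hx b • L.presheaf.germ W x hx ε = st φ x (one X x) := by
  obtain ⟨b, hb⟩ := hε.exists_coeff le_rfl (rs L le_top (secOf φ))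
  rw [rs_self] at hb
  refine ⟨b, hb, fun x hx => ?_⟩
  rw [← Groth.L20.ModStalk.germ_smul, hb, st_one φ x hx]
  rfl

theorem surjective_st_mulS {N : X.Modules} (hN : PicF.IsInvertible N) (hL : PicF.IsInvertible L)
    {φ : Coh.structureModule X ⟶ L} {x : X} (h : Function.Surjective (st φ x)) :
    Function.Surjective (st (mulS N φ) x) := fun v => by
  obtain ⟨W, e, ε, hx, he, hε⟩ := exists_frames hN hL x
  obtain ⟨b, hb, hb'⟩ := exists_coeff_secOf hε φ
  have hu := (surjective_st_iff (bijective_germ_frame hε hx) φ (hb' x hx)).1 h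
  obtain ⟨c, rfl⟩ := (bijective_germ_frame (isFrame_tens he hε) hx).2 v
  refine ⟨(c * ↑hu.unit⁻¹) • N.presheaf.germ W x hx e, ?_⟩
  rw [st_mulS N φ hb hx, mul_assoc, IsUnit.val_inv_mul, mul_one]

theorem mulS_comm (N : X.Modules) (hL : PicF.IsInvertible L) (φ ψ : Coh.structureModule X ⟶ L) :
    mulS N φ ≫ mulS _ ψ = mulS N ψ ≫ mulS _ φ := by
  refine Scheme.Modules.hom_ext _ _ fun V => ConcreteCategory.hom_ext _ _ fun t => ?_
  refine germ_ext fun x hx => ?_
  obtain ⟨W, ε, hxW, hε⟩ := Groth.L18.Frame.exists_frame hL x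
  obtain ⟨a, ha⟩ := hε.exists_coeff (inf_le_right : V ⊓ W ≤ W) (rs L le_top (secOf φ))
  obtain ⟨b, hb⟩ := hε.exists_coeff (inf_le_right : V ⊓ W ≤ W) (rs L le_top (secOf ψ))
  have hxU : x ∈ V ⊓ W := ⟨hx, hxW⟩
  rw [← Groth.L20.ModStalk.germ_rs (CohB1.tensorMod (CohB1.tensorMod N L) L) inf_le_left hxU,
    ← Groth.L20.ModStalk.germ_rs (CohB1.tensorMod (CohB1.tensorMod N L) L) inf_le_left hxU]
  congr 1
  show rs _ _ (tens _ L V (tens N L V t _) _) = rs _ _ (tens _ L V (tens N L V t _) _)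
  simp only [tens_rs, rs_rs]
  rw [← ha, ← hb]
  simp only [tens_smul_right, tens_smul_left, smul_smul, mul_comm]

/-- A stalk element killed by the cokernel is in the image. -/
theorem exists_of_st_cokernel {M M' : X.Modules} (f : M ⟶ M') (x : X) (v : M'.presheaf.stalk x)
    (hv : st (cokernel.π f) x v = 0) : ∃ u, st f x u = v := by
  have h := ((ShortComplex.exact_cokernel f).map (Groth.L00.Stk.F X x))
  exact (ShortComplex.moduleCat_exact_iff _).1 h v hv

section Integral

variable [IsIntegral X]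

theorem injective_st_mulS {N : X.Modules} (hN : PicF.IsInvertible N) (hL : PicF.IsInvertible L)
    {φ : Coh.structureModule X ⟶ L} (hφ : φ ≠ 0) (x : X) : Function.Injective (st (mulS N φ) x) := by
  refine (injective_iff_map_eq_zero _).2 fun v hv => ?_
  obtain ⟨W, e, ε, hx, he, hε⟩ := exists_frames hN hL x
  obtain ⟨b, hb, hb'⟩ := exists_coeff_secOf hε φ
  obtain ⟨a, rfl⟩ := (bijective_germ_frame he hx).2 v
  change st (mulS N φ) x (a • N.presheaf.germ W x hx e) = 0 at hv
  rw [st_mulS N φ hb hx] at hv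
  have h0 : a * X.presheaf.germ W x hx b = 0 :=
    (bijective_germ_frame (isFrame_tens he hε) hx).1 (hv.trans (zero_smul _ _).symm)
  rcases mul_eq_zero.1 h0 with h | h
  · show a • N.presheaf.germ W x hx e = 0
    rw [h, zero_smul]
  · exact absurd (by rw [← hb' x hx, h]; exact zero_smul _ _) (st_one_ne_zero hL hφ x)

theorem mono_mulS {N : X.Modules} (hN : PicF.IsInvertible N) (hL : PicF.IsInvertible L)
    {φ : Coh.structureModule X ⟶ L} (hφ : φ ≠ 0) : Mono (mulS N φ) :=
  (Groth.L21.Mod.mono_iff_stalk_injective _).2 fun x => injective_st_mulS hN hL hφ x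

theorem surjective_st_of_not_closed (hd : topologicalKrullDim X ≤ 1) (hL : PicF.IsInvertible L)
    {φ : Coh.structureModule X ⟶ L} (hφ : φ ≠ 0) {x : X} (hx : ¬ IsClosed ({x} : Set X)) :
    Function.Surjective (st φ x) := by
  obtain ⟨e, he⟩ := exists_frame_stalk hL x
  obtain ⟨b, hb⟩ := he.2 (st φ x (one X x))
  refine (surjective_st_iff he φ hb).2 ?_
  have hb0 : b ≠ 0 := fun h => st_one_ne_zero hL hφ x (by rw [← hb, h]; exact zero_smul _ _)
  obtain ⟨c, hc⟩ := (stalk_isField hd hx).mul_inv_cancel hb0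
  exact IsUnit.of_mul_eq_one c hc

theorem suppClosed_cokernel_mulS (hd : topologicalKrullDim X ≤ 1) {N : X.Modules} (hN : PicF.IsInvertible N)
    (hL : PicF.IsInvertible L) {φ : Coh.structureModule X ⟶ L} (hφ : φ ≠ 0) :
    SuppClosed (cokernel (mulS N φ)) :=
  suppClosed_cokernel_of_surjective _ fun _ hx =>
    surjective_st_mulS hN hL (surjective_st_of_not_closed hd hL hφ hx)

theorem mem_genLocus_iff (hL : PicF.IsInvertible L) (φ : Coh.structureModule X ⟶ L) (x : X) :
    x ∈ CohB1.genLocus L φ ↔ Function.Surjective (st φ x) := by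
  obtain ⟨W, ε, hx, hε⟩ := Groth.L18.Frame.exists_frame hL x
  obtain ⟨b, hb, hb'⟩ := exists_coeff_secOf hε φ
  rw [surjective_st_iff (bijective_germ_frame hε hx) φ (hb' x hx), ← X.mem_basicOpen b x hx,
    ← Groth.L18.GenLoc.genLocus_inf_eq φ hε hb]
  exact ⟨fun h => ⟨h, hx⟩, fun h => h.1⟩

theorem finite_compl_genLocus [CompactSpace X] [IsLocallyNoetherian X] (hd : topologicalKrullDim X ≤ 1)
    (hL : PicF.IsInvertible L) {φ : Coh.structureModule X ⟶ L} (hφ : φ ≠ 0) :
    {x : X | x ∉ CohB1.genLocus L φ}.Finite := by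
  haveI : AlgebraicGeometry.IsNoetherian X := ⟨⟩
  let F : Set (⊤ : X.Opens) := Subtype.val ⁻¹' ((CohB1.genLocus L φ : Set X)ᶜ)
  have h := (Top.finite_of_forall_isClosed (X := X.toTopCat) (U := ⊤) (F := F)
    ((CohB1.genLocus L φ).2.isClosed_compl.preimage continuous_subtype_val) fun p hp => by
      by_contra hc
      exact hp ((mem_genLocus_iff hL φ p.1).2 (surjective_st_of_not_closed hd hL hφ hc))).image
    (Subtype.val : ((⊤ : X.Opens) : Set X) → X)
  exact h.subset fun x hx => ⟨⟨x, trivial⟩, hx, rfl⟩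

variable [AlgebraicGeometry.IsNoetherian X]

theorem subsingleton_h1_tensor (hd : topologicalKrullDim X ≤ 1) {N : X.Modules} (hN : PicF.IsInvertible N)
    (hL : PicF.IsInvertible L) {φ : Coh.structureModule X ⟶ L} (hφ : φ ≠ 0)
    (h : Subsingleton (Coh.HH X N 1)) : Subsingleton (Coh.HH X (CohB1.tensorMod N L) 1) :=
  (surjective_hmap_one_of_suppClosed hd (mulS N φ) (suppClosed_cokernel_mulS hd hN hL hφ)).subsingleton

theorem exists_section_congr (hd : topologicalKrullDim X ≤ 1) {N : X.Modules} (hN : PicF.IsInvertible N)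
    (hL : PicF.IsInvertible L) {φ : Coh.structureModule X ⟶ L} (hφ : φ ≠ 0)
    (h1 : Subsingleton (Coh.HH X N 1)) (v : ∀ x, (CohB1.tensorMod N L).presheaf.stalk x) :
    ∃ t : Γ(CohB1.tensorMod N L, ⊤), ∀ x, ∃ u,
      st (mulS N φ) x u = (CohB1.tensorMod N L).presheaf.germ ⊤ x trivial t - v x := by
  haveI := mono_mulS hN hL hφ
  let π := cokernel.π (mulS N φ)
  have hT := finite_compl_genLocus hd hL hφ
  obtain ⟨s, hs⟩ := exists_section_of_finite (suppClosed_cokernel_mulS hd hN hL hφ)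
    (fun x => st π x (v x)) hT.toFinset fun x hx => by
      simp only [Set.Finite.mem_toFinset, Set.mem_setOf_eq, not_not] at hx
      obtain ⟨u, hu⟩ := surjective_st_mulS hN hL ((mem_genLocus_iff hL φ x).1 hx) (v x)
      rw [← hu, ← st_comp, cokernel.condition, st, Functor.map_zero]
      rfl
  have hS : (ShortComplex.mk (mulS N φ) π (cokernel.condition _)).ShortExact :=
    { exact := ShortComplex.exact_cokernel _ }
  obtain ⟨t, ht⟩ := (Groth.L16.CohLinear.exact_hmap_delta hS 0 ((e0 _).symm s)).1 (h1.elim _ _)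
  refine ⟨e0 _ t, fun x => exists_of_st_cokernel _ x _ ?_⟩
  have := congrArg (e0 _) ht
  rw [AddEquiv.apply_symm_apply, e0_hmap] at this
  rw [map_sub, st_germ, this, hs x, sub_self]

/-- Sections of `(N ⊗ L) ⊗ L` are sums of products of sections, if `H¹(N) = 0`. -/
theorem mem_closure_mulS (hd : topologicalKrullDim X ≤ 1) {N : X.Modules} (hN : PicF.IsInvertible N)
    (hL : PicF.IsInvertible L) {φ : Coh.structureModule X ⟶ L} (hφ : φ ≠ 0)
    (hgen : ∀ x : X, ∃ ψ : Coh.structureModule X ⟶ L, Function.Surjective (st ψ x))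
    (h1 : Subsingleton (Coh.HH X N 1)) (w : Γ(CohB1.tensorMod (CohB1.tensorMod N L) L, ⊤)) :
    w ∈ AddSubgroup.closure (⋃ ψ : Coh.structureModule X ⟶ L,
      Set.range ((mulS (CohB1.tensorMod N L) ψ).app ⊤)) := by
  classical
  have hM : PicF.IsInvertible (CohB1.tensorMod N L) := Groth.L18.GenLoc.isInvertible_tensor hN hL
  choose ψ hψ using hgen
  choose a ha using fun x => surjective_st_mulS hM hL (hψ x) ((CohB1.tensorMod (CohB1.tensorMod N L) L).presheaf.germ ⊤ x trivial w)
  choose t ht using fun z : X => exists_section_congr hd hN hL hφ h1 (Function.update 0 z (a z))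
  have hT := finite_compl_genLocus hd hL hφ
  set d := w - ∑ z ∈ hT.toFinset, (mulS (CohB1.tensorMod N L) (ψ z)).app ⊤ (t z) with hdef
  have hsum : ∑ z ∈ hT.toFinset, (mulS (CohB1.tensorMod N L) (ψ z)).app ⊤ (t z) ∈ AddSubgroup.closure
      (⋃ ψ : Coh.structureModule X ⟶ L, Set.range ((mulS (CohB1.tensorMod N L) ψ).app ⊤)) :=
    sum_mem fun z _ => AddSubgroup.subset_closure (Set.mem_iUnion.2 ⟨ψ z, _, rfl⟩)
  suffices hd0 : ∃ t₀, (mulS (CohB1.tensorMod N L) φ).app ⊤ t₀ = d by
    obtain ⟨t₀, ht₀⟩ := hd0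
    have hw : w = (mulS (CohB1.tensorMod N L) φ).app ⊤ t₀ + ∑ z ∈ hT.toFinset, (mulS (CohB1.tensorMod N L) (ψ z)).app ⊤ (t z) := by
      rw [ht₀, hdef, sub_add_cancel]
    rw [hw]
    exact add_mem (AddSubgroup.subset_closure (Set.mem_iUnion.2 ⟨φ, _, rfl⟩)) hsum
  haveI := mono_mulS hM hL hφ
  let π := cokernel.π (mulS (CohB1.tensorMod N L) φ)
  have hS : (ShortComplex.mk (mulS (CohB1.tensorMod N L) φ) π (cokernel.condition _)).ShortExact :=
    { exact := ShortComplex.exact_cokernel _ }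
  have hπ : ∀ (x : X) (u : (CohB1.tensorMod N L).presheaf.stalk x), st π x (st (mulS (CohB1.tensorMod N L) φ) x u) = 0 := fun x u => by
    rw [← st_comp, cokernel.condition, st, Functor.map_zero]
    rfl
  have hswap : ∀ (x : X) (χ : Coh.structureModule X ⟶ L) (u : N.presheaf.stalk x),
      st π x (st (mulS (CohB1.tensorMod N L) χ) x (st (mulS N φ) x u)) = 0 := fun x χ u => by
    rw [← st_comp (mulS N φ), mulS_comm N hL φ χ, st_comp]
    exact hπ x _
  have hd1 : π.app ⊤ d = 0 := germ_ext fun x hx => by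
    rw [map_zero, ← st_germ π hx]
    by_cases hxT : x ∈ hT.toFinset
    · have hsum0 : ∀ z, z ≠ x → st π x ((CohB1.tensorMod (CohB1.tensorMod N L) L).presheaf.germ ⊤ x hx ((mulS (CohB1.tensorMod N L) (ψ z)).app ⊤ (t z))) = 0 := fun z hz => by
        obtain ⟨u, hu⟩ := ht z x
        rw [Function.update_of_ne (Ne.symm hz), Pi.zero_apply, sub_zero] at hu
        rw [← st_germ (mulS (CohB1.tensorMod N L) (ψ z)) hx, ← hu]
        exact hswap x _ u
      obtain ⟨u, hu⟩ := ht x x
      rw [Function.update_self] at hu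
      rw [hdef, map_sub, map_sub, map_sum, map_sum, Finset.sum_eq_single x (fun z _ hz => hsum0 z hz)
        (fun h => absurd hxT h), ← st_germ (mulS (CohB1.tensorMod N L) (ψ x)) hx, ← ha x, ← map_sub, ← map_sub,
        ← neg_sub, ← hu, map_neg, map_neg, hswap x _ u, neg_zero]
    · simp only [Set.Finite.mem_toFinset, Set.mem_setOf_eq, not_not] at hxT
      obtain ⟨u, hu⟩ := surjective_st_mulS hM hL ((mem_genLocus_iff hL φ x).1 hxT) ((CohB1.tensorMod (CohB1.tensorMod N L) L).presheaf.germ ⊤ x hx d)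
      rw [← hu]
      exact hπ x u
  obtain ⟨t₀, ht₀⟩ := (Groth.L16.CohLinear.exact_hmap_hmap hS 0 ((e0 _).symm d)).1
    ((e0 _).injective (by rw [e0_hmap, AddEquiv.apply_symm_apply, hd1, map_zero]))
  refine ⟨e0 _ t₀, ?_⟩
  rw [← e0_hmap, ht₀, AddEquiv.apply_symm_apply]

end Integral

end Groth.L21.RR
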