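import Groth.Agent.L21.RR.PointPow
import Groth.Agent.L21.RR.Twist

/-!
Ideals of finite subschemes on smooth curves: invertibility, twists, tensoring with an invertible module.
-/

set_option autoImplicit false
set_option backward.isDefEq.respectTransparency false
set_option linter.style.haveILetI false
universe u

open CategoryTheory CategoryTheory.Limits AlgebraicGeometry TopologicalSpace Opposite IsLocalRing

noncomputable section

namespace Groth.L21.RR

variable {X : Scheme.{u}}

/-- The trivialisation of a tensor product on a stalk is natural. -/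
theorem tensorStalkEquiv_natural {L A B : X.Modules} (g : A ⟶ B) {x : X} {e : L.presheaf.stalk x}
    (he : Function.Bijective fun a : X.presheaf.stalk x => a • e) (v : (CohB1.tensorMod L A).presheaf.stalk x) :
    tensorStalkEquiv B he (st (((DCoh.tensorBi (X := X)).obj L).map g) x v) =
      st g x (tensorStalkEquiv A he v) := by
  have e1 : ((DCoh.tensorBi (X := X)).obj L).map g = Groth.L00.Tensor.tensorMap (𝟙 L) g := by
    refine congrArg (Groth.L00.Tensor.shf X).map ?_
    rw [CategoryTheory.Functor.map_id]
    exact (MonoidalCategory.id_tensorHom _ _).symm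
  obtain ⟨t, rfl⟩ := (Groth.L00.Stk.τ x L A).toLinearEquiv.surjective v
  have h1 : st (((DCoh.tensorBi (X := X)).obj L).map g) x ((Groth.L00.Stk.τ x L A).toLinearEquiv t) =
      (Groth.L00.Stk.τ x L B).toLinearEquiv (TensorProduct.map LinearMap.id ((Groth.L00.Stk.F X x).map g).hom t) := by
    have h2 := congr($(Groth.L00.Stk.τ_natural (x := x) (𝟙 L) g) t)
    rw [e1]
    refine Eq.trans h2.symm ?_
    rw [CategoryTheory.Functor.map_id]
    rfl
  rw [h1]
  clear h1
  simp only [tensorStalkEquiv, LinearEquiv.trans_apply]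
  erw [LinearEquiv.symm_apply_apply, LinearEquiv.symm_apply_apply]
  induction t using TensorProduct.induction_on with
  | zero => simp only [map_zero]
  | tmul p q =>
    simp only [TensorProduct.map_tmul, TensorProduct.congr_tmul, TensorProduct.lid_tmul]
    exact (map_smul (st g x) _ _).symm
  | add p q hp hq => simp only [map_add]; rw [hp, hq]

variable (k : Type u) [Field k] [IsIntegral X] [X.Over (Spec (CommRingCat.of k))]
  [IsProper (X ↘ Spec (CommRingCat.of k))]

/-- An ideal with finite subscheme of length different from one is nonzero. -/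
theorem genericPoint_notMem_support (I : X.IdealSheafData)
    (hI : h k 0 (ClSub.quotMod I) ≠ h k 0 (Coh.structureModule X)) :
    genericPoint X ∉ (I.support : Set X) := by
  intro hη
  refine hI ?_
  have hbot : ∀ (V : X.Opens) (hV : IsAffineOpen V), I.ideal ⟨V, hV⟩ = ⊥ := fun V hV => by
    by_contra hne
    obtain ⟨a, ha, ha0⟩ := Submodule.exists_mem_ne_zero_of_ne_bot hne
    have h1 := (Scheme.IdealSheafData.mem_support_iff.1 hη) ⟨V, hV⟩
    rw [Scheme.mem_zeroLocus_iff] at h1
    refine ha0 ((basicOpen_eq_bot_iff a).1 ?_)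
    by_contra hne'
    obtain ⟨y, hy⟩ : ∃ y, y ∈ X.basicOpen a := by
      by_contra hh
      exact hne' (Opens.ext (Set.eq_empty_iff_forall_notMem.2 fun y hy => hh ⟨y, hy⟩))
    exact h1 a ha (((genericPoint_spec X).specializes trivial).mem_open (X.basicOpen a).2 hy)
  haveI : Mono (ClSub.idealModι I) := inferInstanceAs (Mono (kernel.ι _))
  have hsub : ∀ y : X, Subsingleton ((ClSub.idealMod I).presheaf.stalk y) := fun y => by
    obtain ⟨V, hV, hyV, -⟩ := exists_isAffineOpen_mem_and_subset (x := y) (U := ⊤) trivial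
    have hinj := (Groth.L21.Mod.mono_iff_stalk_injective (ClSub.idealModι I)).1 inferInstance y
    refine subsingleton_of_forall_eq 0 fun v => hinj ?_
    obtain ⟨r, hr, hrv⟩ := (range_st_idealModι I hV hyV _).1 ⟨v, rfl⟩
    rw [hbot V hV, Ideal.map_bot, Ideal.mem_bot] at hr
    refine (show st (ClSub.idealModι I) y v = st (ClSub.idealModι I) y 0 from ?_)
    rw [map_zero, ← hrv, hr, zero_smul]
  haveI : Epi (ClSub.toSubscheme I) := epi_toSubscheme I
  haveI : Mono (ClSub.toSubscheme I) := Abelian.mono_of_kernel_ι_eq_zero _ (by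
    refine (Groth.L21.Mod.eq_zero_iff_stalk _).2 fun y => ?_
    ext v
    exact (congrArg (st (ClSub.idealModι I) y) ((hsub y).elim v (0 : (ClSub.idealMod I).presheaf.stalk y))).trans
      (map_zero _))
  haveI : IsIso (ClSub.toSubscheme I) := isIso_of_mono_of_epi _
  exact (h_congr k (asIso (ClSub.toSubscheme I)) 0).symm

theorem suppClosed_quotMod_of_notMem (hd : topologicalKrullDim X ≤ 1) (I : X.IdealSheafData)
    (hI : genericPoint X ∉ (I.support : Set X)) : SuppClosed (ClSub.quotMod I) := fun x hx =>
  subsingleton_stalk_quotMod I (eq_genericPoint_of_not_isClosed hd hx ▸ hI)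

theorem euler_twist_ideal (hd : topologicalKrullDim X ≤ 1) {L : X.Modules} (hL : PicF.IsInvertible L)
    (I : X.IdealSheafData) (hI : genericPoint X ∉ (I.support : Set X)) :
    Curv2.euler k X (CohB1.tensorMod L (ClSub.idealMod I)) =
      Curv2.euler k X L - h k 0 (ClSub.quotMod I) := by
  haveI := isNoetherian_of_proper (X := X) k
  have hs := suppClosed_quotMod_of_notMem hd I hI
  have hadd := euler_add k hd (shortExact_tw I hL) (isCoh_twist I hL) (Groth.L16.ProperFinite.isCoh_of_isInvertible hL)
    (isCoh_twistQuot I hL)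
  rw [euler_eq_h0_of_suppClosed k (suppClosed_tensor hL hs), h0_tensor k hL hs] at hadd
  linarith

variable [Smooth (X ↘ Spec (CommRingCat.of k))]

include k in
/-- Nonzero ideals on smooth curves are invertible. -/
theorem isInvertible_idealMod (hd : topologicalKrullDim X = 1) (I : X.IdealSheafData)
    (hI : genericPoint X ∉ (I.support : Set X)) : PicF.IsInvertible (ClSub.idealMod I) := by
  haveI := isNoetherian_of_proper (X := X) k
  haveI : Mono (ClSub.idealModι I) := inferInstanceAs (Mono (kernel.ι _))
  have hinj := (Groth.L21.Mod.mono_iff_stalk_injective (ClSub.idealModι I)).1 inferInstance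
  refine Groth.L18.GenLoc.isInvertible_of_frames fun y => ?_
  have htf : ∀ z : X, Module.IsTorsionFree (X.presheaf.stalk z) ((ClSub.idealMod I).presheaf.stalk z) := fun z => by
    let θ := LinearEquiv.ofBijective (LinearMap.toSpanSingleton (X.presheaf.stalk z)
      ((Coh.structureModule X).presheaf.stalk z) (one X z)) (bijective_smul_one z)
    exact Function.Injective.moduleIsTorsionFree _
      (θ.symm.injective.comp (hinj z)) fun r v => by
        show θ.symm (st (ClSub.idealModι I) z (r • v)) = r • θ.symm (st (ClSub.idealModι I) z v)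
        rw [map_smul, map_smul]
  obtain ⟨V, hV, hyV, -⟩ := exists_isAffineOpen_mem_and_subset (x := y) (U := ⊤) trivial
  haveI : (maximalIdeal (X.presheaf.stalk y)).IsPrincipal := Groth.L21.P1.isPrincipal_of_smooth (k := k) hd.le y
  haveI : IsPrincipalIdealRing (X.presheaf.stalk y) :=
    ((tfae_of_isNoetherianRing_of_isLocalRing_of_isDomain (R := X.presheaf.stalk y)).out 4 0
      (a := (maximalIdeal (X.presheaf.stalk y)).IsPrincipal) (b := IsPrincipalIdealRing (X.presheaf.stalk y))).1 ‹_›
  let J := (I.ideal ⟨V, hV⟩).map (X.presheaf.germ V y hyV).hom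
  obtain ⟨a, ha⟩ := (IsPrincipalIdealRing.principal J).principal
  have hne : I.ideal ⟨V, hV⟩ ≠ ⊥ := fun h0 => by
    have hη : genericPoint X ∈ V := ((genericPoint_spec X).specializes trivial).mem_open V.2 hyV
    refine hI ((Scheme.IdealSheafData.mem_support_iff_of_mem (U := ⟨V, hV⟩) hη).2 ?_)
    rw [h0, Scheme.mem_zeroLocus_iff]
    intro f hf
    rw [Ideal.mem_bot.1 hf, Scheme.basicOpen_zero]
    exact fun h => h
  have ha0 : a ≠ 0 := fun h0 => by
    obtain ⟨b, hb, hb0⟩ := Submodule.exists_mem_ne_zero_of_ne_bot hne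
    have h1 : X.presheaf.germ V y hyV b ∈ J := Ideal.mem_map_of_mem _ hb
    rw [ha, h0, Submodule.span_singleton_eq_bot.2 rfl, Submodule.mem_bot] at h1
    exact hb0 (germ_injective_of_isIntegral X y hyV (h1.trans (map_zero _).symm))
  obtain ⟨u, hu⟩ := (range_st_idealModι I hV hyV (a • one X y)).2
    ⟨a, by show a ∈ J; rw [ha]; exact Submodule.mem_span_singleton_self a, rfl⟩
  have hspan : Submodule.span (X.presheaf.stalk y) {u} = ⊤ := eq_top_iff.2 fun v _ => by
    obtain ⟨r, hr, hrv⟩ := (range_st_idealModι I hV hyV _).1 ⟨v, rfl⟩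
    change r ∈ J at hr
    rw [ha] at hr
    obtain ⟨b, rfl⟩ := Submodule.mem_span_singleton.1 hr
    exact Submodule.mem_span_singleton.2 ⟨b, hinj y ((map_smul (st (ClSub.idealModι I) y) b u).trans
      (by rw [hu, smul_smul]; exact hrv))⟩
  refine Groth.L03.RefRegSch.exists_frame (isCoh_idealMod I) htf u (fun h0 => ha0 ?_) hspan
  obtain ⟨W, hyW, s, rfl⟩ := TopCat.Presheaf.exists_germ_eq (ClSub.idealMod I).presheaf u
  rw [Groth.L15.Ref.toEta_germ] at h0
  rw [st_germ] at hu
  have hηW : genericPoint X ∈ W := ((genericPoint_spec X).specializes trivial).mem_open W.2 hyW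
  have h7 : (Coh.structureModule X).presheaf.germ W (genericPoint X) hηW ((ClSub.idealModι I).app W s) = 0 := by
    rw [← st_germ (ClSub.idealModι I) hηW s, h0, map_zero]
  have h8 : (ClSub.idealModι I).app W s = 0 :=
    Groth.L21.Duality.gη_injective (Groth.L18.Ample.isInvertible_structureModule X) hηW (h7.trans (map_zero _).symm)
  rw [h8, map_zero] at hu
  exact (bijective_smul_one y).1 (hu.symm.trans (zero_smul _ _).symm)

end Groth.L21.RR
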