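import Groth.Agent.L21.RR.PointTwist
import Groth.Agent.L18.IdealModule
import Groth.Agent.L15.Ref.PrimeIdeal
import Mathlib.RingTheory.DiscreteValuationRing.TFAE

/-!
Powers of the ideal of a regular closed point of a curve: invertibility and Euler characteristic.
-/

set_option autoImplicit false
set_option backward.isDefEq.respectTransparency false
set_option linter.style.haveILetI false
universe u

open CategoryTheory CategoryTheory.Limits AlgebraicGeometry TopologicalSpace Opposite IsLocalRing

noncomputable section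

namespace Groth.L21.RR

attribute [local instance] Curv2.resAlgebra

variable {X : Scheme.{u}}

theorem germ_eq_smul_one {V : X.Opens} {z : X} (hz : z ∈ V) (a : Γ(X, V)) :
    (Coh.structureModule X).presheaf.germ V z hz (show Γ(Coh.structureModule X, V) from a) =
      X.presheaf.germ V z hz a • one X z := by
  have h1 : one X z = (Coh.structureModule X).presheaf.germ V z hz
      (Groth.L18.Frame.rs (Coh.structureModule X) (le_top : V ≤ ⊤) (oneSec X)) :=
    (Groth.L20.ModStalk.germ_rs (Coh.structureModule X) (le_top : V ≤ ⊤) hz (oneSec X)).symm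
  rw [h1, ← Groth.L20.ModStalk.germ_smul]
  refine congrArg _ ?_
  show a = a * (X.presheaf.map (homOfLE (le_top : V ≤ ⊤)).op) (1 : Γ(X, ⊤))
  rw [map_one, mul_one]

/-- The stalks of an ideal module. -/
theorem range_st_idealModι (I : X.IdealSheafData) {x : X} {V : X.Opens} (hV : IsAffineOpen V) (hxV : x ∈ V)
    (v : (Coh.structureModule X).presheaf.stalk x) :
    (∃ u, st (ClSub.idealModι I) x u = v) ↔
      ∃ r ∈ (I.ideal ⟨V, hV⟩).map (X.presheaf.germ V x hxV).hom, r • one X x = v := by
  constructor
  · rintro ⟨u, rfl⟩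
    obtain ⟨W, hxW, n, rfl⟩ := TopCat.Presheaf.exists_germ_eq (F := (ClSub.idealMod I).presheaf) (x := x) u
    obtain ⟨V', hV', hxV', hV'W⟩ := exists_isAffineOpen_mem_and_subset (x := x) (U := W ⊓ V) ⟨hxW, hxV⟩
    have hW : V' ≤ W := fun z hz => (hV'W hz).1
    have hle : V' ≤ V := fun z hz => (hV'W hz).2
    let n' := Groth.L18.Frame.rs (ClSub.idealMod I) hW n
    have hn' : (show Γ(X, V') from (ClSub.idealModι I).app V' n') ∈ I.ideal ⟨V', hV'⟩ :=
      (Groth.L18.IdealModule.mem_ideal_iff I hV' _).2 ⟨n', rfl⟩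
    refine ⟨X.presheaf.germ V' x hxV' (show Γ(X, V') from (ClSub.idealModι I).app V' n'), ?_, ?_⟩
    · have h1 := Ideal.mem_map_of_mem (X.presheaf.germ V' x hxV').hom hn'
      rw [← I.map_ideal (U := ⟨V', hV'⟩) (V := ⟨V, hV⟩) hle, Ideal.map_map] at h1
      convert h1 using 3
      ext a
      exact (X.presheaf.germ_res_apply _ _ _ _).symm
    · rw [← germ_eq_smul_one hxV', ← Groth.L20.ModStalk.germ_rs (ClSub.idealMod I) hW hxV' n, st_germ]
  · rintro ⟨r, hr, rfl⟩
    suffices h : (I.ideal ⟨V, hV⟩).map (X.presheaf.germ V x hxV).hom ≤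
        (LinearMap.range (st (ClSub.idealModι I) x)).comap
          (LinearMap.toSpanSingleton (X.presheaf.stalk x) ((Coh.structureModule X).presheaf.stalk x) (one X x)) from
      LinearMap.mem_range.1 (h hr)
    refine Ideal.map_le_iff_le_comap.2 fun a ha => ?_
    obtain ⟨m, hm⟩ := (Groth.L18.IdealModule.mem_ideal_iff I hV a).1 ha
    refine ⟨(ClSub.idealMod I).presheaf.germ V x hxV m, ?_⟩
    rw [st_germ, LinearMap.toSpanSingleton_apply, ← germ_eq_smul_one hxV]
    exact congrArg _ hm

theorem map_vanishingIdeal_point {P : X} (hP : IsClosed ({P} : Set X)) {V : X.Opens} (hV : IsAffineOpen V)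
    (hPV : P ∈ V) :
    ((Scheme.IdealSheafData.vanishingIdeal ⟨{P}, hP⟩).ideal ⟨V, hV⟩).map (X.presheaf.germ V P hPV).hom =
      maximalIdeal (X.presheaf.stalk P) := by
  letI := X.presheaf.algebra_section_stalk (⟨P, hPV⟩ : V)
  haveI := hV.isLocalization_stalk ⟨P, hPV⟩
  have hpre : hV.fromSpec ⁻¹' ({P} : Set X) = {hV.primeIdealOf ⟨P, hPV⟩} := by
    ext q
    refine ⟨fun hq => hV.fromSpec.isOpenEmbedding.injective (hq.trans (hV.fromSpec_primeIdealOf ⟨P, hPV⟩).symm),
      fun hq => ?_⟩
    rw [Set.mem_singleton_iff.1 hq]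
    exact hV.fromSpec_primeIdealOf ⟨P, hPV⟩
  rw [Scheme.IdealSheafData.vanishingIdeal_ideal]
  show (PrimeSpectrum.vanishingIdeal (hV.fromSpec ⁻¹' ({P} : Set X))).map (algebraMap Γ(X, V) (X.presheaf.stalk P)) = _
  rw [hpre, PrimeSpectrum.vanishingIdeal_singleton, IsLocalization.AtPrime.map_eq_maximalIdeal]

theorem map_vanishingIdeal_point_pow {P : X} (hP : IsClosed ({P} : Set X)) (n : ℕ) {V : X.Opens}
    (hV : IsAffineOpen V) (hPV : P ∈ V) :
    ((Scheme.IdealSheafData.vanishingIdeal ⟨{P}, hP⟩ ^ n).ideal ⟨V, hV⟩).map (X.presheaf.germ V P hPV).hom =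
      maximalIdeal (X.presheaf.stalk P) ^ n := by
  rw [Scheme.IdealSheafData.ideal_pow, Pi.pow_apply, Ideal.map_pow, map_vanishingIdeal_point hP hV hPV]

theorem surjective_st_idealModι_pow_of_ne {P : X} (hP : IsClosed ({P} : Set X)) (n : ℕ) {y : X} (hy : y ≠ P) :
    Function.Surjective (st (ClSub.idealModι (Scheme.IdealSheafData.vanishingIdeal ⟨{P}, hP⟩ ^ n)) y) := fun v => by
  obtain ⟨V, hV, hyV, hVP⟩ := exists_isAffineOpen_mem_and_subset (x := y) (U := ⟨_, hP.isOpen_compl⟩) hy
  obtain ⟨r, rfl⟩ := (bijective_smul_one y).2 v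
  refine (range_st_idealModι _ hV hyV _).2 ⟨r, ?_, rfl⟩
  have htop : (Scheme.IdealSheafData.vanishingIdeal ⟨{P}, hP⟩).ideal ⟨V, hV⟩ = ⊤ := by
    rw [Scheme.IdealSheafData.vanishingIdeal_ideal]
    show PrimeSpectrum.vanishingIdeal (hV.fromSpec ⁻¹' ({P} : Set X)) = ⊤
    rw [show hV.fromSpec ⁻¹' ({P} : Set X) = ∅ from Set.eq_empty_iff_forall_notMem.2 fun q hq => by
      have h1 : hV.fromSpec q ∈ V := by
        have := Set.mem_range_self (f := hV.fromSpec) q
        rwa [hV.range_fromSpec] at this
      exact hVP h1 hq]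
    exact PrimeSpectrum.vanishingIdeal_empty
  rw [Scheme.IdealSheafData.ideal_pow, Pi.pow_apply, htop, Ideal.top_pow, Ideal.map_top]
  exact Submodule.mem_top

variable [IsIntegral X]

/-- A regular closed point of a curve has a discrete valuation ring. -/
theorem isDiscreteValuationRing_stalk (hd : topologicalKrullDim X = 1) {P : X} (hP : IsClosed ({P} : Set X))
    (hreg : IsRegularLocalRing (X.presheaf.stalk P)) : IsDiscreteValuationRing (X.presheaf.stalk P) := by
  haveI := hreg
  have hle : ringKrullDim (X.presheaf.stalk P) ≤ 1 :=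
    (Groth.L21.SmoothDescent.ringKrullDim_stalk_le P).trans hd.le
  have hge : (1 : WithBot ℕ∞) ≤ ringKrullDim (X.presheaf.stalk P) :=
    (Groth.L18.CurveDim.one_le_dim_stalk_iff P).2
      ⟨genericPoint X, (genericPoint_spec X).specializes trivial, (ne_genericPoint_of_isClosed hd hP).symm⟩
  have hnf : ¬ IsField (X.presheaf.stalk P) := fun hf => by
    rw [ringKrullDim_eq_zero_of_isField hf] at hge
    exact absurd hge (by norm_num)
  exact ((IsDiscreteValuationRing.TFAE (X.presheaf.stalk P) hnf).out 0 4 (a := IsDiscreteValuationRing (X.presheaf.stalk P))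
    (b := (maximalIdeal (X.presheaf.stalk P)).IsPrincipal)).2
    (Groth.L21.SmoothDescent.isPrincipal_of_dim_le_one hle)

variable (k : Type u) [Field k] [X.Over (Spec (CommRingCat.of k))] [IsProper (X ↘ Spec (CommRingCat.of k))]

/-- The ideal of a multiple of a regular point. -/
theorem idealMod_point_pow (hd : topologicalKrullDim X = 1) {P : X} (hP : IsClosed ({P} : Set X))
    (hreg : IsRegularLocalRing (X.presheaf.stalk P)) (n : ℕ) :
    PicF.IsInvertible (ClSub.idealMod (Scheme.IdealSheafData.vanishingIdeal ⟨{P}, hP⟩ ^ n)) ∧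
      Curv2.euler k X (ClSub.idealMod (Scheme.IdealSheafData.vanishingIdeal ⟨{P}, hP⟩ ^ n)) =
        Curv2.euler k X (Coh.structureModule X) - n * Module.finrank k (X.residueField P) := by
  haveI := isNoetherian_of_proper (X := X) k
  haveI := isDiscreteValuationRing_stalk hd hP hreg
  set I := Scheme.IdealSheafData.vanishingIdeal (⟨{P}, hP⟩ : Closeds X) ^ n
  obtain ⟨V, hV, hPV, -⟩ := exists_isAffineOpen_mem_and_subset (x := P) (U := ⊤) trivial
  have hrange : ∀ v, (∃ u, st (ClSub.idealModι I) P u = v) ↔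
      ∃ r ∈ maximalIdeal (X.presheaf.stalk P) ^ n, r • one X P = v := fun v => by
    rw [range_st_idealModι I hV hPV, map_vanishingIdeal_point_pow hP n hV hPV]
  haveI : Mono (ClSub.idealModι I) := inferInstanceAs (Mono (kernel.ι _))
  have hinj := (Groth.L21.Mod.mono_iff_stalk_injective (ClSub.idealModι I)).1 inferInstance
  have hI := isCoh_idealMod I
  have hO := Groth.L16.CohClosedPush.isCoh_structure (X := X)
  constructor
  · obtain ⟨π, hπ⟩ := IsDiscreteValuationRing.exists_irreducible (X.presheaf.stalk P)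
    refine Groth.L18.GenLoc.isInvertible_of_frames fun y => ?_
    have htf : ∀ z : X, Module.IsTorsionFree (X.presheaf.stalk z) ((ClSub.idealMod I).presheaf.stalk z) := fun z => by
      let θ := LinearEquiv.ofBijective (LinearMap.toSpanSingleton (X.presheaf.stalk z)
        ((Coh.structureModule X).presheaf.stalk z) (one X z)) (bijective_smul_one z)
      exact Function.Injective.moduleIsTorsionFree _
        (θ.symm.injective.comp (hinj z)) fun r v => by
          show θ.symm (st (ClSub.idealModι I) z (r • v)) = r • θ.symm (st (ClSub.idealModι I) z v)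
          rw [map_smul, map_smul]
    obtain ⟨a, u, ha, hu, hspan⟩ : ∃ (a : X.presheaf.stalk y) (u : (ClSub.idealMod I).presheaf.stalk y), a ≠ 0 ∧
        st (ClSub.idealModι I) y u = a • one X y ∧ Submodule.span (X.presheaf.stalk y) {u} = ⊤ := by
      by_cases hy : y = P
      · subst hy
        obtain ⟨u, hu⟩ := (hrange _).2 ⟨π ^ n, Ideal.pow_mem_pow
          (by rw [hπ.maximalIdeal_eq]; exact Ideal.mem_span_singleton_self π) n, rfl⟩
        refine ⟨π ^ n, u, pow_ne_zero n hπ.ne_zero, hu, eq_top_iff.2 fun v _ => ?_⟩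
        obtain ⟨r, hr, hrv⟩ := (hrange _).1 ⟨v, rfl⟩
        rw [hπ.maximalIdeal_eq, Ideal.span_singleton_pow, Ideal.mem_span_singleton'] at hr
        obtain ⟨b, rfl⟩ := hr
        exact Submodule.mem_span_singleton.2 ⟨b, hinj y ((map_smul (st (ClSub.idealModι I) y) b u).trans
          (by rw [hu, smul_smul]; exact hrv))⟩
      · obtain ⟨u, hu⟩ := surjective_st_idealModι_pow_of_ne hP n hy (one X y)
        refine ⟨1, u, one_ne_zero, hu.trans (one_smul _ _).symm, eq_top_iff.2 fun v _ => ?_⟩
        obtain ⟨b, hb⟩ := (bijective_smul_one y).2 (st (ClSub.idealModι I) y v)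
        exact Submodule.mem_span_singleton.2 ⟨b, hinj y ((map_smul (st (ClSub.idealModι I) y) b u).trans
          (by rw [hu]; exact hb))⟩
    refine Groth.L03.RefRegSch.exists_frame hI htf u (fun h0 => ha ?_) hspan
    obtain ⟨W, hyW, s, rfl⟩ := TopCat.Presheaf.exists_germ_eq (ClSub.idealMod I).presheaf u
    rw [Groth.L15.Ref.toEta_germ] at h0
    rw [st_germ] at hu
    have hηW : genericPoint X ∈ W := ((genericPoint_spec X).specializes trivial).mem_open W.2 hyW
    have h7 : (Coh.structureModule X).presheaf.germ W (genericPoint X) hηW ((ClSub.idealModι I).app W s) = 0 := by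
      rw [← st_germ (ClSub.idealModι I) hηW s, h0, map_zero]
    have h8 : (ClSub.idealModι I).app W s = 0 :=
      Groth.L21.Duality.gη_injective (Groth.L18.Ample.isInvertible_structureModule X) hηW (h7.trans (map_zero _).symm)
    rw [h8, map_zero] at hu
    exact (bijective_smul_one y).1 (hu.symm.trans (zero_smul _ _).symm)
  · let Q := cokernel (ClSub.idealModι I)
    have hQ : Coh.IsCoh Q := (Groth.L16.CohKernel.isCoh_kernel_cokernel hI hO _).2
    have hsub : ∀ y, y ≠ P → Subsingleton (Q.presheaf.stalk y) := fun y hy => by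
      refine subsingleton_of_forall_eq 0 fun v => ?_
      obtain ⟨w, rfl⟩ := (Groth.L21.Mod.epi_iff_stalk_surjective (cokernel.π (ClSub.idealModι I))).1 inferInstance y v
      obtain ⟨u, rfl⟩ := surjective_st_idealModι_pow_of_ne hP n hy w
      show st (cokernel.π (ClSub.idealModι I)) y (st (ClSub.idealModι I) y u) = 0
      rw [← st_comp, cokernel.condition, st, Functor.map_zero]
      rfl
    have hsupp : SuppClosed Q := fun y hy => hsub y fun h => hy (h ▸ hP)
    let g := (st (cokernel.π (ClSub.idealModι I)) P).comp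
      (LinearMap.toSpanSingleton (X.presheaf.stalk P) ((Coh.structureModule X).presheaf.stalk P) (one X P))
    have hg : Function.Surjective g :=
      ((Groth.L21.Mod.epi_iff_stalk_surjective (cokernel.π (ClSub.idealModι I))).1 inferInstance P).comp
        (bijective_smul_one P).2
    have hker : LinearMap.ker g = maximalIdeal (X.presheaf.stalk P) ^ n := by
      ext r
      rw [LinearMap.mem_ker]
      show st (cokernel.π (ClSub.idealModι I)) P (r • one X P) = 0 ↔ _
      refine ⟨fun h => ?_, fun h => ?_⟩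
      · obtain ⟨r', hr', he⟩ := (hrange _).1 (exists_of_st_cokernel (ClSub.idealModι I) P _ h)
        rwa [(bijective_smul_one P).1 he] at hr'
      · obtain ⟨u, hu⟩ := (hrange _).2 ⟨r, h, rfl⟩
        rw [← hu, ← st_comp, cokernel.condition, st, Functor.map_zero]
        rfl
    have hlen : Module.length (X.presheaf.stalk P) (Q.presheaf.stalk P) = n := by
      rw [← (LinearMap.quotKerEquivOfSurjective g hg).length_eq, hker]
      exact IsDiscreteValuationRing.length_quotient_pow_maximalIdeal (R := X.presheaf.stalk P) n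
    have hS : (ShortComplex.mk (ClSub.idealModι I) (cokernel.π (ClSub.idealModι I)) (cokernel.condition _)).ShortExact :=
      { exact := ShortComplex.exact_cokernel _ }
    have hadd := euler_add k hd.le hS hI hO hQ
    rw [euler_eq_h0_of_suppClosed k hsupp, Groth.L21.Disc.h0_eq_sum_length k hQ {P}
      (fun x hx => Finset.mem_singleton.1 hx ▸ hP)
      (fun x hx => hsub x fun h => hx (Finset.mem_singleton.2 h)), Finset.sum_singleton, hlen] at hadd
    push_cast at hadd
    simp only [ENat.toNat_natCast] at hadd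
    linarith

end Groth.L21.RR
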