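import Groth.Agent.L21.RR.Immersion
import Groth.Agent.L18.AmpleGG

/-!
Complete linear systems: curves of genus zero in projective space.
-/

set_option autoImplicit false
set_option backward.isDefEq.respectTransparency false
set_option linter.style.haveILetI false
universe u

open CategoryTheory CategoryTheory.Limits AlgebraicGeometry TopologicalSpace Opposite

noncomputable section

namespace Groth.L21.RR

open Groth.L16.CohLinear (hmap hmap_comp hmap_id overLin)
open Groth.L18.Frame (IsFrame rs ro rs_rs rs_self rs_smul ro_ro)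
open Groth.L18.GenLoc (tens secOf)
open Groth.L18.Ample (tw)

variable {X : Scheme.{u}} [IsIntegral X] (k : Type u) [Field k] [X.Over (Spec (CommRingCat.of k))]
  {L : X.Modules}

/-- The constant function of a scalar. -/
abbrev cst (c : k) : Γ(X, ⊤) := Coh.toGlobal (X ↘ Spec (CommRingCat.of k)) c

theorem exists_cst_eq (h0 : h k 0 (Coh.structureModule X) = 1) (c : Γ(X, ⊤)) : ∃ d : k, cst k d = c := by
  have hne : (e0 (Coh.structureModule X)).symm (oneSec X) ≠ 0 := fun h => by
    have h1 : oneSec X = 0 := (e0 _).symm.injective (h.trans (map_zero _).symm)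
    haveI : Nonempty ((⊤ : X.Opens) : Scheme) := ⟨⟨genericPoint X, trivial⟩⟩
    exact one_ne_zero (α := Γ(X, ⊤)) h1
  obtain ⟨d, hd⟩ := exists_smul_eq_of_finrank_eq_one h0 hne ((e0 (Coh.structureModule X)).symm c)
  refine ⟨d, ?_⟩
  have h := congrArg (e0 (Coh.structureModule X)) hd
  rw [e0_smul, AddEquiv.apply_symm_apply, AddEquiv.apply_symm_apply] at h
  exact (mul_one (cst (X := X) k d)).symm.trans h

variable [IsProper (X ↘ Spec (CommRingCat.of k))]

theorem genLocus_ne_top (hd : topologicalKrullDim X ≤ 1) (hL : PicF.IsInvertible L)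
    (hdeg : 0 < Curv2.deg k X L 1) {φ : Coh.structureModule X ⟶ L} (hφ : φ ≠ 0) :
    CohB1.genLocus L φ ≠ ⊤ := fun htop => by
  haveI := isNoetherian_of_proper (X := X) k
  have hz : Subsingleton (Coh.HH X (cokernel φ) 0) := by
    refine ⟨fun a b => (e0 _).injective (germ_ext fun x hx => ?_)⟩
    have hsur : Function.Surjective (st φ x) := (mem_genLocus_iff hL φ x).1 (htop ▸ trivial)
    haveI : Subsingleton ((cokernel φ).presheaf.stalk x) := by
      have h0 : (Groth.L00.Stk.F X x).map (cokernel.π φ) = 0 := by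
        haveI : Epi ((Groth.L00.Stk.F X x).map φ) := (ModuleCat.epi_iff_surjective _).2 hsur
        refine zero_of_epi_comp ((Groth.L00.Stk.F X x).map φ) ?_
        rw [← Functor.map_comp, cokernel.condition, Functor.map_zero]
      exact ModuleCat.subsingleton_of_isZero (IsZero.of_epi_eq_zero _ h0)
    exact Subsingleton.elim _ _
  rw [deg_eq_h0_cokernel k hd hL hφ, h_eq_zero_of_subsingleton k hz] at hdeg
  exact lt_irrefl _ hdeg

/-- A basis of the sections. -/
theorem exists_basis (hL : PicF.IsInvertible L) {n : ℕ} (hn : h k 0 L = n) :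
    ∃ s : Fin n → (Coh.structureModule X ⟶ L), (∀ i, s i ≠ 0) ∧
      ∀ ψ : Coh.structureModule X ⟶ L, ∃ c : Fin n → k, secOf ψ = ∑ i, cst (X := X) k (c i) • secOf (s i) := by
  haveI := isNoetherian_of_proper (X := X) k
  haveI := finite_HH' k (Groth.L16.ProperFinite.isCoh_of_isInvertible hL) 0
  let b := Module.finBasisOfFinrankEq k (Coh.HH X L 0) hn
  choose s hs using fun i => exists_hom_secOf (X := X) (e0 L (b i))
  refine ⟨s, fun i h => b.ne_zero i ((e0 L).injective ?_), fun ψ => ⟨b.repr ((e0 L).symm (secOf ψ)), ?_⟩⟩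
  · rw [map_zero, ← hs i, h]
    rfl
  · conv_lhs => rw [← (e0 L).apply_symm_apply (secOf ψ), ← b.sum_repr ((e0 L).symm (secOf ψ))]
    rw [map_sum]
    exact Finset.sum_congr rfl fun i _ => by rw [e0_smul, hs i]

/-- A complete linear system with enough products gives a closed immersion. -/
theorem exists_closedImmersion_of_mul (hd : topologicalKrullDim X ≤ 1)
    (h0 : h k 0 (Coh.structureModule X) = 1) (hL : PicF.IsInvertible L) {n : ℕ} (hn : h k 0 L = n + 1)
    (hdeg : 0 < Curv2.deg k X L 1)
    (hgen : ∀ x : X, ∃ ψ : Coh.structureModule X ⟶ L, Function.Surjective (st ψ x))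
    (hmul : ∀ (m : ℕ) (w : Γ(tw (Coh.structureModule X) L (m + 2), ⊤)), w ∈ AddSubgroup.closure
      (⋃ ψ : Coh.structureModule X ⟶ L, Set.range ((mulS (tw (Coh.structureModule X) L (m + 1)) ψ).app ⊤))) :
    ∃ r : X ⟶ Groth.L18.PUP.P n k, IsClosedImmersion r ∧
      r ≫ Groth.L18.PUP.pr n k = X ↘ Spec (CommRingCat.of k) ∧
      Nonempty ((Scheme.Modules.pullback r).obj (Groth.L18.PUP.O1 n k) ≅ L) := by
  haveI := isNoetherian_of_proper (X := X) k
  obtain ⟨s, hs0, hspan⟩ := exists_basis k hL hn
  refine exists_closedImmersion (X ↘ Spec (CommRingCat.of k)) hd hL s (fun x => ?_)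
    (fun i => genLocus_ne_top k hd hL hdeg (hs0 i)) fun i A hc hA => ?_
  · obtain ⟨ψ, hψ⟩ := hgen x
    obtain ⟨c, hcψ⟩ := hspan ψ
    by_contra hx
    push Not at hx
    obtain ⟨W, ε, hxW, hε⟩ := Groth.L18.Frame.exists_frame hL x
    choose b hb hb' using fun j => exists_coeff_secOf hε (s j)
    obtain ⟨β, hβ, hβ'⟩ := exists_coeff_secOf hε ψ
    have hnon : ∀ j, ¬ IsUnit (X.presheaf.germ W x hxW (b j)) := fun j hu =>
      hx j ((mem_genLocus_iff hL (s j) x).2
        ((surjective_st_iff (bijective_germ_frame hε hxW) (s j) (hb' j x hxW)).2 hu))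
    have hsum : X.presheaf.germ W x hxW β =
        ∑ j, X.presheaf.germ ⊤ x trivial (cst (X := X) k (c j)) * X.presheaf.germ W x hxW (b j) := by
      refine (bijective_germ_frame hε hxW).1 ?_
      show _ • L.presheaf.germ W x hxW ε = _ • L.presheaf.germ W x hxW ε
      rw [hβ' x hxW, st_one ψ x (W := ⊤) trivial, rs_self, ← secOf_eq, hcψ, map_sum, Finset.sum_smul]
      refine Finset.sum_congr rfl fun j _ => ?_
      rw [Groth.L20.ModStalk.germ_smul, ← smul_smul, hb' j x hxW, st_one (s j) x (W := ⊤) trivial, rs_self,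
        ← secOf_eq]
    have hu := (surjective_st_iff (bijective_germ_frame hε hxW) ψ (hβ' x hxW)).1 hψ
    rw [hsum] at hu
    exact (show _ ∈ nonunits (X.presheaf.stalk x) from
      (IsLocalRing.mem_maximalIdeal _).1 (sum_mem fun j _ => Ideal.mul_mem_left _ _
        ((IsLocalRing.mem_maximalIdeal _).2 (hnon j)))) hu
  · have hc' : ∀ c : Γ(X, ⊤), ro (le_top : CohB1.genLocus L (s i) ≤ ⊤) c ∈ A := fun c => by
      obtain ⟨d, rfl⟩ := exists_cst_eq k h0 c
      have := hc ((Scheme.ΓSpecIso (CommRingCat.of k)).inv d)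
      exact this
    refine eq_top_of_coeff hL (s i) A hc' (fun ψ a ha => ?_) hmul
    obtain ⟨c, hcψ⟩ := hspan ψ
    choose b hb hb' using fun j => exists_coeff_secOf (Groth.L18.GenLoc.isFrame_genLocus (s i)) (s j)
    have e : a = ∑ j, ro (le_top : CohB1.genLocus L (s i) ≤ ⊤) (cst (X := X) k (c j)) * b j := by
      refine (Groth.L18.GenLoc.isFrame_genLocus (s i)).inj le_rfl ?_
      rw [rs_self, ha, hcψ, Finset.sum_smul]
      refine (map_sum _ _ _).trans (Finset.sum_congr rfl fun j _ => ?_)
      rw [mul_smul, hb j]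
      exact rs_smul L le_top _ _
    rw [e]
    exact sum_mem fun j _ => A.mul_mem (hc' _) (hA j (b j) (hb j))

/-- `H¹(O) = 0` and positive degree: the complete linear system gives a closed immersion. -/
theorem exists_closedImmersion_of_h1_zero (hd : topologicalKrullDim X ≤ 1)
    (h0 : h k 0 (Coh.structureModule X) = 1) (h1 : Subsingleton (Coh.HH X (Coh.structureModule X) 1))
    (hL : PicF.IsInvertible L) {d : ℕ} (hd0 : 0 < d) (hdeg : Curv2.deg k X L 1 = d) :
    ∃ r : X ⟶ Groth.L18.PUP.P d k, IsClosedImmersion r ∧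
      r ≫ Groth.L18.PUP.pr d k = X ↘ Spec (CommRingCat.of k) ∧
      Nonempty ((Scheme.Modules.pullback r).obj (Groth.L18.PUP.O1 d k) ≅ L) := by
  haveI := isNoetherian_of_proper (X := X) k
  have hg : h k 1 (Coh.structureModule X) = 0 := h_eq_zero_of_subsingleton k h1
  have hL1 : Subsingleton (Coh.HH X L 1) := subsingleton_h1_of_deg_gt k hd h0 hL (by rw [hg, hdeg]; omega)
  have hn : h k 0 L = d + 1 := by
    have hd' : Curv2.deg k X L 1 = Curv2.euler k X L - (1 : ℕ) * Curv2.euler k X (Coh.structureModule X) := rfl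
    rw [euler_eq k hd, euler_eq k hd, h0, hg, h_eq_zero_of_subsingleton k hL1, hdeg] at hd'
    push_cast at hd'
    omega
  have hgg := isGloballyGenerated_of_deg k hd h0 hL (by rw [hg, hdeg]; omega)
  have hgen : ∀ x : X, ∃ ψ : Coh.structureModule X ⟶ L, Function.Surjective (st ψ x) := fun x => by
    obtain ⟨ψ, hψ⟩ := Groth.L18.Ample.exists_genLocus_mem_of_gg hL hgg x
    exact ⟨ψ, (mem_genLocus_iff hL ψ x).1 hψ⟩
  haveI : Nontrivial (Coh.HH X L 0) := by
    haveI := finite_HH' k (Groth.L16.ProperFinite.isCoh_of_isInvertible hL) 0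
    exact Module.nontrivial_of_finrank_pos (R := k) ((Nat.succ_pos d).trans_eq hn.symm)
  obtain ⟨φ, hφ⟩ := exists_hom_ne_zero (L := L)
  have hinv : ∀ m, PicF.IsInvertible (tw (Coh.structureModule X) L m) := fun m => by
    induction m with
    | zero => exact Groth.L18.Ample.isInvertible_structureModule X
    | succ m ih => exact Groth.L18.GenLoc.isInvertible_tensor ih hL
  have hvan : ∀ m, Subsingleton (Coh.HH X (tw (Coh.structureModule X) L m) 1) := fun m => by
    induction m with
    | zero => exact h1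
    | succ m ih => exact subsingleton_h1_tensor hd (hinv m) hL hφ ih
  exact exists_closedImmersion_of_mul k hd h0 hL hn (by rw [hdeg]; exact_mod_cast hd0) hgen
    fun m w => mem_closure_mulS hd (hinv m) hL hφ hgen (hvan m) w

end Groth.L21.RR
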