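import Groth.Agent.L21.RR.ProjLineRecog
import Groth.Agent.L22.CurveAmple.Boundary
import Groth.Agent.L21.Curve.SmoothDescent
import Groth.Agent.L21.Smooth.Scheme
import Groth.Agent.L21.Nodal.Reduced
import Mathlib.AlgebraicGeometry.AlgClosed.Basic

/-!
The invertible module of a rational point with principal maximal ideal, and its degree.
-/

set_option autoImplicit false
set_option backward.isDefEq.respectTransparency false
set_option linter.style.haveILetI false
universe u

open CategoryTheory CategoryTheory.Limits AlgebraicGeometry TopologicalSpace Opposite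

noncomputable section

namespace Groth.L21.RR

open Groth.L16.CohLinear (hmap hmap_comp hmap_id overLin)
open Groth.L18.Frame (IsFrame rs ro rs_rs rs_self rs_smul ro_ro)
open Groth.L18.GenLoc (secOf)
open Groth.L21.Extend (rO rO_rO)

variable {X : Scheme.{u}} (k : Type u) [Field k] [X.Over (Spec (CommRingCat.of k))]

/-- The residue field at the point is the ground field. -/
def IsRat (z : X) : Prop :=
  ∀ a : X.presheaf.stalk z, ∃ c : k, a - cstAt k z c ∈ IsLocalRing.maximalIdeal (X.presheaf.stalk z)

theorem isRat_of_section (x : Spec (CommRingCat.of k) ⟶ X) (hx : x ≫ (X ↘ Spec (CommRingCat.of k)) = 𝟙 _)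
    (p : Spec (CommRingCat.of k)) : IsRat k (x p) := by
  intro a
  obtain ⟨W, hpW, b, hb⟩ := TopCat.Presheaf.exists_germ_eq (Spec (CommRingCat.of k)).presheaf (x.stalkMap p a)
  have hW : (⊤ : (Spec (CommRingCat.of k)).Opens) ≤ W := fun q _ => by
    obtain rfl : q = p := Subsingleton.elim (α := PrimeSpectrum k) _ _
    exact hpW
  obtain ⟨c, hc⟩ := (ConcreteCategory.bijective_of_isIso (Scheme.ΓSpecIso (CommRingCat.of k)).inv).2
    ((Spec (CommRingCat.of k)).presheaf.map (homOfLE hW).op b)
  refine ⟨c, fun hu => ?_⟩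
  have h2 : x.stalkMap p (cstAt k (x p) c) = x.stalkMap p a := by
    rw [cstAt, RingHom.comp_apply]
    refine (Scheme.Hom.germ_stalkMap_apply x ⊤ p trivial _).trans ?_
    have h3 : x.app ⊤ ((X ↘ Spec (CommRingCat.of k)).appTop ((Scheme.ΓSpecIso (CommRingCat.of k)).inv c)) =
        (Scheme.ΓSpecIso (CommRingCat.of k)).inv c := by
      have h4 : (X ↘ Spec (CommRingCat.of k)).appTop ≫ x.appTop = 𝟙 _ := by
        rw [← Scheme.Hom.comp_appTop, hx, Scheme.Hom.id_appTop]
      exact congr($(h4) ((Scheme.ΓSpecIso (CommRingCat.of k)).inv c))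
    refine (congrArg _ h3).trans ?_
    rw [hc, ← hb]
    exact TopCat.Presheaf.germ_res_apply _ (homOfLE hW) p trivial b
  have := hu.map (x.stalkMap p).hom
  rw [map_sub, h2, sub_self] at this
  exact not_isUnit_zero this

theorem isRat_of_isClosed [IsAlgClosed k] [LocallyOfFiniteType (X ↘ Spec (CommRingCat.of k))] {z : X}
    (hz : IsClosed ({z} : Set X)) : IsRat k z := by
  have h := isRat_of_section k (pointOfClosedPoint (X ↘ Spec (CommRingCat.of k)) z hz)
    (pointOfClosedPoint_comp _ z hz) (IsLocalRing.closedPoint k)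
  rwa [pointOfClosedPoint_apply] at h

variable [IsIntegral X] [IsProper (X ↘ Spec (CommRingCat.of k))]

/-- A rational point with principal maximal ideal gives an invertible module of degree one, with a section
vanishing simply at that point and nowhere else. -/
theorem exists_deg_one_section (hd : topologicalKrullDim X ≤ 1) {z : X} (hz : IsClosed ({z} : Set X))
    (hzne : z ≠ genericPoint X) (hrat : IsRat k z)
    (hp : (IsLocalRing.maximalIdeal (X.presheaf.stalk z)).IsPrincipal) :
    ∃ (L : X.Modules) (s : Coh.structureModule X ⟶ L) (π : X.presheaf.stalk z) (e : L.presheaf.stalk z),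
      PicF.IsInvertible L ∧ Curv2.deg k X L 1 = 1 ∧ s ≠ 0 ∧ (∀ y, y ≠ z → Function.Surjective (st s y)) ∧
      (Function.Bijective fun a : X.presheaf.stalk z => a • e) ∧ π • e = st s z (one X z) ∧
      IsLocalRing.maximalIdeal (X.presheaf.stalk z) = X.presheaf.stalk z ∙ π := by
  haveI := isNoetherian_of_proper (X := X) k
  obtain ⟨π, hπ⟩ := hp.principal
  have hπm : π ∈ IsLocalRing.maximalIdeal (X.presheaf.stalk z) := by rw [hπ]; exact Submodule.mem_span_singleton_self π
  have hπ0 : π ≠ 0 := by
    intro h0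
    have hf : IsField (X.presheaf.stalk z) := by
      rw [IsLocalRing.isField_iff_maximalIdeal_eq, hπ, h0, Submodule.span_singleton_eq_bot]
    letI := hf.toField
    have hg : genericPoint X ∈ Set.range (X.fromSpecStalk z) := by
      rw [X.range_fromSpecStalk]
      exact (genericPoint_spec X).specializes trivial
    obtain ⟨p, hp'⟩ := hg
    have hzz : z ∈ Set.range (X.fromSpecStalk z) := by
      rw [X.range_fromSpecStalk]
      exact specializes_rfl
    obtain ⟨p', hp''⟩ := hzz
    haveI : Subsingleton (PrimeSpectrum (X.presheaf.stalk z)) :=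
      (PrimeSpectrum.subsingleton_iff_isField_of_isReduced).2 hf
    exact hzne (hp''.symm.trans
      ((congrArg _ (Subsingleton.elim (α := PrimeSpectrum (X.presheaf.stalk z)) p' p)).trans hp'))
  obtain ⟨V, hzV, f, hf⟩ := TopCat.Presheaf.exists_germ_eq X.presheaf π
  have hzf : z ∉ X.basicOpen f := fun h => by
    have h1 := (X.mem_basicOpen f z hzV).1 h
    rw [show X.presheaf.germ V z hzV f = π from hf] at h1
    exact hπm h1
  haveI : Nonempty (V : Scheme) := ⟨⟨z, hzV⟩⟩
  have hηV : genericPoint X ∈ V := ((genericPoint_spec X).specializes trivial).mem_open V.2 hzV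
  have hf0 : f ≠ 0 := fun h => hπ0 (by rw [← hf, h, map_zero])
  have hηf : genericPoint X ∈ X.basicOpen f := by
    have hne : (X.basicOpen f : Set X).Nonempty := by
      by_contra hem
      exact hf0 ((basicOpen_eq_bot_iff (X := X) f).1 (SetLike.coe_injective (Set.not_nonempty_iff_eq_empty.1 hem)))
    obtain ⟨y, hy⟩ := hne
    exact ((genericPoint_spec X).specializes trivial).mem_open (X.basicOpen f).2 hy
  let F : Set V := {y | y.1 ∉ X.basicOpen f}
  have hF : F.Finite := Top.finite_of_forall_isClosed (X := X.toTopCat)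
    ((X.basicOpen f).2.isClosed_compl.preimage continuous_subtype_val) fun y hy => by
      by_contra hc
      exact hy ((eq_genericPoint_of_not_isClosed hd hc) ▸ hηf)
  have hB : IsClosed ((Subtype.val '' F) \ {z}) := by
    rw [← Set.biUnion_of_singleton ((Subtype.val '' F) \ {z})]
    refine ((hF.image _).subset Set.diff_subset).isClosed_biUnion fun y hy => ?_
    obtain ⟨⟨p, hp, rfl⟩, -⟩ := hy
    by_contra hc
    exact hp ((eq_genericPoint_of_not_isClosed hd hc) ▸ hηf)
  let M : X.Opens := V ⊓ ⟨_, hB.isOpen_compl⟩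
  have hzM : z ∈ M := ⟨hzV, fun h => h.2 rfl⟩
  let U : X.Opens := ⟨({z} : Set X)ᶜ, hz.isOpen_compl⟩
  let φ : Γ(X, M) := rO X inf_le_left f
  have hMU : M ⊓ U ≤ X.basicOpen f := fun y hy => by
    by_contra hn
    exact hy.1.2 ⟨⟨⟨y, hy.1.1⟩, hn, rfl⟩, hy.2⟩
  let D : Groth.L22.CurveAmple.DivData U :=
    { κ := PUnit
      M := fun _ => M
      φ := fun _ => φ
      inter := fun k l hkl => absurd (Subsingleton.elim k l) hkl
      unit := fun _ => by
        have h := RingedSpace.isUnit_res_basicOpen (X := X.toLocallyRingedSpace.toRingedSpace) f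
        have h' := IsUnit.map (X.presheaf.map (homOfLE hMU).op).hom h
        refine Eq.mpr (congrArg IsUnit ?_) h'
        show rO X _ (rO X _ f) = _
        rw [rO_rO]
        exact (rO_rO hMU (X.basicOpen_le f) _).symm
      notMem := fun _ y hy => by
        show y ∈ ({z} : Set X)ᶜ
        intro hyz
        rw [Set.mem_singleton_iff] at hyz
        subst hyz
        rw [show φ = X.presheaf.map (homOfLE (inf_le_left : M ≤ V)).op f from rfl, Scheme.basicOpen_res] at hy
        exact hzf hy.2
      cover := fun x hx => ⟨PUnit.unit, by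
        have : x = z := not_not.1 hx
        rw [this]; exact hzM⟩ }
  obtain ⟨σ, hσ⟩ := Groth.L22.PicGlue.exists_section D.cocycle (V := ⊤) (fun i => rO X inf_le_right (D.c i)) fun i j => by
    by_cases hij : i = j
    · subst hij
      rw [show D.cocycle.g i i = 1 from D.tr_self i, Groth.L22.PicGlue.rO_one, one_mul]
    set W := (⊤ : X.Opens) ⊓ (D.N i ⊓ D.N j)
    have hi : W ≤ D.N i := inf_le_right.trans inf_le_left
    have hj : W ≤ D.N j := inf_le_right.trans inf_le_right
    have hU : W ≤ U := inf_le_right.trans (D.le_U hij)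
    simp only [rO_rO]
    show rO X hi (D.c i) = rO X (le_inf hi hj) (D.tr i j) * rO X hj (D.c j)
    have e3 := congrArg (rO X (le_inf hj hU : W ≤ D.N j ⊓ U)) (D.c_mul_e j)
    simp only [Groth.L22.PicGlue.rO_mul, rO_rO, Groth.L22.PicGlue.rO_one] at e3
    rw [D.tr_eq i j hi hj hU]
    linear_combination (-(rO X hi (D.c i))) * e3
  obtain ⟨s, hs⟩ : ∃ s : Coh.structureModule X ⟶ D.L, secOf s = σ := exists_hom_secOf σ
  have hgen : ∀ i, IsFrame D.L (D.N i) (Groth.L22.PicGlue.gen D.cocycle i) := fun i =>
    Groth.L22.PicGlue.isGen_gen D.cocycle i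
  have hcoef : ∀ i, D.c i • Groth.L22.PicGlue.gen D.cocycle i = rs D.L le_top (secOf s) := fun i => by
    rw [hs]
    have h1 := Groth.L22.PicGlue.smul_gen_eq D.cocycle i (le_refl _) (Groth.L21.Extend.rs D.L le_top σ)
    rw [Groth.L21.Extend.rs_self] at h1
    have h2 : Groth.L22.PicGlue.coef D.cocycle i (le_refl _) (Groth.L21.Extend.rs D.L le_top σ) = D.c i := by
      rw [Groth.L22.PicGlue.coef, Groth.L22.PicGlue.coords_rs, hσ]
      simp only [rO_rO]
      exact Groth.L22.PicGlue.rO_self _ _
    rw [h2] at h1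
    exact h1
  have hst : ∀ i (y : X) (hy : y ∈ D.N i), X.presheaf.germ (D.N i) y hy (D.c i) •
      D.L.presheaf.germ (D.N i) y hy (Groth.L22.PicGlue.gen D.cocycle i) = st s y (one X y) := fun i y hy => by
    rw [← Groth.L20.ModStalk.germ_smul, hcoef i, st_one s y hy]
    rfl
  have hL := D.isInvertible
  have hsur : ∀ y, y ≠ z → Function.Surjective (st s y) := fun y hy => by
    refine (surjective_st_iff (bijective_germ_frame (hgen none) (show y ∈ U from hy)) s
      (hst none y (show y ∈ U from hy))).2 ?_
    show IsUnit (X.presheaf.germ U y _ (1 : Γ(X, U)))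
    rw [map_one]
    exact isUnit_one
  have hπz : X.presheaf.germ M z hzM φ = π := (TopCat.Presheaf.germ_res_apply _ _ _ _ _).trans hf
  let e := D.L.presheaf.germ (D.N (some PUnit.unit)) z hzM (Groth.L22.PicGlue.gen D.cocycle (some PUnit.unit))
  have he : Function.Bijective fun a : X.presheaf.stalk z => a • e :=
    bijective_germ_frame (hgen (some PUnit.unit)) hzM
  have hsz : π • e = st s z (one X z) := by
    rw [← hπz]
    exact hst (some PUnit.unit) z hzM
  have hs0 : s ≠ 0 := fun h => by
    have h1 : π • e = (0 : X.presheaf.stalk z) • e := by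
      rw [hsz, h, zero_smul, st, Functor.map_zero]
      rfl
    exact hπ0 (he.1 h1)
  refine ⟨D.L, s, π, e, hL, ?_, hs0, hsur, he, hsz, hπ⟩
  have hQ := suppClosed_cokernel hd hL hs0
  have hQ0 : ∀ y, y ≠ z → ∀ v : (cokernel s).presheaf.stalk y, v = 0 := fun y hy v => by
    have h0 : (Groth.L00.Stk.F X y).map (cokernel.π s) = 0 := by
      haveI : Epi ((Groth.L00.Stk.F X y).map s) := (ModuleCat.epi_iff_surjective _).2 (hsur y hy)
      refine zero_of_epi_comp ((Groth.L00.Stk.F X y).map s) ?_
      rw [← Functor.map_comp, cokernel.condition, Functor.map_zero]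
    exact (ModuleCat.subsingleton_of_isZero (IsZero.of_epi_eq_zero _ h0)).elim _ _
  have hsur_pi : Function.Surjective (st (cokernel.π s) z) :=
    (Groth.L21.Mod.epi_iff_stalk_surjective (cokernel.π s)).1 inferInstance z
  obtain ⟨q, hq, hq'⟩ := exists_section_germ hQ z (st (cokernel.π s) z e)
  have hqne : (e0 (cokernel s)).symm q ≠ 0 := fun h => by
    have h1 : q = 0 := (e0 _).symm.injective (h.trans (map_zero _).symm)
    rw [h1, map_zero] at hq
    obtain ⟨u, hu⟩ := exists_of_st_cokernel s z e hq.symm
    have hu' : Function.Surjective (st s z) := fun v => by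
      obtain ⟨a, rfl⟩ := he.2 v
      exact ⟨a • u, by rw [map_smul, hu]⟩
    exact hπm ((surjective_st_iff he s hsz).1 hu')
  let lin : k →ₗ[k] Coh.HH X (cokernel s) 0 := LinearMap.toSpanSingleton k _ ((e0 (cokernel s)).symm q)
  have hlin : Function.Surjective lin := fun w => by
    obtain ⟨v, hv⟩ := hsur_pi ((cokernel s).presheaf.germ ⊤ z trivial (e0 _ w))
    obtain ⟨a, rfl⟩ := he.2 v
    obtain ⟨c, hc⟩ := hrat a
    rw [hπ] at hc
    obtain ⟨b, hb⟩ := Submodule.mem_span_singleton.1 hc
    refine ⟨c, (e0 (cokernel s)).injective (germ_ext fun y hy => ?_)⟩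
    rw [LinearMap.toSpanSingleton_apply, e0_smul, AddEquiv.apply_symm_apply, Groth.L20.ModStalk.germ_smul]
    by_cases hyz : y = z
    · subst hyz
      rw [← hv, hq]
      have ha : a • e = cstAt k y c • e + st s y (b • one X y) := by
        rw [map_smul, ← hsz, smul_smul, ← add_smul]
        congr 1
        rw [show b * π = b • π from rfl, hb]
        ring
      show cstAt k y c • _ = st (cokernel.π s) y (a • e)
      have h0' : st (cokernel.π s) y (st s y (b • one X y)) = 0 := by
        rw [← st_comp, cokernel.condition, st, Functor.map_zero]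
        rfl
      rw [ha, map_add, map_smul, h0', add_zero]
    · rw [hq' y hyz, smul_zero]
      exact (hQ0 y hyz _).symm
  haveI : Nontrivial (Coh.HH X (cokernel s) 0) := ⟨_, _, hqne⟩
  haveI : Module.Finite k (Coh.HH X (cokernel s) 0) := Module.Finite.of_surjective lin hlin
  have h1 : h k 0 (cokernel s) ≤ 1 :=
    (LinearMap.finrank_le_finrank_of_surjective hlin).trans_eq (Module.finrank_self k)
  have h2 : 0 < h k 0 (cokernel s) := Module.finrank_pos
  rw [deg_eq_h0_cokernel k hd hL hs0]
  omega

theorem exists_deg_one (hd : topologicalKrullDim X ≤ 1) {z : X} (hz : IsClosed ({z} : Set X))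
    (hzne : z ≠ genericPoint X) (hrat : IsRat k z)
    (hp : (IsLocalRing.maximalIdeal (X.presheaf.stalk z)).IsPrincipal) :
    ∃ L : X.Modules, PicF.IsInvertible L ∧ Curv2.deg k X L 1 = 1 := by
  obtain ⟨L, -, -, -, hL, hdeg, -⟩ := exists_deg_one_section k hd hz hzne hrat hp
  exact ⟨L, hL, hdeg⟩

/-- Over an algebraically closed field some closed point has principal maximal ideal. -/
theorem exists_regular_point [PerfectField k] (hd : topologicalKrullDim X = 1) :
    ∃ z : X, IsClosed ({z} : Set X) ∧ z ≠ genericPoint X ∧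
      (IsLocalRing.maximalIdeal (X.presheaf.stalk z)).IsPrincipal := by
  haveI := isNoetherian_of_proper (X := X) k
  have hmax : ∀ y : X, y ⤳ genericPoint X → y = genericPoint X := fun y hy =>
    (((genericPoint_spec X).specializes trivial).antisymm hy).eq.symm
  obtain ⟨U, hηU, hU⟩ := Groth.L21.Nodal.exists_smooth_nhd_of_maximal (X ↘ Spec (CommRingCat.of k)) (genericPoint X) hmax
  haveI : JacobsonSpace X := LocallyOfFiniteType.jacobsonSpace (X ↘ Spec (CommRingCat.of k))
  obtain ⟨z, hzU, hz⟩ := nonempty_inter_closedPoints (Z := (U : Set X)) ⟨_, hηU⟩ U.2.isLocallyClosed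
  have hzne : z ≠ genericPoint X := fun h => by
    have huniv : ∀ y : X, y = z := fun y =>
      (show IsClosed ({z} : Set X) from hz).closure_eq.le
        ((h ▸ (genericPoint_spec X).specializes trivial : z ⤳ y).mem_closure)
    haveI : Subsingleton X := ⟨fun a b => (huniv a).trans (huniv b).symm⟩
    haveI : DiscreteTopology X := Subsingleton.discreteTopology
    have := topologicalKrullDim_zero_of_discreteTopology X
    rw [hd] at this
    exact absurd this (by decide)
  refine ⟨z, hz, hzne, ?_⟩
  haveI hreg : IsRegularLocalRing (U.toScheme.presheaf.stalk ⟨z, hzU⟩) :=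
    Groth.L21.Smooth.regular_stalk (U.ι ≫ (X ↘ Spec (CommRingCat.of k))) _
  haveI : IsRegularLocalRing (X.presheaf.stalk z) :=
    IsRegularLocalRing.of_ringEquiv (U.stalkIso ⟨z, hzU⟩).commRingCatIsoToRingEquiv
  exact Groth.L21.SmoothDescent.isPrincipal_of_dim_le_one
    ((Groth.L21.SmoothDescent.ringKrullDim_stalk_le z).trans hd.le)

end Groth.L21.RR
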