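import Groth.Agent.L21.RR.GenusZeroPoint
import Groth.Agent.L21.RR.BaseChange
import Groth.Agent.L16.ProjSpace.CohTwist

/-!
The projective line: genus, rational point, module of degree one.
-/

set_option autoImplicit false
set_option backward.isDefEq.respectTransparency false
set_option linter.style.haveILetI false
universe u

open CategoryTheory CategoryTheory.Limits AlgebraicGeometry TopologicalSpace Opposite

noncomputable section

namespace Groth.L21.RR

open Groth.L18.Frame (IsFrame rs ro rs_rs rs_self)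

variable {X : Scheme.{u}} (k : Type u) [Field k] [X.Over (Spec (CommRingCat.of k))]

theorem ne_genericPoint_of_isClosed [IsIntegral X] (hd : topologicalKrullDim X = 1) {z : X}
    (hz : IsClosed ({z} : Set X)) : z ≠ genericPoint X := fun h => by
  have huniv : ∀ y : X, y = z := fun y =>
    hz.closure_eq.le ((h ▸ (genericPoint_spec X).specializes trivial : z ⤳ y).mem_closure)
  haveI : Subsingleton X := ⟨fun a b => (huniv a).trans (huniv b).symm⟩
  haveI : DiscreteTopology X := Subsingleton.discreteTopology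
  have := topologicalKrullDim_zero_of_discreteTopology X
  rw [hd] at this
  exact absurd this (by decide)

theorem exists_projLine_section :
    ∃ s : Spec (CommRingCat.of k) ⟶ CohB1.ProjSpace 1 k, s ≫ CohB1.ProjSpace.toSpec 1 k = 𝟙 _ := by
  let O := Coh.structureModule (Spec (CommRingCat.of k))
  obtain ⟨r, hr, -⟩ := Groth.L18.PUP.exists_hom (n := 1) (𝟙 (Spec (CommRingCat.of k))) O
    (Groth.L18.Ample.isInvertible_structureModule _) ![oneSec _, 0]
    (Groth.L18.SpecLine.generatedBy_of_frames (ι := Fin 2) _ fun x =>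
      ⟨⊤, 0, trivial, by rw [rs_self]; exact isFrame_oneSec⟩)
  exact ⟨r, hr⟩

variable [IsIntegral X] [IsProper (X ↘ Spec (CommRingCat.of k))] (e : X ≅ CohB1.ProjSpace 1 k)
  (he : e.hom ≫ CohB1.ProjSpace.toSpec 1 k = X ↘ Spec (CommRingCat.of k))

omit [IsIntegral X] in
include he in
theorem subsingleton_h1_of_iso : Subsingleton (Coh.HH X (Coh.structureModule X) 1) := by
  letI : (CohB1.ProjSpace 1 k).Over (Spec (CommRingCat.of k)) := ⟨CohB1.ProjSpace.toSpec 1 k⟩
  haveI : IsProper (CohB1.ProjSpace 1 k ↘ Spec (CommRingCat.of k)) :=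
    Groth.L16.ProjSpace.isProper_toSpec (n := 1) (R := k)
  haveI := isNoetherian_of_proper (X := X) k
  haveI := finite_HH' k (Groth.L16.CohClosedPush.isCoh_structure (X := X)) 1
  have h := h_structure_bc (k := k) (K := k) e.hom (isPullback_of_iso e he) 1
  obtain ⟨τ⟩ : Nonempty (Twist.twistProjSpace 1 k 0 ≅ Coh.structureModule (CohB1.ProjSpace 1 k)) :=
    Groth.L16.ProjTwist.nonempty_twist_zero_iso (CohB1.polyGrading 1 k)
  have h0 : Groth.L21.RR.h k 1 (Coh.structureModule (CohB1.ProjSpace 1 k)) = 0 := by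
    rw [← h_congr k τ 1]
    exact h_eq_zero_of_subsingleton k (Groth.L16.ProjSpace.subsingleton_HH_twist_pos 1 k 0 0 (Or.inr (by norm_num)))
  rw [h0] at h
  exact Module.finrank_zero_iff.1 h

include he in
theorem exists_deg_one_of_iso (hd : topologicalKrullDim X = 1) :
    ∃ L : X.Modules, PicF.IsInvertible L ∧ Curv2.deg k X L 1 = 1 ∧ 2 ≤ h k 0 L := by
  haveI := isNoetherian_of_proper (X := X) k
  obtain ⟨s, hs⟩ := exists_projLine_section k
  have hx : (s ≫ e.inv) ≫ (X ↘ Spec (CommRingCat.of k)) = 𝟙 _ := by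
    rw [← he, Category.assoc, Iso.inv_hom_id_assoc, hs]
  haveI : X.IsSeparated := ⟨by rw [← terminal.comp_from (X ↘ Spec (CommRingCat.of k))]; infer_instance⟩
  haveI : IsClosedImmersion (s ≫ e.inv) := isClosedImmersion_of_comp_eq_id _ _ hx
  have hz : IsClosed ({(s ≫ e.inv) (IsLocalRing.closedPoint k)} : Set X) := by
    have h := (s ≫ e.inv).isClosedEmbedding.isClosed_range
    rwa [Set.range_eq_singleton] at h
    exact fun p => congrArg _ (Subsingleton.elim (α := PrimeSpectrum k) _ _)
  have hsm : Smooth (X ↘ Spec (CommRingCat.of k)) := by rw [← he]; infer_instance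
  haveI := Groth.L21.Smooth.regular_stalk (X ↘ Spec (CommRingCat.of k)) ((s ≫ e.inv) (IsLocalRing.closedPoint k))
  obtain ⟨L, hL, hdeg⟩ := exists_deg_one k hd.le hz (ne_genericPoint_of_isClosed hd hz)
    (isRat_of_section k _ hx _)
    (Groth.L21.SmoothDescent.isPrincipal_of_dim_le_one
      ((Groth.L21.SmoothDescent.ringKrullDim_stalk_le _).trans hd.le))
  have h1 := subsingleton_h1_of_iso k e he
  refine ⟨L, hL, hdeg, ?_⟩
  have h0 := h0_eq_one_of_deg_one k hd.le h1 hL hdeg
  have hd' : Curv2.deg k X L 1 = Curv2.euler k X L - (1 : ℕ) * Curv2.euler k X (Coh.structureModule X) := rfl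
  rw [euler_eq k hd.le, euler_eq k hd.le, h0, h_eq_zero_of_subsingleton k h1, hdeg] at hd'
  push_cast at hd'
  omega

omit e he in
theorem exists_iso_projLine_of_h0_ge (hd : topologicalKrullDim X = 1) {L : X.Modules}
    (hL : PicF.IsInvertible L) (hdeg : Curv2.deg k X L 1 = 1) (h2 : 2 ≤ h k 0 L) :
    ∃ e : X ≅ CohB1.ProjSpace 1 k, e.hom ≫ CohB1.ProjSpace.toSpec 1 k = X ↘ Spec (CommRingCat.of k) := by
  haveI := isNoetherian_of_proper (X := X) k
  haveI : Nontrivial (Coh.HH X L 0) := Module.nontrivial_of_finrank_pos (R := k) (show 0 < h k 0 L by omega)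
  obtain ⟨φ, hφ⟩ := exists_hom_ne_zero (L := L)
  have hQc := (Groth.L16.CohKernel.isCoh_kernel_cokernel (Groth.L16.CohClosedPush.isCoh_structure (X := X))
    (Groth.L16.ProperFinite.isCoh_of_isInvertible hL) φ).2
  have hQ := deg_eq_h0_cokernel k hd.le hL hφ
  rw [hdeg] at hQ
  have hne : Nontrivial (Coh.HH X (cokernel φ) 0) :=
    Module.nontrivial_of_finrank_pos (R := k) (show 0 < h k 0 (cokernel φ) by omega)
  have hO := h0_structure_le k hQc hne
  have hle := (h0_le_add k hd.le hL hφ).1
  have h0 : h k 0 (Coh.structureModule X) = 1 := by omega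
  have hg := genus_eq_zero_of_h0_eq k hd.le h0 hL ‹_› (by omega) (by omega)
  haveI := finite_HH' k (Groth.L16.CohClosedPush.isCoh_structure (X := X)) 1
  obtain ⟨e, he, -⟩ := exists_iso_projLine k hd (Module.finrank_zero_iff.1 hg) hL hdeg
  exact ⟨e, he⟩

end Groth.L21.RR
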