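import Groth.Agent.L21.RR.ProjLineGenus
import Groth.Agent.L21.Curve.SmoothDescent
import Mathlib.AlgebraicGeometry.Geometrically.Integral

/-!
Geometrically integral curves of genus zero.
-/

set_option autoImplicit false
set_option backward.isDefEq.respectTransparency false
set_option linter.style.haveILetI false
universe u

open CategoryTheory CategoryTheory.Limits AlgebraicGeometry TopologicalSpace Opposite

noncomputable section

namespace Groth.L21.RR

variable {X : Scheme.{u}} (k : Type u) [Field k] [X.Over (Spec (CommRingCat.of k))]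
  [IsProper (X ↘ Spec (CommRingCat.of k))]

theorem h0_eq_one_of_isAlgClosed [IsAlgClosed k] [IsIntegral X] : h k 0 (Coh.structureModule X) = 1 := by
  have hF : ((Scheme.ΓSpecIso (CommRingCat.of k)).inv ≫ (X ↘ Spec (CommRingCat.of k)).appTop).hom.IsIntegral :=
    RingHom.isIntegral_respectsIso.2 (e := (Scheme.ΓSpecIso _).symm.commRingCatIsoToRingEquiv) _
      (isIntegral_appTop_of_universallyClosed _)
  letI := (isField_of_universallyClosed k (X ↘ Spec (CommRingCat.of k))).toField
  have hbij : Function.Bijective ((Scheme.ΓSpecIso (CommRingCat.of k)).inv ≫ (X ↘ Spec (CommRingCat.of k)).appTop).hom :=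
    IsAlgClosed.ringHom_bijective_of_isIntegral _ hF
  have hne : (e0 (Coh.structureModule X)).symm (oneSec X) ≠ 0 := fun h => by
    have h1 : oneSec X = 0 := (e0 _).symm.injective (h.trans (map_zero _).symm)
    haveI : Nonempty ((⊤ : X.Opens) : Scheme) := ⟨⟨genericPoint X, trivial⟩⟩
    exact one_ne_zero (α := Γ(X, ⊤)) h1
  refine finrank_eq_one _ hne fun w => ?_
  obtain ⟨c, hc⟩ := hbij.2 (show Γ(X, ⊤) from e0 (Coh.structureModule X) w)
  refine ⟨c, (e0 (Coh.structureModule X)).injective ?_⟩
  rw [e0_smul, AddEquiv.apply_symm_apply]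
  exact (mul_one (M := Γ(X, ⊤)) _).trans hc

/-- An integral scheme of dimension at most one with two points has dimension one. -/
theorem dim_eq_one_of_ne [IsIntegral X] (hd : topologicalKrullDim X ≤ 1) {z : X} (hz : z ≠ genericPoint X) :
    topologicalKrullDim X = 1 := by
  refine le_antisymm hd ?_
  let c : X → IrreducibleCloseds X := fun a =>
    ⟨closure {a}, isIrreducible_singleton.closure, isClosed_closure⟩
  have hs : genericPoint X ⤳ z := (genericPoint_spec X).specializes trivial
  have hlt : c z < c (genericPoint X) := by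
    refine lt_of_le_of_ne (specializes_iff_closure_subset.1 hs : closure {z} ⊆ closure {genericPoint X}) fun e => hz ?_
    have h' : z ⤳ genericPoint X := specializes_iff_mem_closure.2 (by
      rw [show closure ({z} : Set X) = closure {genericPoint X} from congrArg IrreducibleCloseds.carrier e]
      exact subset_closure rfl)
    exact (h'.antisymm hs).eq
  have h1 := Order.LTSeries.length_le_krullDim
    ((RelSeries.singleton {q : IrreducibleCloseds X × IrreducibleCloseds X | q.1 < q.2} (c z)).snoc
      (c (genericPoint X)) hlt)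
  simpa [topologicalKrullDim] using h1

variable (K : Type u) [Field K] [Algebra k K]

/-- The base change of a geometrically integral curve along an algebraic extension. -/
theorem bc_facts [Algebra.IsIntegral k K] [GeometricallyIntegral (X ↘ Spec (CommRingCat.of k))]
    (hd : topologicalKrullDim X = 1) {Y : Scheme.{u}} [Y.Over (Spec (CommRingCat.of K))] (g : Y ⟶ X)
    (sq : IsPullback g (Y ↘ Spec (CommRingCat.of K)) (X ↘ Spec (CommRingCat.of k))
      (Spec.map (CommRingCat.ofHom (algebraMap k K)))) :
    IsIntegral Y ∧ IsProper (Y ↘ Spec (CommRingCat.of K)) ∧ topologicalKrullDim Y = 1 := by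
  haveI : IsIntegral X :=
    GeometricallyIntegral.isIntegral_of_subsingleton (X ↘ Spec (CommRingCat.of k))
  haveI hY : IsIntegral Y :=
    GeometricallyIntegral.geometrically_isIntegral _ _ _ sq
  haveI : IsProper (Y ↘ Spec (CommRingCat.of K)) :=
    MorphismProperty.of_isPullback (P := @IsProper) sq inferInstance
  haveI : IsIntegralHom (Spec.map (CommRingCat.ofHom (algebraMap k K))) := IsIntegralHom.SpecMap_iff.mpr
    (algebraMap_isIntegral_iff.mpr inferInstance)
  haveI : Surjective (Spec.map (CommRingCat.ofHom (algebraMap k K))) :=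
    ⟨fun p => ⟨(IsLocalRing.closedPoint K : PrimeSpectrum K), Subsingleton.elim (α := PrimeSpectrum k) _ _⟩⟩
  haveI : IsIntegralHom g := MorphismProperty.of_isPullback (P := @IsIntegralHom) sq.flip inferInstance
  haveI : Surjective g := MorphismProperty.of_isPullback (P := @Surjective) sq.flip inferInstance
  refine ⟨hY, inferInstance, ?_⟩
  obtain ⟨x, hx⟩ : ∃ x : X, x ≠ genericPoint X := by
    by_contra hall
    push Not at hall
    haveI : Subsingleton X := ⟨fun a b => (hall a).trans (hall b).symm⟩
    haveI : DiscreteTopology X := Subsingleton.discreteTopology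
    have := topologicalKrullDim_zero_of_discreteTopology X
    rw [hd] at this
    exact absurd this (by decide)
  obtain ⟨y, hy⟩ := g.surjective x
  obtain ⟨a, ha⟩ := g.surjective (genericPoint X)
  refine dim_eq_one_of_ne ((Groth.L19.topologicalKrullDim_le_of_isIntegralHom g).trans hd.le) (z := y) fun h => hx ?_
  refine ((specializes_iff_mem_closure.2 ?_ : x ⤳ genericPoint X).antisymm
    ((genericPoint_spec X).specializes trivial)).eq
  rw [← hy, ← ha, h]
  exact (((genericPoint_spec Y).specializes trivial).map g.continuous).mem_closure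

variable [GeometricallyIntegral (X ↘ Spec (CommRingCat.of k))]

theorem h0_eq_one_of_geometricallyIntegral (hd : topologicalKrullDim X = 1) :
    h k 0 (Coh.structureModule X) = 1 := by
  let K := AlgebraicClosure k
  let g := pullback.fst (X ↘ Spec (CommRingCat.of k)) (Spec.map (CommRingCat.ofHom (algebraMap k K)))
  letI : (pullback (X ↘ Spec (CommRingCat.of k)) (Spec.map (CommRingCat.ofHom (algebraMap k K)))).Over
      (Spec (CommRingCat.of K)) := ⟨pullback.snd _ _⟩
  have sq : IsPullback g (pullback (X ↘ Spec (CommRingCat.of k)) (Spec.map (CommRingCat.ofHom (algebraMap k K))) ↘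
      Spec (CommRingCat.of K)) (X ↘ Spec (CommRingCat.of k)) (Spec.map (CommRingCat.ofHom (algebraMap k K))) :=
    IsPullback.of_hasPullback _ _
  obtain ⟨hY, hP, -⟩ := bc_facts k K hd g sq
  haveI := hY
  haveI := hP
  rw [← h_structure_bc g sq 0]
  exact h0_eq_one_of_isAlgClosed K

theorem smooth_of_genus_zero (hd : topologicalKrullDim X = 1) (hg : Curv2.genus k X = 0) :
    Smooth (X ↘ Spec (CommRingCat.of k)) := by
  let K := AlgebraicClosure k
  let φ := Spec.map (CommRingCat.ofHom (algebraMap k K))
  let g := pullback.fst (X ↘ Spec (CommRingCat.of k)) φ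
  letI : (pullback (X ↘ Spec (CommRingCat.of k)) φ).Over (Spec (CommRingCat.of K)) := ⟨pullback.snd _ _⟩
  have sq : IsPullback g (pullback (X ↘ Spec (CommRingCat.of k)) φ ↘ Spec (CommRingCat.of K))
      (X ↘ Spec (CommRingCat.of k)) (Spec.map (CommRingCat.ofHom (algebraMap k K))) :=
    IsPullback.of_hasPullback _ _
  obtain ⟨hY, hP, hdY⟩ := bc_facts k K hd g sq
  haveI := hY
  haveI := hP
  obtain ⟨e, he⟩ := exists_iso_projLine_of_isAlgClosed K hdY ((genus_bc g sq).trans hg)
  have hsm : Smooth (pullback.snd (X ↘ Spec (CommRingCat.of k)) φ) := by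
    rw [show pullback.snd (X ↘ Spec (CommRingCat.of k)) φ =
      e.hom ≫ CohB1.ProjSpace.toSpec 1 K from he.symm]
    infer_instance
  haveI : IsIntegralHom φ := IsIntegralHom.SpecMap_iff.mpr
    (algebraMap_isIntegral_iff.mpr (inferInstance : Algebra.IsIntegral k K))
  haveI : Surjective φ :=
    ⟨fun p => ⟨(IsLocalRing.closedPoint K : PrimeSpectrum K), Subsingleton.elim (α := PrimeSpectrum k) _ _⟩⟩
  haveI : Flat φ := (HasRingHomProperty.Spec_iff (P := @Flat)).mpr
    (RingHom.flat_algebraMap_iff.mpr (inferInstance : Module.Flat k K))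
  exact MorphismProperty.of_pullback_snd_of_descendsAlong (P := @Smooth)
    (Q := @Surjective ⊓ @Flat ⊓ @QuasiCompact) (g := φ) ⟨⟨‹_›, ‹_›⟩, inferInstance⟩ hsm

theorem iso_projLine_iff_point (hd : topologicalKrullDim X = 1) (hg : Curv2.genus k X = 0) :
    (∃ e : X ≅ CohB1.ProjSpace 1 k, e.hom ≫ CohB1.ProjSpace.toSpec 1 k = X ↘ Spec (CommRingCat.of k)) ↔
      ∃ s : Spec (CommRingCat.of k) ⟶ X, s ≫ (X ↘ Spec (CommRingCat.of k)) = 𝟙 _ := by
  haveI : IsIntegral X :=
    GeometricallyIntegral.isIntegral_of_subsingleton (X ↘ Spec (CommRingCat.of k))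
  refine ⟨fun ⟨e, he⟩ => ?_, fun ⟨s, hs⟩ => ?_⟩
  · obtain ⟨s, hs⟩ := exists_projLine_section k
    exact ⟨s ≫ e.inv, by rw [← he, Category.assoc, Iso.inv_hom_id_assoc, hs]⟩
  haveI := smooth_of_genus_zero k hd hg
  haveI : X.IsSeparated := ⟨by rw [← terminal.comp_from (X ↘ Spec (CommRingCat.of k))]; infer_instance⟩
  haveI : IsClosedImmersion s := isClosedImmersion_of_comp_eq_id _ _ hs
  have hz : IsClosed ({s (IsLocalRing.closedPoint k)} : Set X) := by
    have h := s.isClosedEmbedding.isClosed_range
    rwa [Set.range_eq_singleton] at h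
    exact fun p => congrArg _ (Subsingleton.elim (α := PrimeSpectrum k) _ _)
  haveI := Groth.L21.Smooth.regular_stalk (X ↘ Spec (CommRingCat.of k)) (s (IsLocalRing.closedPoint k))
  exact exists_iso_projLine_of_point k hd hg hz (ne_genericPoint_of_isClosed hd hz) (isRat_of_section k s hs _)
    (Groth.L21.SmoothDescent.isPrincipal_of_dim_le_one
      ((Groth.L21.SmoothDescent.ringKrullDim_stalk_le _).trans hd.le))

end Groth.L21.RR
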