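import Groth.Agent.L21.RR.Mul
import Groth.Agent.L18.ProjSpaceUP
import Groth.Agent.L18.SpecLine
import Groth.Agent.L22.VeryAmple.Over
import Mathlib.AlgebraicGeometry.ZariskisMainTheorem
import Mathlib.LinearAlgebra.Dimension.FreeAndStrongRankCondition

/-!
Closed immersions of curves into projective space from generating sections.
-/

set_option autoImplicit false
set_option backward.isDefEq.respectTransparency false
set_option linter.style.haveILetI false
universe u

open CategoryTheory CategoryTheory.Limits AlgebraicGeometry TopologicalSpace Opposite MvPolynomial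

noncomputable section

namespace Groth.L21.RR

open Groth.L16.CohLinear (hmap hmap_comp hmap_id overLin)
open Groth.L18.Frame (IsFrame rs ro rs_rs rs_self rs_smul ro_ro)
open Groth.L18.GenLoc (tens tens_rs tens_smul_left tens_smul_right isFrame_tens secOf)
open Groth.L18.Ample (tw fr it isFrame_fr it_fr exists_extend)

variable {X : Scheme.{u}} {L : X.Modules}

theorem secOf_eq (φ : Coh.structureModule X ⟶ L) : secOf φ = φ.app ⊤ (oneSec X) := rfl

theorem exists_hom_secOf (σ : Γ(L, ⊤)) : ∃ φ : Coh.structureModule X ⟶ L, secOf φ = σ :=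
  ⟨_, app_homOfSection_one σ⟩

/-- `σ ↦ 1 ⊗ σ`. -/
def mulOne (L : X.Modules) : L ⟶ CohB1.tensorMod (Coh.structureModule X) L :=
  ⟨PresheafOfModules.homMk
    { app := fun V => AddCommGrpCat.ofHom (AddMonoidHom.mk'
        (fun t : Γ(L, V.unop) => tens (Coh.structureModule X) L V.unop (rs _ le_top (oneSec X)) t)
        fun a b => Groth.L00.Tensor.ev_add₂ _ _ _ a b)
      naturality := fun {V₁ V₂} i => by
        ext t
        refine Eq.trans ?_ (tens_rs i.unop.le _ t).symm
        rw [rs_rs]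
        rfl }
    (fun V r t => tens_smul_right r _ t)⟩

theorem mulOne_app (V : X.Opens) (t : Γ(L, V)) :
    (mulOne L).app V t = tens (Coh.structureModule X) L V (rs _ le_top (oneSec X)) t := rfl

theorem bijective_st_mulOne (hL : PicF.IsInvertible L) (x : X) : Function.Bijective (st (mulOne L) x) := by
  obtain ⟨W, ε, hx, hε⟩ := Groth.L18.Frame.exists_frame hL x
  have h1 := bijective_germ_frame (isFrame_tens ((isFrame_oneSec (X := X)).mono (le_top : W ≤ ⊤)) hε) hx
  have h2 := bijective_germ_frame hε hx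
  have e : (fun a : X.presheaf.stalk x => a •
      (CohB1.tensorMod (Coh.structureModule X) L).presheaf.germ W x hx (tens _ L W (rs _ le_top (oneSec X)) ε)) =
      st (mulOne L) x ∘ fun a : X.presheaf.stalk x => a • L.presheaf.germ W x hx ε := by
    funext a
    simp only [Function.comp_apply]
    rw [map_smul, st_germ, mulOne_app]
  rw [e] at h1
  exact (Function.Bijective.of_comp_iff _ h2).1 h1

/-- Every section of `O ⊗ L` is `1 ⊗ σ`. -/
theorem exists_mulS_one (hL : PicF.IsInvertible L) (w : Γ(CohB1.tensorMod (Coh.structureModule X) L, ⊤)) :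
    ∃ ψ : Coh.structureModule X ⟶ L, (mulS (Coh.structureModule X) ψ).app ⊤ (oneSec X) = w := by
  haveI : Mono (mulOne L) := (Groth.L21.Mod.mono_iff_stalk_injective _).2 fun x => (bijective_st_mulOne hL x).1
  haveI : Epi (mulOne L) := (Groth.L21.Mod.epi_iff_stalk_surjective _).2 fun x => (bijective_st_mulOne hL x).2
  haveI : IsIso (mulOne L) := isIso_of_mono_of_epi _
  obtain ⟨σ, rfl⟩ := (ConcreteCategory.bijective_of_isIso ((mulOne L).app ⊤)).2 w
  obtain ⟨ψ, hψ⟩ := exists_hom_secOf σ
  refine ⟨ψ, ?_⟩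
  rw [mulS_app, mulOne_app, hψ, rs_self, rs_self]

/-- Coefficients of sections of the powers lie in the ring generated by the coefficients of sections. -/
theorem exists_coeff_mem (hL : PicF.IsInvertible L) (φ : Coh.structureModule X ⟶ L)
    (A : Subring Γ(X, CohB1.genLocus L φ)) (hc : ∀ c : Γ(X, ⊤), ro (le_top : CohB1.genLocus L φ ≤ ⊤) c ∈ A)
    (hA : ∀ (ψ : Coh.structureModule X ⟶ L) (a : Γ(X, CohB1.genLocus L φ)),
      a • rs L (le_top : CohB1.genLocus L φ ≤ ⊤) (secOf φ) = rs L le_top (secOf ψ) → a ∈ A)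
    (hmul : ∀ (n : ℕ) (w : Γ(tw (Coh.structureModule X) L (n + 2), ⊤)), w ∈ AddSubgroup.closure
      (⋃ ψ : Coh.structureModule X ⟶ L, Set.range ((mulS (tw (Coh.structureModule X) L (n + 1)) ψ).app ⊤))) :
    ∀ (n : ℕ) (t : Γ(tw (Coh.structureModule X) L n, ⊤)), ∃ a ∈ A,
      a • fr (rs (Coh.structureModule X) (le_top : CohB1.genLocus L φ ≤ ⊤) (oneSec X))
        (rs L le_top (secOf φ)) n = rs (tw (Coh.structureModule X) L n) le_top t := by
  have hε : IsFrame L (CohB1.genLocus L φ) (rs L le_top (secOf φ)) := Groth.L18.GenLoc.isFrame_genLocus φ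
  have hstep : ∀ (n : ℕ) (t : Γ(tw (Coh.structureModule X) L n, ⊤)) (ψ : Coh.structureModule X ⟶ L),
      (∃ a ∈ A, a • fr (rs (Coh.structureModule X) le_top (oneSec X)) (rs L (le_top : CohB1.genLocus L φ ≤ ⊤) (secOf φ)) n = rs _ le_top t) →
      ∃ a ∈ A, a • fr (rs (Coh.structureModule X) le_top (oneSec X)) (rs L (le_top : CohB1.genLocus L φ ≤ ⊤) (secOf φ)) (n + 1) =
        rs (CohB1.tensorMod (tw (Coh.structureModule X) L n) L) le_top
          ((mulS (tw (Coh.structureModule X) L n) ψ).app ⊤ t) := by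
    rintro n t ψ ⟨a, ha, hat⟩
    obtain ⟨b, hb⟩ := hε.exists_coeff le_rfl (rs L (le_top : (CohB1.genLocus L φ) ≤ ⊤) (secOf ψ))
    rw [rs_self] at hb
    refine ⟨a * b, A.mul_mem ha (hA ψ b hb), ?_⟩
    rw [mulS_app, tens_rs, rs_rs, ← hat, ← hb, tens_smul_left, tens_smul_right, smul_smul]
    rfl
  intro n
  induction n with
  | zero =>
    intro t
    refine ⟨ro le_top (show Γ(X, ⊤) from t), hc _, ?_⟩
    show ro _ _ • rs _ _ (oneSec X) = rs _ _ t
    rw [← rs_smul]
    exact congrArg _ (mul_one (show Γ(X, ⊤) from t))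
  | succ n ih =>
    rcases n with _ | n
    · intro t
      obtain ⟨ψ, rfl⟩ := exists_mulS_one hL t
      exact hstep 0 _ ψ (ih _)
    · intro t
      induction hmul n t using AddSubgroup.closure_induction with
      | mem w hw =>
        obtain ⟨ψ, t', rfl⟩ := Set.mem_iUnion.1 hw
        exact hstep (n + 1) t' ψ (ih t')
      | zero => exact ⟨0, A.zero_mem, (zero_smul _ _).trans (map_zero _).symm⟩
      | add w w' _ _ h h' =>
        obtain ⟨a, ha, hat⟩ := h
        obtain ⟨a', ha', hat'⟩ := h'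
        exact ⟨a + a', A.add_mem ha ha', (add_smul a a' _).trans ((congrArg₂ (· + ·) hat hat').trans (map_add _ w w').symm)⟩
      | neg w _ h =>
        obtain ⟨a, ha, hat⟩ := h
        exact ⟨-a, A.neg_mem ha, (neg_smul a _).trans ((congrArg Neg.neg hat).trans (map_neg _ w).symm)⟩

theorem eq_top_of_coeff [CompactSpace X] [QuasiSeparatedSpace X] (hL : PicF.IsInvertible L)
    (φ : Coh.structureModule X ⟶ L) (A : Subring Γ(X, CohB1.genLocus L φ))
    (hc : ∀ c : Γ(X, ⊤), ro (le_top : CohB1.genLocus L φ ≤ ⊤) c ∈ A)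
    (hA : ∀ (ψ : Coh.structureModule X ⟶ L) (a : Γ(X, CohB1.genLocus L φ)),
      a • rs L (le_top : CohB1.genLocus L φ ≤ ⊤) (secOf φ) = rs L le_top (secOf ψ) → a ∈ A)
    (hmul : ∀ (n : ℕ) (w : Γ(tw (Coh.structureModule X) L (n + 2), ⊤)), w ∈ AddSubgroup.closure
      (⋃ ψ : Coh.structureModule X ⟶ L, Set.range ((mulS (tw (Coh.structureModule X) L (n + 1)) ψ).app ⊤))) :
    A = ⊤ := by
  refine eq_top_iff.2 fun f _ => ?_
  have hone : IsFrame (Coh.structureModule X) (CohB1.genLocus L φ) (rs _ le_top (oneSec X)) := isFrame_oneSec.mono le_top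
  obtain ⟨m, hm⟩ : ∃ m : Γ(Coh.structureModule X, (CohB1.genLocus L φ)), f • rs (Coh.structureModule X) le_top (oneSec X) = m :=
    ⟨_, rfl⟩
  obtain ⟨k, t, ht⟩ := exists_extend hL (Groth.L18.Ample.isInvertible_structureModule X) φ m
  obtain ⟨a, ha, hat⟩ := exists_coeff_mem hL φ A hc hA hmul k t
  have hε := Groth.L18.GenLoc.isFrame_genLocus φ
  rw [ht, ← hm, it_fr (secOf φ) (a := (1 : Γ(X, (CohB1.genLocus L φ)))) (ε := rs L le_top (secOf φ)) (one_smul _ _), one_pow,
    mul_one] at hat
  have hfa : a = f := (isFrame_fr hone hε k).inj le_rfl (by rw [rs_self]; exact hat)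
  rwa [← hfa]

section Curve

variable [IsIntegral X]

theorem eq_genericPoint_of_not_isClosed (hd : topologicalKrullDim X ≤ 1) {x : X}
    (hx : ¬ IsClosed ({x} : Set X)) : x = genericPoint X := by
  obtain ⟨z, hz, hzne⟩ : ∃ z, x ⤳ z ∧ x ≠ z := by
    by_contra hh
    push Not at hh
    exact hx (isClosed_of_closure_subset fun z hz => (hh z (specializes_iff_mem_closure.2 hz)).symm)
  rcases Top.spec_of_dim_le_one (X := X.toTopCat) hd (genericPoint X) x z
    ((genericPoint_spec X).specializes trivial) hz with e | e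
  · exact e.symm
  · exact absurd e hzne

variable {k : Type u} [Field k] (q : X ⟶ Spec (CommRingCat.of k)) [IsProper q]

/-- A morphism to projective space which contracts no curve is finite. -/
theorem isFinite_of_preimage_ne_top (hd : topologicalKrullDim X ≤ 1) {n : ℕ}
    (r : X ⟶ Groth.L18.PUP.P n k) (hr : r ≫ Groth.L18.PUP.pr n k = q)
    (hne : ∀ j : Fin (n + 1), r ⁻¹ᵁ Groth.L18.PUP.D j ≠ ⊤) : IsFinite r := by
  haveI : (Groth.L18.PUP.P n k).IsSeparated :=
    Groth.L18.Ample.isSeparated_of_isAmple (Groth.L22.VeryAmple.isAmple_O1 n k)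
  haveI : IsProper (r ≫ Groth.L18.PUP.pr n k) := by rw [hr]; infer_instance
  haveI : IsProper r := IsProper.of_comp r (Groth.L18.PUP.pr n k)
  haveI : IsLocallyNoetherian X := LocallyOfFiniteType.isLocallyNoetherian q
  haveI : CompactSpace X := QuasiCompact.compactSpace_of_compactSpace q
  haveI : AlgebraicGeometry.IsNoetherian X := ⟨⟩
  refine (IsFinite.iff_isProper_and_locallyQuasiFinite r).2 ⟨inferInstance, ?_⟩
  rw [locallyQuasiFinite_iff_finite_preimage_singleton]
  intro y
  by_cases hy : IsClosed ({y} : Set (Groth.L18.PUP.P n k))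
  · have hc : IsClosed (r ⁻¹' {y}) := hy.preimage r.continuous
    have hη : genericPoint X ∉ r ⁻¹' {y} := fun h => by
      have huniv : ∀ x, r x = y := fun x =>
        hc.closure_subset (closure_mono (Set.singleton_subset_iff.2 h)
          ((genericPoint_spec X).specializes (Set.mem_univ x)).mem_closure)
      obtain ⟨j, hj⟩ := Opens.mem_iSup.mp ((Groth.L18.PS.iSup_chart (n := n) (R := k)).ge (trivial : y ∈ ⊤))
      exact hne j (eq_top_iff.2 fun x _ => show r x ∈ Groth.L18.PUP.D j from (huniv x).symm ▸ hj)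
    let F : Set (⊤ : X.Opens) := Subtype.val ⁻¹' (r ⁻¹' {y})
    have h := (Top.finite_of_forall_isClosed (X := X.toTopCat) (U := ⊤) (F := F)
      (hc.preimage continuous_subtype_val) fun p hp => by
        by_contra hp'
        exact hη ((eq_genericPoint_of_not_isClosed hd hp') ▸ hp)).image
      (Subtype.val : ((⊤ : X.Opens) : Set X) → X)
    exact h.subset fun x hx => ⟨⟨x, trivial⟩, hx, rfl⟩
  · refine (Set.finite_singleton (genericPoint X)).subset fun x hx => eq_genericPoint_of_not_isClosed hd fun hc => ?_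
    refine hy ?_
    have h := r.isClosedMap _ hc
    rwa [Set.image_singleton, (show r x = y from hx)] at h

/-- Sections whose coefficients generate the functions on their loci give a closed immersion. -/
theorem exists_closedImmersion (hd : topologicalKrullDim X ≤ 1) (hL : PicF.IsInvertible L) {n : ℕ}
    (s : Fin (n + 1) → (Coh.structureModule X ⟶ L)) (hcov : ∀ x, ∃ i, x ∈ CohB1.genLocus L (s i))
    (hne : ∀ i, CohB1.genLocus L (s i) ≠ ⊤)
    (hgen : ∀ (i : Fin (n + 1)) (A : Subring Γ(X, CohB1.genLocus L (s i))),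
      (∀ c, q.appLE ⊤ (CohB1.genLocus L (s i)) (by simp) c ∈ A) →
      (∀ (j : Fin (n + 1)) (a : Γ(X, CohB1.genLocus L (s i))),
        a • rs L (le_top : CohB1.genLocus L (s i) ≤ ⊤) (secOf (s i)) = rs L le_top (secOf (s j)) → a ∈ A) →
      A = ⊤) :
    ∃ r : X ⟶ Groth.L18.PUP.P n k, IsClosedImmersion r ∧ r ≫ Groth.L18.PUP.pr n k = q ∧
      Nonempty ((Scheme.Modules.pullback r).obj (Groth.L18.PUP.O1 n k) ≅ L) := by
  let S : Fin (n + 1) → Γ(L, ⊤) := fun j => secOf (s j)
  have hfr : ∀ i, IsFrame L (CohB1.genLocus L (s i)) (rs L le_top (S i)) := fun i =>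
    Groth.L18.GenLoc.isFrame_genLocus (s i)
  obtain ⟨r, hr, τ, hτ⟩ := Groth.L18.PUP.exists_hom q L hL S
    (Groth.L18.SpecLine.generatedBy_of_frames (ι := Fin (n + 1)) S fun x => by
      obtain ⟨i, hi⟩ := hcov x
      exact ⟨_, i, hi, hfr i⟩)
  have hτrs : ∀ (W : X.Opens) (j : Fin (n + 1)),
      τ.hom.app W (rs _ le_top (Groth.L18.PUP.rT r j)) = rs L le_top (S j) := fun W j => by
    rw [← hτ j]
    exact congr($(τ.hom.mapPresheaf.naturality (homOfLE (le_top : W ≤ ⊤)).op) (Groth.L18.PUP.rT r j))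
  have hframe : ∀ (W : X.Opens) (j : Fin (n + 1)),
      IsFrame ((Scheme.Modules.pullback r).obj (Groth.L18.PUP.O1 n k)) W (rs _ le_top (Groth.L18.PUP.rT r j)) ↔
        IsFrame L W (rs L le_top (S j)) := fun W j => by
    refine forall_congr' fun V => forall_congr' fun hV => ?_
    have e1 : (fun b : Γ(X, V) => b • rs L hV (rs L le_top (S j))) =
        τ.hom.app V ∘ fun b => b • rs ((Scheme.Modules.pullback r).obj (Groth.L18.PUP.O1 n k)) hV
          (rs _ le_top (Groth.L18.PUP.rT r j)) := by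
      funext b
      simp only [rs_rs, Function.comp_apply, Scheme.Modules.Hom.app_smul, hτrs]
    rw [e1]
    exact (Function.Bijective.of_comp_iff' (ConcreteCategory.bijective_of_isIso (τ.hom.app V)) _).symm
  have hpre : ∀ i, r ⁻¹ᵁ Groth.L18.PUP.D i = CohB1.genLocus L (s i) := fun i =>
    le_antisymm (Groth.L18.GenLoc.le_genLocus (s i) ((hframe _ _).1 (Groth.L18.PUP.rT_frame r i)))
      (Groth.L18.PUP.le_preimage_of_frame r ((hframe _ _).2 (hfr i)))
  haveI : IsFinite r := isFinite_of_preimage_ne_top q hd r hr fun j => (hpre j).trans_ne (hne j)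
  have hci : ∀ i, IsClosedImmersion (r ∣_ Groth.L18.PUP.D i) := fun i => by
    have hD : IsAffineOpen (Groth.L18.PUP.D (R := k) i) :=
      Proj.isAffineOpen_basicOpen _ _ (Groth.L18.PS.X_mem n i) one_pos
    have hGa : IsAffineOpen (r ⁻¹ᵁ Groth.L18.PUP.D i) := hD.preimage r
    haveI : IsAffine (Groth.L18.PUP.D (R := k) i).toScheme := hD
    haveI : IsAffine (r ⁻¹ᵁ Groth.L18.PUP.D (R := k) i).toScheme := hGa
    have hle : CohB1.genLocus L (s i) ≤ r ⁻¹ᵁ Groth.L18.PUP.D i := (hpre i).ge
    have hsurj : Function.Surjective (r.appLE (Groth.L18.PUP.D i) (CohB1.genLocus L (s i)) hle).hom := by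
      rw [← RingHom.range_eq_top]
      refine hgen i _ (fun c => ?_) fun j a ha => ?_
      · refine ⟨(Groth.L18.PUP.pr n k).appLE ⊤ (Groth.L18.PUP.D i) (by simp) c, ?_⟩
        show ((Groth.L18.PUP.pr n k).appLE ⊤ (Groth.L18.PUP.D i) _ ≫ r.appLE _ _ hle) c = _
        rw [Scheme.Hom.appLE_comp_appLE]
        subst hr
        rfl
      · refine ⟨Groth.L18.PUP.cc i j, (hfr i).inj le_rfl ?_⟩
        have h1 := congrArg (τ.hom.app (CohB1.genLocus L (s i))) (Groth.L18.PUP.rT_smul_le r hle j)
        rw [Scheme.Modules.Hom.app_smul, hτrs, hτrs] at h1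
        rw [rs_self]
        exact h1.trans ha.symm
    have hsurj' : Function.Surjective (r.app (Groth.L18.PUP.D i)).hom := by
      intro y
      obtain ⟨a, ha⟩ := hsurj (X.presheaf.map (homOfLE hle).op y)
      refine ⟨a, ?_⟩
      haveI : IsIso (X.presheaf.map (homOfLE hle).op) := by
        rw [show homOfLE hle = eqToHom (hpre i).symm from rfl]; infer_instance
      exact (ConcreteCategory.bijective_of_isIso (X.presheaf.map (homOfLE hle).op)).1 ha
    refine IsClosedImmersion.of_surjective_of_isAffine _ ?_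
    rw [Scheme.Hom.appTop, morphismRestrict_app]
    intro y
    haveI : IsIso (X.presheaf.map (eqToHom (image_morphismRestrict_preimage r (Groth.L18.PUP.D i) ⊤)).op) :=
      inferInstance
    obtain ⟨z, rfl⟩ := (ConcreteCategory.bijective_of_isIso
      (X.presheaf.map (eqToHom (image_morphismRestrict_preimage r (Groth.L18.PUP.D i) ⊤)).op)).2 y
    have hs2 : Function.Surjective (r.app ((Groth.L18.PUP.D i).ι ''ᵁ ⊤)).hom := by
      rw [(Groth.L18.PUP.D i).ι_image_top]; exact hsurj'
    obtain ⟨a, ha⟩ := hs2 z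
    exact ⟨a, congrArg _ ha⟩
  exact ⟨r, (IsZariskiLocalAtTarget.iff_of_iSup_eq_top (P := @IsClosedImmersion) _
    (Groth.L18.PS.iSup_chart (n := n) (R := k))).2 hci, hr, ⟨τ⟩⟩

end Curve

end Groth.L21.RR
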