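import Groth.Agent.L21.RR.SkyPoint
import Groth.Agent.L21.RR.Immersion
import Groth.Agent.L18.ClosedImmCrit
import Groth.Agent.L21.RR.GeomGenusZero
import Groth.Agent.L21.Disc.Hurwitz

/-!
Very ampleness of invertible modules of large degree on curves over algebraically closed fields.
-/

set_option autoImplicit false
set_option backward.isDefEq.respectTransparency false
set_option linter.style.haveILetI false
universe u

open CategoryTheory CategoryTheory.Limits AlgebraicGeometry TopologicalSpace Opposite IsLocalRing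
attribute [local instance] Curv2.resAlgebra

noncomputable section

namespace Groth.L21.RR

open Groth.L18.Frame (IsFrame rs)
open Groth.L18.GenLoc (secOf)

variable {X : Scheme.{u}} {L : X.Modules}

/-- The value at a point in a frame. -/
theorem exists_value (hL : PicF.IsInvertible L) (P : X) :
    ∃ α : L.presheaf.stalk P →ₗ[X.presheaf.stalk P] ResidueField (X.presheaf.stalk P),
      Function.Surjective α ∧ ∀ v, α v = 0 ↔
        v ∈ maximalIdeal (X.presheaf.stalk P) • (⊤ : Submodule (X.presheaf.stalk P) (L.presheaf.stalk P)) := by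
  obtain ⟨e, he⟩ := exists_frame_stalk hL P
  let θ := LinearEquiv.ofBijective (LinearMap.toSpanSingleton (X.presheaf.stalk P) (L.presheaf.stalk P) e) he
  refine ⟨(Algebra.linearMap (X.presheaf.stalk P) (ResidueField (X.presheaf.stalk P))).comp θ.symm.toLinearMap,
    IsLocalRing.residue_surjective.comp θ.symm.surjective, fun v => ?_⟩
  obtain ⟨a, rfl⟩ := θ.surjective v
  show IsLocalRing.residue _ (θ.symm (θ a)) = 0 ↔ _
  rw [LinearEquiv.symm_apply_apply, IsLocalRing.residue_eq_zero_iff]
  refine ⟨fun ha => Submodule.smul_mem_smul ha Submodule.mem_top, fun ha => ?_⟩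
  have h : θ.symm (θ a) ∈ maximalIdeal (X.presheaf.stalk P) := by
    refine Submodule.smul_induction_on (p := fun v => θ.symm v ∈ maximalIdeal (X.presheaf.stalk P)) ha
      (fun r hr m _ => ?_) fun v w hv hw => by rw [map_add]; exact add_mem hv hw
    rw [map_smul, smul_eq_mul]
    exact Ideal.mul_mem_right _ _ hr
  rwa [LinearEquiv.symm_apply_apply] at h

/-- A non-zero module killed by the maximal ideal has a non-zero functional to the residue field. -/
theorem exists_functional {R : Type u} [CommRing R] [IsLocalRing R] {M : Type u} [AddCommGroup M] [Module R M]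
    (hkill : ∀ r ∈ maximalIdeal R, ∀ v : M, r • v = 0) {v₀ : M} (hv₀ : v₀ ≠ 0) :
    ∃ q : M →ₗ[R] ResidueField R, q v₀ ≠ 0 := by
  letI : Module (ResidueField R) M := Module.IsTorsionBySet.module (fun v r => hkill r r.2 v)
  haveI : IsScalarTower R (ResidueField R) M := Module.IsTorsionBySet.isScalarTower _
  obtain ⟨q, hq⟩ : ∃ q : Module.Dual (ResidueField R) M, q v₀ ≠ 0 := by
    by_contra hall
    push Not at hall
    exact hv₀ ((Module.forall_dual_apply_eq_zero_iff (ResidueField R) v₀).1 hall)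
  exact ⟨q.restrictScalars R, hq⟩

theorem surjective_linearMap_residue {R : Type u} [CommRing R] [IsLocalRing R] {M : Type u} [AddCommGroup M]
    [Module R M] (q : M →ₗ[R] ResidueField R) {v : M} (hv : q v ≠ 0) : Function.Surjective q := fun z => by
  obtain ⟨r, hr⟩ := IsLocalRing.residue_surjective (R := R) (z * (q v)⁻¹)
  refine ⟨r • v, ?_⟩
  rw [map_smul, Algebra.smul_def]
  show IsLocalRing.residue R r * q v = z
  rw [hr, mul_assoc, inv_mul_cancel₀ hv, mul_one]

variable (k : Type u) [Field k] [IsAlgClosed k] [X.Over (Spec (CommRingCat.of k))]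
  [IsProper (X ↘ Spec (CommRingCat.of k))]

theorem finrank_residueField_eq_one {P : X} (hP : IsClosed ({P} : Set X)) :
    Module.finrank k (X.residueField P) = 1 := by
  haveI := Groth.L21.Disc.finite_residueField_of_isClosed k hP
  have hb := IsAlgClosed.algebraMap_bijective_of_isIntegral (k := k) (K := X.residueField P)
  rw [← (LinearEquiv.ofBijective (Algebra.linearMap k (X.residueField P)) hb).finrank_eq, Module.finrank_self]

variable [IsIntegral X]

/-- Sections separate points. -/
theorem exists_sections_separating (hd : topologicalKrullDim X ≤ 1) (hL : PicF.IsInvertible L)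
    (he : (h k 1 (Coh.structureModule X) : ℤ) + 2 ≤ Curv2.euler k X L) {P Q : X}
    (hP : IsClosed ({P} : Set X)) (hQ : IsClosed ({Q} : Set X)) (hPQ : Q ≠ P) :
    ∃ s : Γ(L, ⊤),
      L.presheaf.germ ⊤ P trivial s ∈ maximalIdeal (X.presheaf.stalk P) • (⊤ : Submodule (X.presheaf.stalk P) (L.presheaf.stalk P)) ∧
      L.presheaf.germ ⊤ Q trivial s ∉ maximalIdeal (X.presheaf.stalk Q) • (⊤ : Submodule (X.presheaf.stalk Q) (L.presheaf.stalk Q)) := by
  haveI := isNoetherian_of_proper (X := X) k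
  obtain ⟨α, hα, hα0⟩ := exists_value hL P
  obtain ⟨β, hβ, hβ0⟩ := exists_value hL Q
  obtain ⟨hK, heK⟩ := euler_kernel_toPoint α k hd hP (Groth.L16.ProperFinite.isCoh_of_isInvertible hL) hα
  rw [finrank_residueField_eq_one k hP] at heK
  let ι := kernel.ι (toPoint P α)
  have hsur : Function.Surjective (β.comp (st ι Q)) := fun z => by
    obtain ⟨v, rfl⟩ := hβ z
    haveI := subsingleton_stalk_sky (P := P) hP hPQ
    obtain ⟨u, hu⟩ := exists_st_kernel (toPoint P α) Q v (Subsingleton.elim _ _)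
    exact ⟨u, congrArg β hu⟩
  obtain ⟨s, hs⟩ := exists_section_point (P := Q) (β.comp (st ι Q)) k hd hL ι hK hQ hsur (by
    rw [finrank_residueField_eq_one k hQ]; push_cast at heK ⊢; linarith)
  refine ⟨ι.app ⊤ s, (hα0 _).1 ?_, fun hmem => hs ?_⟩
  · rw [← counit_toPoint α, ← st_germ ι, ← st_comp ι (toPoint P α), kernel.condition, st, Functor.map_zero]
    exact map_zero _
  · show β (st ι Q _) = 0
    rw [st_germ, hβ0]
    exact hmem

/-- Sections separate tangent vectors. -/
theorem maximalIdeal_smul_le_span (hd : topologicalKrullDim X ≤ 1) (hL : PicF.IsInvertible L)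
    (he : (h k 1 (Coh.structureModule X) : ℤ) + 2 ≤ Curv2.euler k X L) {P : X} (hP : IsClosed ({P} : Set X)) :
    maximalIdeal (X.presheaf.stalk P) • (⊤ : Submodule (X.presheaf.stalk P) (L.presheaf.stalk P)) ≤
      Submodule.span (X.presheaf.stalk P)
        {v | (∃ s : Γ(L, ⊤), v = L.presheaf.germ ⊤ P trivial s) ∧
          v ∈ maximalIdeal (X.presheaf.stalk P) • (⊤ : Submodule (X.presheaf.stalk P) (L.presheaf.stalk P))} ⊔
      maximalIdeal (X.presheaf.stalk P) ^ 2 • (⊤ : Submodule (X.presheaf.stalk P) (L.presheaf.stalk P)) := by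
  haveI := isNoetherian_of_proper (X := X) k
  intro v₀ hv₀
  by_contra hnot
  obtain ⟨α, hα, hα0⟩ := exists_value hL P
  obtain ⟨hK, heK⟩ := euler_kernel_toPoint α k hd hP (Groth.L16.ProperFinite.isCoh_of_isInvertible hL) hα
  rw [finrank_residueField_eq_one k hP] at heK
  let ι := kernel.ι (toPoint P α)
  set T := Submodule.span (X.presheaf.stalk P)
      {v | (∃ s : Γ(L, ⊤), v = L.presheaf.germ ⊤ P trivial s) ∧
        v ∈ maximalIdeal (X.presheaf.stalk P) • (⊤ : Submodule (X.presheaf.stalk P) (L.presheaf.stalk P))} ⊔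
    maximalIdeal (X.presheaf.stalk P) ^ 2 • (⊤ : Submodule (X.presheaf.stalk P) (L.presheaf.stalk P)) with hT
  have hmem : ∀ u, st ι P u ∈ maximalIdeal (X.presheaf.stalk P) • (⊤ : Submodule (X.presheaf.stalk P) (L.presheaf.stalk P)) :=
    fun u => (hα0 _).1 (by
      rw [← counit_toPoint α, ← st_comp ι (toPoint P α), kernel.condition, st, Functor.map_zero]
      exact map_zero _)
  obtain ⟨u₀, hu₀⟩ : ∃ u, st ι P u = v₀ := by
    refine exists_st_kernel (toPoint P α) P v₀ ?_
    haveI := Groth.L00.Sky.isIso_counit (x := P) (resMod P)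
    apply (ConcreteCategory.bijective_of_isIso ((Groth.L00.Sky.adj P).counit.app (resMod P))).1
    rw [counit_toPoint, (hα0 _).2 hv₀]
    exact (map_zero _).symm
  let T' : Submodule (X.presheaf.stalk P) ((kernel (toPoint P α)).presheaf.stalk P) := T.comap (st ι P)
  have hkill : ∀ r ∈ maximalIdeal (X.presheaf.stalk P),
      ∀ w : ((kernel (toPoint P α)).presheaf.stalk P) ⧸ T', r • w = 0 := by
    intro r hr w
    obtain ⟨u, rfl⟩ := Submodule.Quotient.mk_surjective _ w
    rw [← Submodule.Quotient.mk_smul, Submodule.Quotient.mk_eq_zero]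
    show st ι P (r • u) ∈ T
    rw [map_smul]
    refine Submodule.mem_sup_right ?_
    rw [pow_two, Submodule.mul_smul]
    exact Submodule.smul_mem_smul hr (hmem u)
  obtain ⟨q, hq⟩ := exists_functional hkill (v₀ := Submodule.Quotient.mk u₀) (by
    rw [Ne, Submodule.Quotient.mk_eq_zero]
    show st ι P u₀ ∉ T
    rw [hu₀]
    exact hnot)
  obtain ⟨s, hs⟩ := exists_section_point (P := P) (q.comp T'.mkQ) k hd hL ι hK hP
    ((surjective_linearMap_residue q hq).comp T'.mkQ_surjective) (by
      rw [finrank_residueField_eq_one k hP]; push_cast at heK ⊢; linarith)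
  refine hs ?_
  show q (Submodule.Quotient.mk _) = 0
  rw [(Submodule.Quotient.mk_eq_zero T').2 ?_, map_zero]
  refine Submodule.mem_sup_left (Submodule.subset_span ⟨⟨ι.app ⊤ s, st_germ ι _ s⟩, hmem _⟩)

section Spanning

variable {n : ℕ} {S : Fin (n + 1) → Γ(L, ⊤)}

/-- A spanning family has no base points. -/
theorem exists_germ_not_mem (hd : topologicalKrullDim X ≤ 1) (hL : PicF.IsInvertible L)
    (he : (h k 1 (Coh.structureModule X) : ℤ) + 2 ≤ Curv2.euler k X L)
    (hspan : ∀ s : Γ(L, ⊤), ∃ c : Fin (n + 1) → k,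
      s = ∑ j, ProjUP.toGlobal (X ↘ Spec (CommRingCat.of k)) (c j) • S j) {z : X} (hz : IsClosed ({z} : Set X)) :
    ∃ j : Fin (n + 1), L.presheaf.germ ⊤ z trivial (S j) ∉
      maximalIdeal (X.presheaf.stalk z) • (⊤ : Submodule (X.presheaf.stalk z) (L.presheaf.stalk z)) := by
  haveI := isNoetherian_of_proper (X := X) k
  by_contra hall
  push Not at hall
  obtain ⟨α, hα, hα0⟩ := exists_value hL z
  obtain ⟨s, hs⟩ := exists_section_point α k hd hL (𝟙 L) (Groth.L16.ProperFinite.isCoh_of_isInvertible hL) hz hα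
    (by rw [finrank_residueField_eq_one k hz]; push_cast; linarith)
  obtain ⟨c, rfl⟩ := hspan s
  refine hs ((hα0 _).2 ?_)
  rw [map_sum]
  refine Submodule.sum_mem _ fun j _ => ?_
  rw [Groth.L20.ModStalk.germ_smul]
  exact Submodule.smul_mem _ _ (hall j)

/-- A spanning family generates. -/
theorem generatedBy_of_span (hd : topologicalKrullDim X ≤ 1) (hL : PicF.IsInvertible L)
    (he : (h k 1 (Coh.structureModule X) : ℤ) + 2 ≤ Curv2.euler k X L)
    (hspan : ∀ s : Γ(L, ⊤), ∃ c : Fin (n + 1) → k,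
      s = ∑ j, ProjUP.toGlobal (X ↘ Spec (CommRingCat.of k)) (c j) • S j) :
    ProjUP.GeneratedBy L S := by
  classical
  haveI := isNoetherian_of_proper (X := X) k
  choose φ hφ using fun j => exists_hom_secOf (X := X) (S j)
  have hsurj : ∀ (z : X) (j : Fin (n + 1)), L.presheaf.germ ⊤ z trivial (S j) ∉
      maximalIdeal (X.presheaf.stalk z) • (⊤ : Submodule (X.presheaf.stalk z) (L.presheaf.stalk z)) →
      Function.Surjective (st (φ j) z) := by
    intro z j hj
    obtain ⟨e, he⟩ := exists_frame_stalk hL z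
    obtain ⟨a, ha⟩ := he.2 (L.presheaf.germ ⊤ z trivial (S j))
    have hone : st (φ j) z (one X z) = L.presheaf.germ ⊤ z trivial (S j) := by
      rw [st_one (φ j) z (W := ⊤) trivial, Groth.L18.Frame.rs_self, ← secOf_eq, hφ j]
    refine (surjective_st_iff he (φ j) (ha.trans hone.symm)).2 ?_
    by_contra hu
    exact hj (ha ▸ Submodule.smul_mem_smul ((IsLocalRing.mem_maximalIdeal _).2 hu) Submodule.mem_top)
  exact Groth.L18.SpecLine.generatedBy_of_frames (ι := Fin (n + 1)) S fun x => by
      obtain ⟨z, hz, hxz⟩ := exists_closed_specialization x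
      obtain ⟨j, hj⟩ := exists_germ_not_mem k hd hL he hspan hz
      refine ⟨_, j, (mem_genLocus_iff hL (φ j) x).2 (surjective_st_of_specializes hL hxz (hsurj z j hj)), ?_⟩
      rw [← hφ j]
      exact Groth.L18.GenLoc.isFrame_genLocus (φ j)

/-- The morphism of a spanning family is a closed immersion. -/
theorem isClosedImmersion_of_span (hd : topologicalKrullDim X ≤ 1) (hL : PicF.IsInvertible L)
    (he : (h k 1 (Coh.structureModule X) : ℤ) + 2 ≤ Curv2.euler k X L)
    (hspan : ∀ s : Γ(L, ⊤), ∃ c : Fin (n + 1) → k,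
      s = ∑ j, ProjUP.toGlobal (X ↘ Spec (CommRingCat.of k)) (c j) • S j)
    (r : X ⟶ Groth.L18.PUP.P n k) (hr : r ≫ Groth.L18.PUP.pr n k = X ↘ Spec (CommRingCat.of k))
    (τ : (Scheme.Modules.pullback r).obj (Groth.L18.PUP.O1 n k) ≅ L)
    (hτ : ∀ j, τ.hom.app ⊤ (Groth.L18.PUP.rT r j) = S j) : IsClosedImmersion r := by
  classical
  haveI := isNoetherian_of_proper (X := X) k
  let M₁ := (Scheme.Modules.pullback r).obj (Groth.L18.PUP.O1 n k)
  let θ : ∀ x : X, M₁.presheaf.stalk x ≃ₗ[X.presheaf.stalk x] L.presheaf.stalk x := fun x =>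
    ((Groth.L00.Stk.F X x).mapIso τ).toLinearEquiv
  have hθs : ∀ (x : X) (c : Fin (n + 1) → k),
      θ x (Groth.L18.CIC.secGerm (X ↘ Spec (CommRingCat.of k)) r x c) =
        L.presheaf.germ ⊤ x trivial (∑ j, ProjUP.toGlobal (X ↘ Spec (CommRingCat.of k)) (c j) • S j) := by
    intro x c
    refine (st_germ τ.hom (U := ⊤) trivial _).trans ?_
    refine congrArg _ ?_
    rw [map_sum]
    refine Finset.sum_congr rfl fun j _ => ?_
    rw [Scheme.Modules.Hom.app_smul, hτ j]
  have hθmap : ∀ (x : X) (J : Ideal (X.presheaf.stalk x)),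
      (J • (⊤ : Submodule (X.presheaf.stalk x) (M₁.presheaf.stalk x))).map (θ x).toLinearMap =
        J • (⊤ : Submodule (X.presheaf.stalk x) (L.presheaf.stalk x)) := fun x J => by
    rw [Submodule.map_smul'', Submodule.map_top, LinearEquiv.range]
  have hθmem : ∀ (x : X) (J : Ideal (X.presheaf.stalk x)) (v : M₁.presheaf.stalk x),
      v ∈ J • (⊤ : Submodule (X.presheaf.stalk x) (M₁.presheaf.stalk x)) ↔
        θ x v ∈ J • (⊤ : Submodule (X.presheaf.stalk x) (L.presheaf.stalk x)) := fun x J v => by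
    rw [← hθmap x J, ← LinearEquiv.coe_toLinearMap (θ x)]
    exact ⟨fun h => Submodule.mem_map_of_mem h, fun ⟨w, hw, hwv⟩ => (θ x).injective hwv ▸ hw⟩
  refine Groth.L18.CIC.isClosedImmersion_of_sep_tan (X ↘ Spec (CommRingCat.of k)) r hr
    (fun P Q hP hQ hne => ?_) fun P hP => ?_
  · obtain ⟨s, hsP, hsQ⟩ := exists_sections_separating k hd hL he hP hQ (Ne.symm hne)
    obtain ⟨c, rfl⟩ := hspan s
    refine ⟨c, fun hiff => hsQ ?_⟩
    have h1 := hiff.1 ((hθmem P _ _).2 (by rw [hθs P c]; exact hsP))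
    rw [← hθs Q c]
    exact (hθmem Q _ _).1 h1
  · intro v hv
    have h1 := maximalIdeal_smul_le_span k hd hL he hP ((hθmem P _ v).1 hv)
    have h2 : θ P v ∈ (Submodule.span (X.presheaf.stalk P)
        {v | ∃ c : Fin (n + 1) → k, v = Groth.L18.CIC.secGerm (X ↘ Spec (CommRingCat.of k)) r P c ∧
          v ∈ maximalIdeal (X.presheaf.stalk P) • (⊤ : Submodule (X.presheaf.stalk P) (Groth.L18.CIC.MS r P))} ⊔
        maximalIdeal (X.presheaf.stalk P) ^ 2 • (⊤ : Submodule (X.presheaf.stalk P) (Groth.L18.CIC.MS r P))).map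
          (θ P).toLinearMap := by
      rw [Submodule.map_sup, Submodule.map_span, hθmap]
      obtain ⟨a, ha, b, hb, hab⟩ := Submodule.mem_sup.1 h1
      refine Submodule.mem_sup.2 ⟨a, Submodule.span_mono ?_ ha, b, hb, hab⟩
      rintro w ⟨⟨s, rfl⟩, hw⟩
      obtain ⟨c, rfl⟩ := hspan s
      exact ⟨_, ⟨c, rfl, (hθmem P _ _).2 (by rw [hθs P c]; exact hw)⟩, hθs P c⟩
    obtain ⟨w, hw, hwv⟩ := h2
    exact (θ P).injective hwv ▸ hw

omit [IsAlgClosed k] [IsIntegral X] in
/-- A spanning family of global sections. -/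
theorem exists_span_fin (hd : topologicalKrullDim X ≤ 1) (hL : PicF.IsInvertible L)
    (he : (h k 1 (Coh.structureModule X) : ℤ) + 2 ≤ Curv2.euler k X L) :
    ∃ (n : ℕ) (S : Fin (n + 1) → Γ(L, ⊤)), ∀ s : Γ(L, ⊤), ∃ c : Fin (n + 1) → k,
      s = ∑ j, ProjUP.toGlobal (X ↘ Spec (CommRingCat.of k)) (c j) • S j := by
  haveI := isNoetherian_of_proper (X := X) k
  haveI := finite_HH' k (Groth.L16.ProperFinite.isCoh_of_isInvertible hL) 0
  have hne : 0 < Module.finrank k (Coh.HH X L 0) := by
    rw [euler_eq k hd] at he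
    show 0 < h k 0 L
    omega
  obtain ⟨n, hn⟩ := Nat.exists_eq_succ_of_ne_zero hne.ne'
  let b := Module.finBasisOfFinrankEq k (Coh.HH X L 0) hn
  let S : Fin (n + 1) → Γ(L, ⊤) := fun i => e0 L (b i)
  refine ⟨n, S, fun s => ?_⟩
  refine ⟨fun j => b.repr ((e0 L).symm s) j, ?_⟩
  conv_lhs => rw [← (e0 L).apply_symm_apply s, ← b.sum_repr ((e0 L).symm s)]
  rw [map_sum]
  exact Finset.sum_congr rfl fun j _ => e0_smul k L _ _

end Spanning

/-- Invertible modules of degree at least `2g + 1` are very ample over an algebraically closed field. -/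
theorem exists_closedImmersion_of_euler_ge (hd : topologicalKrullDim X = 1) (hL : PicF.IsInvertible L)
    (he : (h k 1 (Coh.structureModule X) : ℤ) + 2 ≤ Curv2.euler k X L) :
    ∃ (n : ℕ) (r : X ⟶ Groth.L18.PUP.P n k), IsClosedImmersion r ∧
      r ≫ Groth.L18.PUP.pr n k = X ↘ Spec (CommRingCat.of k) ∧
      Nonempty ((Scheme.Modules.pullback r).obj (Groth.L18.PUP.O1 n k) ≅ L) := by
  obtain ⟨n, S, hspan⟩ := exists_span_fin k hd.le hL he
  obtain ⟨r, hr, τ, hτ⟩ := Groth.L18.PUP.exists_hom (X ↘ Spec (CommRingCat.of k)) L hL S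
    (generatedBy_of_span k hd.le hL he hspan)
  exact ⟨n, r, isClosedImmersion_of_span k hd.le hL he hspan r hr τ hτ, hr, ⟨τ⟩⟩

end Groth.L21.RR
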