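import Groth.Agent.L21.RR.ProjLineGenus
import Groth.Prelude.Def_Pi1
import Mathlib.RingTheory.DiscreteValuationRing.TFAE

/-!
Two linearly equivalent rational points give a pencil of degree one.
-/

set_option autoImplicit false
set_option backward.isDefEq.respectTransparency false
set_option linter.style.haveILetI false
universe u

open CategoryTheory CategoryTheory.Limits AlgebraicGeometry TopologicalSpace Opposite

noncomputable section

namespace Groth.L21.RR

variable {X : Scheme.{u}} (k : Type u) [Field k] [X.Over (Spec (CommRingCat.of k))]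

theorem ker_eq_vanishingIdeal_point (x : Spec (CommRingCat.of k) ⟶ X) [IsClosedImmersion x] {z : X}
    (hz : IsClosed ({z} : Set X)) (hxz : ∀ p, x p = z) :
    x.ker = Scheme.IdealSheafData.vanishingIdeal ⟨{z}, hz⟩ := by
  have hrad : x.ker.radical = x.ker := by
    refine Scheme.IdealSheafData.ext (funext fun U => ?_)
    rw [Scheme.IdealSheafData.radical_ideal, Groth.L18.ker_ideal_eq_of_isReduced]
    refine le_antisymm (fun a ha => ?_) Ideal.le_radical
    obtain ⟨n, hn⟩ := ha
    have h1 : (x.app U).hom a ^ n = 0 := by rw [← map_pow]; exact hn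
    exact eq_zero_of_pow_eq_zero h1
  have hsupp : x.ker.support = ⟨{z}, hz⟩ := by
    refine SetLike.coe_injective ?_
    rw [Scheme.Hom.support_ker]
    show closure (Set.range x) = {z}
    rw [show Set.range x = {z} from
      Set.eq_singleton_iff_unique_mem.2 ⟨⟨IsLocalRing.closedPoint k, hxz _⟩, by rintro _ ⟨p, rfl⟩; exact hxz p⟩,
      hz.closure_eq]
  rw [← hrad, ← Scheme.IdealSheafData.vanishingIdeal_support, hsupp]

theorem st_twπ_eq_zero_of_ne {L : X.Modules} (hL : PicF.IsInvertible L) {z : X} (hz : IsClosed ({z} : Set X))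
    {y : X} (hy : y ≠ z) (v : L.presheaf.stalk y) :
    st (twπ L (Scheme.IdealSheafData.vanishingIdeal ⟨{z}, hz⟩)) y v = 0 := by
  obtain ⟨e, he⟩ := exists_frame_stalk hL y
  haveI : Subsingleton ((ClSub.quotMod (Scheme.IdealSheafData.vanishingIdeal ⟨{z}, hz⟩)).presheaf.stalk y) :=
    subsingleton_stalk_quotMod _ (by rw [Groth.L18.support_vanishingIdeal]; exact hy)
  haveI := (tensorStalkEquiv (L := L) (ClSub.quotMod (Scheme.IdealSheafData.vanishingIdeal ⟨{z}, hz⟩)) he).toEquiv.subsingleton
  exact Subsingleton.elim _ _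

theorem surjective_st_twι_of_ne {L : X.Modules} (hL : PicF.IsInvertible L) {z : X} (hz : IsClosed ({z} : Set X))
    {y : X} (hy : y ≠ z) :
    Function.Surjective (st (twι L (Scheme.IdealSheafData.vanishingIdeal ⟨{z}, hz⟩)) y) := fun v =>
  (ShortComplex.moduleCat_exact_iff _).1
    ((shortExact_tw (Scheme.IdealSheafData.vanishingIdeal ⟨{z}, hz⟩) hL).exact.map (Groth.L00.Stk.F X y)) v
    (st_twπ_eq_zero_of_ne hL hz hy v)

/-- The quotient by a point: killed by the maximal ideal, and non-zero on a generator. -/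
theorem st_twπ_point {L : X.Modules} (hL : PicF.IsInvertible L) {z : X} (hz : IsClosed ({z} : Set X))
    {e : L.presheaf.stalk z} (he : Function.Bijective fun a : X.presheaf.stalk z => a • e)
    (a : X.presheaf.stalk z) :
    st (twπ L (Scheme.IdealSheafData.vanishingIdeal ⟨{z}, hz⟩)) z (a • e) = 0 ↔
      a ∈ IsLocalRing.maximalIdeal (X.presheaf.stalk z) := by
  set I := Scheme.IdealSheafData.vanishingIdeal (⟨{z}, hz⟩ : Closeds X)
  haveI : IsSimpleModule (X.presheaf.stalk z) ((ClSub.quotMod I).presheaf.stalk z) := isSimple_quot_point hz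
  let θ := tensorStalkEquiv (L := L) (ClSub.quotMod I) he
  let w := θ (st (twπ L I) z e)
  have hsur : Function.Surjective (st (twπ L I) z) :=
    (Groth.L21.Mod.epi_iff_stalk_surjective (twπ L I)).1 (shortExact_tw I hL).epi_g z
  have hw : w ≠ 0 := fun h0 => by
    have h1 : ∀ v, st (twπ L I) z v = 0 := fun v => by
      obtain ⟨b, rfl⟩ := he.2 v
      rw [map_smul, θ.map_eq_zero_iff.1 h0, smul_zero]
    haveI := IsSimpleModule.nontrivial (X.presheaf.stalk z) ((ClSub.quotMod I).presheaf.stalk z)
    obtain ⟨q, hq⟩ := exists_ne (0 : (ClSub.quotMod I).presheaf.stalk z)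
    obtain ⟨v, hv⟩ := hsur (θ.symm q)
    rw [h1] at hv
    exact hq (θ.symm.map_eq_zero_iff.1 hv.symm)
  have key : st (twπ L I) z (a • e) = 0 ↔ a • w = 0 := by
    rw [← θ.map_eq_zero_iff, map_smul, map_smul]
  rw [key]
  have hmax := IsSimpleModule.annihilator_isMaximal (R := X.presheaf.stalk z) (M := (ClSub.quotMod I).presheaf.stalk z)
  have hann := IsLocalRing.eq_maximalIdeal hmax
  refine ⟨fun h => ?_, fun h => ?_⟩
  · by_contra hu
    have hunit : IsUnit a := by
      by_contra hnu
      exact hu ((IsLocalRing.mem_maximalIdeal a).2 hnu)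
    exact hw ((IsUnit.smul_eq_zero hunit).1 h)
  · rw [← hann] at h
    exact Module.mem_annihilator.1 h w

/-- Two sections with the same image point are equal. -/
theorem eq_of_section_apply_eq (p : X ⟶ Spec (CommRingCat.of k)) [IsSeparated p]
    (x y : Spec (CommRingCat.of k) ⟶ X) (hx : x ≫ p = 𝟙 _) (hy : y ≫ p = 𝟙 _)
    (h : x (IsLocalRing.closedPoint k) = y (IsLocalRing.closedPoint k)) : x = y := by
  haveI : IsClosedImmersion x := isClosedImmersion_of_comp_eq_id _ _ hx
  haveI : IsClosedImmersion y := isClosedImmersion_of_comp_eq_id _ _ hy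
  have hall : ∀ (s : Spec (CommRingCat.of k) ⟶ X) (q : Spec (CommRingCat.of k)),
      s q = s (IsLocalRing.closedPoint k) :=
    fun s q => congrArg _ (Subsingleton.elim (α := PrimeSpectrum k) _ _)
  have hcl : IsClosed ({x (IsLocalRing.closedPoint k)} : Set X) := by
    have h := x.isClosedEmbedding.isClosed_range
    rwa [Set.range_eq_singleton] at h
    exact hall x
  have hk : x.ker ≤ y.ker := by
    rw [ker_eq_vanishingIdeal_point k x hcl (hall x), ker_eq_vanishingIdeal_point k y hcl fun q => (hall y q).trans h.symm]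
  have hg := IsClosedImmersion.lift_fac x y hk
  have h1 : IsClosedImmersion.lift x y hk = 𝟙 _ := by
    rw [← Category.comp_id (IsClosedImmersion.lift x y hk), ← hx, ← Category.assoc, hg, hy, hx]
  rw [← hg, h1, Category.id_comp]

theorem isPrincipal_of_normal [IsLocallyNoetherian X] (hd : topologicalKrullDim X = 1) (hN : Pi1.IsNormalScheme X)
    {z : X} (_hz : IsClosed ({z} : Set X)) : (IsLocalRing.maximalIdeal (X.presheaf.stalk z)).IsPrincipal := by
  haveI := (hN z).1
  haveI := (hN z).2
  haveI : Ring.KrullDimLE 1 (X.presheaf.stalk z) :=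
    Ring.krullDimLE_iff.2 ((Groth.L21.SmoothDescent.ringKrullDim_stalk_le z).trans hd.le)
  exact ((tfae_of_isNoetherianRing_of_isLocalRing_of_isDomain (R := X.presheaf.stalk z)).out 3 4 (a := IsIntegrallyClosed (X.presheaf.stalk z) ∧ ∀ P : Ideal (X.presheaf.stalk z), P ≠ ⊥ → P.IsPrime →
        P = IsLocalRing.maximalIdeal (X.presheaf.stalk z))
      (b := (IsLocalRing.maximalIdeal (X.presheaf.stalk z)).IsPrincipal)).1
    ⟨inferInstance, fun P hP hP' => IsLocalRing.eq_maximalIdeal (hP'.isMaximal_of_ne_bot hP)⟩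

variable [IsIntegral X] [IsProper (X ↘ Spec (CommRingCat.of k))]

/-- Linearly equivalent distinct rational points give two sections of a module of degree one. -/
theorem exists_pencil_of_two_points (hd : topologicalKrullDim X = 1) {z w : X} (hz : IsClosed ({z} : Set X))
    (hw : IsClosed ({w} : Set X)) (hzw : z ≠ w) (hrat : IsRat k z)
    (hp : (IsLocalRing.maximalIdeal (X.presheaf.stalk z)).IsPrincipal)
    (ε : ClSub.idealMod (Scheme.IdealSheafData.vanishingIdeal ⟨{z}, hz⟩) ≅
      ClSub.idealMod (Scheme.IdealSheafData.vanishingIdeal ⟨{w}, hw⟩)) :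
    ∃ L : X.Modules, PicF.IsInvertible L ∧ Curv2.deg k X L 1 = 1 ∧ 2 ≤ h k 0 L := by
  haveI := isNoetherian_of_proper (X := X) k
  obtain ⟨L, s, π, e, hL, hdeg, hs0, hsur, he, hsz, hπ⟩ :=
    exists_deg_one_section k hd.le hz (ne_genericPoint_of_isClosed hd hz) hrat hp
  refine ⟨L, hL, hdeg, ?_⟩
  set I := Scheme.IdealSheafData.vanishingIdeal (⟨{z}, hz⟩ : Closeds X) with hI
  set J := Scheme.IdealSheafData.vanishingIdeal (⟨{w}, hw⟩ : Closeds X) with hJ
  have hπm : π ∈ IsLocalRing.maximalIdeal (X.presheaf.stalk z) := by rw [hπ]; exact Submodule.mem_span_singleton_self π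
  have hse : s ≫ twπ L I = 0 := by
    refine Groth.L21.Mod.hom_ext_stalk fun y => ?_
    ext v
    obtain ⟨a, rfl⟩ := (bijective_smul_one y).2 v
    rw [Functor.map_zero]
    show st (s ≫ twπ L I) y (a • one X y) = 0
    rw [st_comp]
    by_cases hy : y = z
    · subst hy
      rw [map_smul, ← hsz, smul_smul]
      exact (st_twπ_point hL hz he _).2 (Ideal.mul_mem_left _ a hπm)
    · exact st_twπ_eq_zero_of_ne hL hz hy _
  haveI : Mono (twι L I) := (shortExact_tw I hL).mono_f
  let α : Coh.structureModule X ⟶ CohB1.tensorMod L (ClSub.idealMod I) :=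
    (shortExact_tw I hL).fIsKernel.lift (KernelFork.ofι s hse)
  have hα : α ≫ twι L I = s := (shortExact_tw I hL).fIsKernel.fac (KernelFork.ofι s hse) WalkingParallelPair.zero
  let t : Coh.structureModule X ⟶ L :=
    α ≫ (Groth.L00.Tensor.tensorIso (Iso.refl L) ε).hom ≫ twι L J
  have hαsur : Function.Surjective (st α z) := fun v => by
    have hv : st (twπ L I) z (st (twι L I) z v) = 0 := by
      rw [← st_comp, twι_twπ, st, Functor.map_zero]
      rfl
    obtain ⟨a, ha⟩ := he.2 (st (twι L I) z v)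
    change a • e = _ at ha
    rw [← ha] at hv
    have hmem := (st_twπ_point hL hz he a).1 hv
    rw [hπ] at hmem
    obtain ⟨c, hc⟩ := Submodule.mem_span_singleton.1 hmem
    refine ⟨c • one X z, (Groth.L21.Mod.mono_iff_stalk_injective (twι L I)).1 inferInstance z ?_⟩
    show st (twι L I) z (st α z (c • one X z)) = st (twι L I) z v
    rw [← st_comp, hα, map_smul, ← hsz, smul_smul, ← ha, ← hc, smul_eq_mul]
  have htz : Function.Surjective (st t z) := fun v => by
    obtain ⟨v₁, hv₁⟩ := surjective_st_twι_of_ne hL hw hzw v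
    obtain ⟨v₂, hv₂⟩ := hαsur (st (Groth.L00.Tensor.tensorIso (Iso.refl L) ε).inv z v₁)
    refine ⟨v₂, ?_⟩
    rw [show t = α ≫ (Groth.L00.Tensor.tensorIso (Iso.refl L) ε).hom ≫ twι L J from rfl, st_comp, st_comp, hv₂,
      ← st_comp (Groth.L00.Tensor.tensorIso (Iso.refl L) ε).inv, Iso.inv_hom_id]
    simpa [st] using hv₁
  let x₁ := (e0 L).symm (Groth.L18.GenLoc.secOf s)
  let x₂ := (e0 L).symm (Groth.L18.GenLoc.secOf t)
  have hne : x₁ ≠ 0 := fun h0 => hs0 (hom_ext_one (by
    have h1 : Groth.L18.GenLoc.secOf s = 0 := (e0 L).symm.injective (h0.trans (map_zero _).symm)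
    refine h1.trans ?_
    rfl))
  have hind : LinearIndependent k ![x₁, x₂] := by
    refine (LinearIndependent.pair_iff' hne).2 fun c hc => ?_
    have h1 := congrArg (fun v => L.presheaf.germ ⊤ z trivial (e0 L v)) hc
    simp only [x₁, x₂, e0_smul, AddEquiv.apply_symm_apply, Groth.L20.ModStalk.germ_smul] at h1
    have h2 : st t z (one X z) = (cstAt k z c * π) • e := by
      rw [st_one t z (W := ⊤) trivial, Groth.L18.Frame.rs_self, ← smul_smul, hsz, st_one s z (W := ⊤) trivial,
        Groth.L18.Frame.rs_self]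
      exact h1.symm
    have hu := (surjective_st_iff he t h2.symm).1 htz
    exact hπm (isUnit_of_mul_isUnit_right hu)
  haveI := finite_HH' k (Groth.L16.ProperFinite.isCoh_of_isInvertible hL) 0
  simpa using hind.fintype_card_le_finrank

end Groth.L21.RR
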