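import Groth.Agent.L21.RR.PointTwist
import Groth.Agent.L21.RR.TwoPoints

/-!
Global generation and very ampleness of invertible modules on curves, through the drop of `h⁰` at points.

Main results: `twist_point`, `isGloballyGenerated_iff`, `twist_two_points`, `veryAmple_iff`.
-/

set_option autoImplicit false
set_option backward.isDefEq.respectTransparency false
set_option linter.style.haveILetI false
universe u

open CategoryTheory CategoryTheory.Limits AlgebraicGeometry TopologicalSpace Opposite IsLocalRing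

noncomputable section

namespace Groth.L21.RR

open Groth.L16.CohLinear (hmap)

attribute [local instance] Curv2.resAlgebra

variable {X : Scheme.{u}} {L M : X.Modules} {P : X}

/-- The ideal module of a closed point. -/
abbrev ptI (P : X) (hP : IsClosed ({P} : Set X)) : X.Modules :=
  ClSub.idealMod (Scheme.IdealSheafData.vanishingIdeal ⟨{P}, hP⟩)

/-- A morphism factors through a monomorphism if it does so on the stalks. -/
theorem exists_lift {A : X.Modules} (ι : M ⟶ L) [Mono ι] (g : A ⟶ L)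
    (hg : ∀ (y : X) (a : A.presheaf.stalk y), ∃ u, st ι y u = st g y a) : ∃ g' : A ⟶ M, g' ≫ ι = g := by
  have h0 : g ≫ cokernel.π ι = 0 := by
    refine (Groth.L21.Mod.eq_zero_iff_stalk _).2 fun y => ?_
    ext a
    change st (g ≫ cokernel.π ι) y a = 0
    obtain ⟨w, hw⟩ := hg y a
    refine (st_comp g (cokernel.π ι) y a).trans ?_
    rw [← hw, ← st_comp, cokernel.condition, st, Functor.map_zero]
    rfl
  exact ⟨Abelian.monoLift ι g h0, Abelian.monoLift_comp _ _ _⟩

theorem surjective_st_iff_not_mem (hL : PicF.IsInvertible L) (φ : Coh.structureModule X ⟶ L) (P : X) :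
    Function.Surjective (st φ P) ↔
      st φ P (one X P) ∉ maximalIdeal (X.presheaf.stalk P) • (⊤ : Submodule (X.presheaf.stalk P) (L.presheaf.stalk P)) := by
  obtain ⟨e, he⟩ := exists_frame_stalk hL P
  obtain ⟨a, ha⟩ := he.2 (st φ P (one X P))
  let θ := LinearEquiv.ofBijective (LinearMap.toSpanSingleton (X.presheaf.stalk P) (L.presheaf.stalk P) e) he
  rw [surjective_st_iff he φ ha, ← ha]
  refine ⟨fun hu hmem => ?_, fun hn => ?_⟩
  · have h5 := Submodule.mem_map_of_mem (f := θ.symm.toLinearMap) hmem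
    rw [Submodule.map_smul'', Submodule.map_top, LinearEquiv.range] at h5
    have h6 : θ.symm (a • e) = a := θ.symm_apply_apply a
    rw [show θ.symm.toLinearMap (a • e) = a from h6, Ideal.smul_eq_mul, Ideal.mul_top] at h5
    exact h5 hu
  · by_contra hu
    exact hn (Submodule.smul_mem_smul ((IsLocalRing.mem_maximalIdeal a).2 hu) Submodule.mem_top)

theorem st_one_top (φ : Coh.structureModule X ⟶ L) (y : X) :
    st φ y (one X y) = L.presheaf.germ ⊤ y trivial (φ.app ⊤ (oneSec X)) := by
  rw [one, st_germ]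

theorem smul_top_ne_top (hL : PicF.IsInvertible L) (P : X) :
    ¬ (⊤ : Submodule (X.presheaf.stalk P) (L.presheaf.stalk P)) ≤
      maximalIdeal (X.presheaf.stalk P) • ⊤ := fun h => by
  obtain ⟨α, hα, hα0⟩ := exists_value hL P
  obtain ⟨v, hv⟩ := hα 1
  exact one_ne_zero (α := ResidueField (X.presheaf.stalk P)) (hv.symm.trans ((hα0 v).2 (h Submodule.mem_top)))

namespace IsMinusPt

variable {ι : M ⟶ L}

theorem mem_range (hι : IsMinusPt P ι) {A : X.Modules} (g : A ⟶ L)
    (hg : ∀ a : A.presheaf.stalk P,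
      st g P a ∈ maximalIdeal (X.presheaf.stalk P) • (⊤ : Submodule (X.presheaf.stalk P) (L.presheaf.stalk P))) :
    ∃ g' : A ⟶ M, g' ≫ ι = g := by
  haveI := hι.mono
  refine exists_lift ι g fun y a => ?_
  by_cases hy : y = P
  · subst hy
    exact (hι.range_iff _).2 (hg a)
  · exact hι.surj y hy _

theorem nonempty_iso {M' : X.Modules} {ι' : M' ⟶ L} (hι : IsMinusPt P ι) (hι' : IsMinusPt P ι') :
    Nonempty (M ≅ M') := by
  haveI := hι.mono
  haveI := hι'.mono
  obtain ⟨f, hf⟩ := hι'.mem_range ι fun a => (hι.range_iff _).1 ⟨a, rfl⟩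
  obtain ⟨g, hg⟩ := hι.mem_range ι' fun a => (hι'.range_iff _).1 ⟨a, rfl⟩
  exact ⟨⟨f, g, (cancel_mono ι).1 (by rw [Category.assoc, hg, hf, Category.id_comp]),
    (cancel_mono ι').1 (by rw [Category.assoc, hf, hg, Category.id_comp])⟩⟩

/-- A section of `L` which does not generate at `P` is a section of `L(-P)`. -/
theorem exists_lift_section (hι : IsMinusPt P ι) (hL : PicF.IsInvertible L) (φ : Coh.structureModule X ⟶ L)
    (hφ : ¬ Function.Surjective (st φ P)) : ∃ ψ : Coh.structureModule X ⟶ M, ψ ≫ ι = φ := by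
  have h1 : st φ P (one X P) ∈ maximalIdeal (X.presheaf.stalk P) • (⊤ : Submodule (X.presheaf.stalk P) (L.presheaf.stalk P)) := by
    by_contra hn
    exact hφ ((surjective_st_iff_not_mem hL φ P).2 hn)
  refine hι.mem_range φ fun a => ?_
  obtain ⟨b, rfl⟩ := (bijective_smul_one P).2 a
  show st φ P (b • one X P) ∈ _
  rw [map_smul]
  exact Submodule.smul_mem _ _ h1

/-- A section of `L(-P)` does not generate `L` at `P`. -/
theorem not_surjective_comp (hι : IsMinusPt P ι) (hL : PicF.IsInvertible L) (ψ : Coh.structureModule X ⟶ M) :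
    ¬ Function.Surjective (st (ψ ≫ ι) P) := fun h => by
  refine (surjective_st_iff_not_mem hL (ψ ≫ ι) P).1 h ((hι.range_iff _).1 ⟨st ψ P (one X P), ?_⟩)
  exact (st_comp ψ ι P _).symm

theorem surjective_comp_iff (hι : IsMinusPt P ι) {y : X} (hy : y ≠ P) (ψ : Coh.structureModule X ⟶ M) :
    Function.Surjective (st (ψ ≫ ι) y) ↔ Function.Surjective (st ψ y) := by
  have h1 : ⇑(st (ψ ≫ ι) y) = ⇑(st ι y) ∘ ⇑(st ψ y) := funext fun v => st_comp ψ ι y v
  rw [h1]
  refine ⟨fun h v => ?_, fun h => (hι.surj y hy).comp h⟩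
  obtain ⟨w, hw⟩ := h (st ι y v)
  haveI := hι.mono
  exact ⟨w, (Groth.L21.Mod.mono_iff_stalk_injective ι).1 inferInstance y hw⟩

end IsMinusPt

theorem isMinusPt_twι (hL : PicF.IsInvertible L) (hP : IsClosed ({P} : Set X)) :
    IsMinusPt P (twι L (Scheme.IdealSheafData.vanishingIdeal ⟨{P}, hP⟩)) := by
  refine ⟨(shortExact_tw _ hL).mono_f, fun y hy => surjective_st_twι_of_ne hL hP hy, fun v => ⟨?_, fun hv => ?_⟩⟩
  · rintro ⟨w, rfl⟩
    obtain ⟨e, he⟩ := exists_frame_stalk hL P
    obtain ⟨a, ha⟩ := he.2 (st (twι L (Scheme.IdealSheafData.vanishingIdeal ⟨{P}, hP⟩)) P w)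
    rw [← ha]
    refine Submodule.smul_mem_smul ((st_twπ_point hL hP he a).1 ?_) Submodule.mem_top
    rw [show a • e = st (twι L (Scheme.IdealSheafData.vanishingIdeal ⟨{P}, hP⟩)) P w from ha]
    refine (st_comp (twι L (Scheme.IdealSheafData.vanishingIdeal ⟨{P}, hP⟩))
      (twπ L (Scheme.IdealSheafData.vanishingIdeal ⟨{P}, hP⟩)) P w).symm.trans ?_
    rw [twι_twπ, st, Functor.map_zero]
    rfl
  · refine (ShortComplex.moduleCat_exact_iff _).1
      ((shortExact_tw (Scheme.IdealSheafData.vanishingIdeal ⟨{P}, hP⟩) hL).exact.map (Groth.L00.Stk.F X P)) v ?_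
    obtain ⟨e, he⟩ := exists_frame_stalk hL P
    obtain ⟨a, rfl⟩ := he.2 v
    refine (st_twπ_point hL hP he a).2 ?_
    let θ := LinearEquiv.ofBijective (LinearMap.toSpanSingleton (X.presheaf.stalk P) (L.presheaf.stalk P) e) he
    have h5 := Submodule.mem_map_of_mem (f := θ.symm.toLinearMap) hv
    rw [Submodule.map_smul'', Submodule.map_top, LinearEquiv.range] at h5
    have h6 : θ.symm (a • e) = a := θ.symm_apply_apply a
    rw [show θ.symm.toLinearMap (a • e) = a from h6, Ideal.smul_eq_mul, Ideal.mul_top] at h5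
    exact h5

variable (k : Type u) [Field k] [IsAlgClosed k] [IsIntegral X] [X.Over (Spec (CommRingCat.of k))]
  [IsProper (X ↘ Spec (CommRingCat.of k))] [Smooth (X ↘ Spec (CommRingCat.of k))]

theorem h0_le_kernel_toPoint (α : L.presheaf.stalk P →ₗ[X.presheaf.stalk P] ResidueField (X.presheaf.stalk P))
    (hd : topologicalKrullDim X ≤ 1) (hP : IsClosed ({P} : Set X)) (hL : PicF.IsInvertible L)
    (hα : Function.Surjective α) : h k 0 L ≤ h k 0 (kernel (toPoint P α)) + 1 := by
  haveI := isNoetherian_of_proper (X := X) k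
  haveI := epi_toPoint α hP hα
  haveI := isQCoh_skyPoint (P := P)
  have hLc := Groth.L16.ProperFinite.isCoh_of_isInvertible hL
  have hQ := isCoh_skyPoint α hP hLc hα
  have hS : (ShortComplex.mk (kernel.ι (toPoint P α)) (toPoint P α) (kernel.condition _)).ShortExact :=
    { exact := ShortComplex.exact_kernel _ }
  haveI := finite_HH' k hLc 0
  haveI := finite_HH' k hQ 0
  haveI := finite_HH' k (Groth.L16.CohSupport.isCoh_kernel hLc (toPoint P α)) 0
  let f₀ := hk k (kernel.ι (toPoint P α)) 0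
  let g₀ := hk k (toPoint P α) 0
  have e₀ : Function.Exact f₀ g₀ := Groth.L16.CohLinear.exact_hmap_hmap hS 0
  have r₀ := f₀.finrank_range_add_finrank_ker
  have r₁ := g₀.finrank_range_add_finrank_ker
  rw [LinearMap.ker_eq_bot.2 (show Function.Injective f₀ from injective_hmap_zero _), finrank_bot] at r₀
  rw [LinearMap.exact_iff.1 e₀] at r₁
  have hle := g₀.range.finrank_le
  have he := euler_skyPoint k hP hQ
  rw [euler_eq_h0_of_suppClosed k (suppClosed_sky hP), finrank_residueField_eq_one k hP] at he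
  simp only [h] at *
  omega

/-- The invariants of `L(-P)`. -/
theorem twist_point (hd : topologicalKrullDim X = 1) (hL : PicF.IsInvertible L) (hP : IsClosed ({P} : Set X)) :
    PicF.IsInvertible (CohB1.tensorMod L (ptI P hP)) ∧
      Curv2.euler k X (CohB1.tensorMod L (ptI P hP)) = Curv2.euler k X L - 1 ∧
      Curv2.deg k X (CohB1.tensorMod L (ptI P hP)) 1 = Curv2.deg k X L 1 - 1 ∧
      h k 0 (CohB1.tensorMod L (ptI P hP)) ≤ h k 0 L ∧
      h k 0 L ≤ h k 0 (CohB1.tensorMod L (ptI P hP)) + 1 ∧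
      (h k 0 (CohB1.tensorMod L (ptI P hP)) + 1 = h k 0 L ↔
        ∃ φ : Coh.structureModule X ⟶ L, Function.Surjective (st φ P)) := by
  haveI := isNoetherian_of_proper (X := X) k
  obtain ⟨M, ι, hι, hM, heM, hM0⟩ := exists_minus_point k hd hL hP
  obtain ⟨i⟩ := (isMinusPt_twι hL hP).nonempty_iso hι
  have hinv : PicF.IsInvertible (CohB1.tensorMod L (ptI P hP)) :=
    Groth.L18.Ample.isInvertible_of_iso i.symm hM
  have he : Curv2.euler k X (CohB1.tensorMod L (ptI P hP)) = Curv2.euler k X L - 1 := by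
    rw [euler_congr k i, heM, finrank_residueField_eq_one k hP, Nat.cast_one]
  rw [h_congr k i 0]
  refine ⟨hinv, he, by rw [Curv2.deg, Curv2.deg, he]; ring, ?_⟩
  haveI := hι.mono
  haveI := finite_HH' k (Groth.L16.ProperFinite.isCoh_of_isInvertible hL) 0
  have hinj : Function.Injective (hk k ι 0) := injective_hmap_zero ι
  have hle : h k 0 M ≤ h k 0 L := LinearMap.finrank_le_finrank_of_injective hinj
  by_cases hs : ∃ φ : Coh.structureModule X ⟶ L, Function.Surjective (st φ P)
  · obtain ⟨φ, hφ⟩ := hs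
    obtain ⟨x, hx⟩ : ∃ x : Coh.HH X L 0, e0 L x = φ.app ⊤ (oneSec X) := ⟨_, (e0 L).apply_symm_apply _⟩
    have hne : x ∉ (hk k ι 0).range := by
      rintro ⟨y, hy⟩
      obtain ⟨ψ, hψ⟩ := exists_hom_of_hh0 y
      refine hι.not_surjective_comp hL ψ ?_
      rw [show ψ ≫ ι = φ from hom_ext_one (by
        rw [← hx, ← hy]
        show ι.app ⊤ (ψ.app ⊤ (oneSec X)) = e0 L (hmap ι 0 y)
        rw [e0_hmap, hψ])]
      exact hφ
    have hlt : h k 0 M < h k 0 L := by
      refine lt_of_le_of_ne hle fun heq => hne ?_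
      rw [Submodule.eq_top_of_finrank_eq ((LinearMap.finrank_range_of_inj hinj).trans heq)]
      exact Submodule.mem_top
    refine ⟨hle, ?_, ⟨fun _ => ⟨φ, hφ⟩, fun _ => ?_⟩⟩ <;>
    · obtain ⟨α, hα, hα0⟩ := exists_value hL P
      obtain ⟨j⟩ := (isMinusPt_kernel hP α hα0).nonempty_iso hι
      rw [← h_congr k j 0] at hlt ⊢
      have := h0_le_kernel_toPoint k α hd.le hP hL hα
      omega
  · push Not at hs
    have h1 := hM0 hs
    exact ⟨hle, by omega, ⟨fun h => absurd h (by omega), fun ⟨φ, hφ⟩ => absurd hφ (hs φ)⟩⟩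

end Groth.L21.RR
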