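import Groth.Agent.L21.RR.VeryAmple
import Groth.Agent.L21.P1.DoubleCoverApply
import Groth.Agent.L03.RefRegSch
import Groth.Agent.L21.RR.ProjLineGenus
import Groth.Agent.L21.Duality.Generic
import Groth.Agent.L18.CurveDimension

/-!
Twisting an invertible module down by a closed point of a smooth curve.
-/

set_option autoImplicit false
set_option backward.isDefEq.respectTransparency false
set_option linter.style.haveILetI false
universe u

open CategoryTheory CategoryTheory.Limits AlgebraicGeometry TopologicalSpace Opposite IsLocalRing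

noncomputable section

namespace Groth.L21.RR

open Groth.L18.Frame (rs IsFrame)
open Groth.L16.CohLinear

attribute [local instance] Curv2.resAlgebra

variable (k : Type u) [Field k] {X : Scheme.{u}} [IsIntegral X] [X.Over (Spec (CommRingCat.of k))]
  [IsProper (X ↘ Spec (CommRingCat.of k))] [Smooth (X ↘ Spec (CommRingCat.of k))]

/-- `ι : M ⟶ L` exhibits `M` as `L(-P)`. -/
structure IsMinusPt {X : Scheme.{u}} (P : X) {M L : X.Modules} (ι : M ⟶ L) : Prop where
  mono : Mono ι
  surj : ∀ y : X, y ≠ P → Function.Surjective (st ι y)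
  range_iff : ∀ v : L.presheaf.stalk P, (∃ u, st ι P u = v) ↔
    v ∈ maximalIdeal (X.presheaf.stalk P) • (⊤ : Submodule (X.presheaf.stalk P) (L.presheaf.stalk P))

theorem isMinusPt_kernel {X : Scheme.{u}} {L : X.Modules} {P : X} (hP : IsClosed ({P} : Set X))
    (α : L.presheaf.stalk P →ₗ[X.presheaf.stalk P] ResidueField (X.presheaf.stalk P))
    (hα0 : ∀ v, α v = 0 ↔
      v ∈ maximalIdeal (X.presheaf.stalk P) • (⊤ : Submodule (X.presheaf.stalk P) (L.presheaf.stalk P))) :
    IsMinusPt P (kernel.ι (toPoint P α)) := by
  refine ⟨inferInstance, fun y hy v => ?_, fun v => ⟨?_, fun hv => ?_⟩⟩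
  · haveI := subsingleton_stalk_sky (P := P) hP hy
    exact exists_st_kernel (toPoint P α) y v (Subsingleton.elim _ _)
  · rintro ⟨w, rfl⟩
    refine (hα0 _).1 ?_
    rw [← counit_toPoint α, ← st_comp (kernel.ι (toPoint P α)) (toPoint P α), kernel.condition, st,
      Functor.map_zero]
    exact map_zero _
  · refine exists_st_kernel (toPoint P α) P v ?_
    haveI := Groth.L00.Sky.isIso_counit (x := P) (resMod P)
    refine (ConcreteCategory.bijective_of_isIso ((Groth.L00.Sky.adj P).counit.app (resMod P))).1 ?_
    rw [map_zero, counit_toPoint, (hα0 v).2 hv]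

/-- `L(-P)`. -/
theorem exists_minus_point (hd : topologicalKrullDim X = 1) {L : X.Modules} (hL : PicF.IsInvertible L) {P : X}
    (hP : IsClosed ({P} : Set X)) :
    ∃ (M : X.Modules) (ι : M ⟶ L), IsMinusPt P ι ∧ PicF.IsInvertible M ∧
      Curv2.euler k X M = Curv2.euler k X L - Module.finrank k (X.residueField P) ∧
      ((∀ φ : Coh.structureModule X ⟶ L, ¬ Function.Surjective (st φ P)) → h k 0 M = h k 0 L) := by
  haveI := isNoetherian_of_proper (X := X) k
  obtain ⟨α, hα, hα0⟩ := exists_value hL P
  have hLc := Groth.L16.ProperFinite.isCoh_of_isInvertible hL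
  obtain ⟨hK, heK⟩ := euler_kernel_toPoint α k hd.le hP hLc hα
  let ι := kernel.ι (toPoint P α)
  have hmono : Mono ι := inferInstance
  have hinj := (Groth.L21.Mod.mono_iff_stalk_injective ι).1 hmono
  refine ⟨_, ι, isMinusPt_kernel hP α hα0, Groth.L18.GenLoc.isInvertible_of_frames fun y => ?_, heK, fun hns => ?_⟩
  · obtain ⟨e, he⟩ := exists_frame_stalk hL y
    have htf : ∀ z : X, Module.IsTorsionFree (X.presheaf.stalk z) ((kernel (toPoint P α)).presheaf.stalk z) := fun z => by
      obtain ⟨e', he'⟩ := exists_frame_stalk hL z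
      let θ := LinearEquiv.ofBijective (LinearMap.toSpanSingleton (X.presheaf.stalk z) (L.presheaf.stalk z) e') he'
      exact Function.Injective.moduleIsTorsionFree _
        (θ.symm.injective.comp (hinj z)) fun r v => by
          show θ.symm (st ι z (r • v)) = r • θ.symm (st ι z v)
          rw [map_smul, map_smul]
    obtain ⟨u, hu, hspan⟩ : ∃ u : (kernel (toPoint P α)).presheaf.stalk y, st ι y u ≠ 0 ∧
        Submodule.span (X.presheaf.stalk y) {u} = ⊤ := by
      by_cases hy : y = P
      · subst hy
        obtain ⟨π, hπ⟩ := (Groth.L21.P1.isPrincipal_of_smooth (k := k) hd.le y).principal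
        have hπm : π ∈ maximalIdeal (X.presheaf.stalk y) := by rw [hπ]; exact Submodule.mem_span_singleton_self π
        have h1 : st (toPoint y α) y (π • e) = 0 := by
          haveI := Groth.L00.Sky.isIso_counit (x := y) (resMod y)
          refine (ConcreteCategory.bijective_of_isIso ((Groth.L00.Sky.adj y).counit.app (resMod y))).1 ?_
          rw [map_zero, counit_toPoint, hα0]
          exact Submodule.smul_mem_smul hπm Submodule.mem_top
        obtain ⟨u, hu⟩ := exists_st_kernel (toPoint y α) y (π • e) h1
        have hπ0 : π ≠ 0 := fun h0 => by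
          have hf : IsField (X.presheaf.stalk y) := by
            rw [isField_iff_maximalIdeal_eq, hπ, h0, Submodule.span_singleton_eq_bot]
          have h1' := (Groth.L18.CurveDim.one_le_dim_stalk_iff y).2
            ⟨genericPoint X, (genericPoint_spec X).specializes trivial, (ne_genericPoint_of_isClosed hd hP).symm⟩
          rw [ringKrullDim_eq_zero_of_isField hf] at h1'
          exact absurd h1' (by norm_num)
        refine ⟨u, fun h0 => hπ0 (he.1 (a₁ := π) (a₂ := 0) ((hu.symm.trans h0).trans (zero_smul _ e).symm)), ?_⟩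
        refine eq_top_iff.2 fun v _ => ?_
        have h2 : α (st ι y v) = 0 := by
          rw [← counit_toPoint α, ← st_comp ι (toPoint y α), kernel.condition, st, Functor.map_zero]
          exact map_zero _
        obtain ⟨a, ha⟩ := he.2 (st ι y v)
        have h3 := (hα0 _).1 h2
        have h4 : a ∈ maximalIdeal (X.presheaf.stalk y) := by
          let θ := LinearEquiv.ofBijective (LinearMap.toSpanSingleton (X.presheaf.stalk y) (L.presheaf.stalk y) e) he
          have h5 := Submodule.mem_map_of_mem (f := θ.symm.toLinearMap) h3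
          rw [Submodule.map_smul'', Submodule.map_top, LinearEquiv.range, ← ha] at h5
          have h6 : θ.symm (a • e) = a := θ.symm_apply_apply a
          rw [show θ.symm.toLinearMap (a • e) = a from h6, Ideal.smul_eq_mul, Ideal.mul_top] at h5
          exact h5
        rw [hπ] at h4
        obtain ⟨b, hb⟩ := Submodule.mem_span_singleton.1 h4
        refine Submodule.mem_span_singleton.2 ⟨b, hinj y ?_⟩
        show st ι y (b • u) = st ι y v
        rw [map_smul, hu, ← ha, smul_smul]
        exact congrArg (· • e) hb
      · haveI := subsingleton_stalk_sky (P := P) hP hy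
        obtain ⟨u, hu⟩ := exists_st_kernel (toPoint P α) y e (Subsingleton.elim _ _)
        refine ⟨u, fun h0 => one_ne_zero (α := X.presheaf.stalk y) (he.1 (a₁ := 1) (a₂ := 0)
          (((one_smul _ e).trans (hu.symm.trans h0)).trans (zero_smul _ e).symm)), eq_top_iff.2 fun v _ => ?_⟩
        obtain ⟨a, ha⟩ := he.2 (st ι y v)
        exact Submodule.mem_span_singleton.2 ⟨a, hinj y ((map_smul (st ι y) a u).trans (by rw [hu]; exact ha))⟩
    refine Groth.L03.RefRegSch.exists_frame hK htf u (fun h0 => hu ?_) hspan
    obtain ⟨W, hyW, s, rfl⟩ := TopCat.Presheaf.exists_germ_eq (kernel (toPoint P α)).presheaf u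
    rw [Groth.L15.Ref.toEta_germ] at h0
    rw [st_germ]
    have hηW : genericPoint X ∈ W := ((genericPoint_spec X).specializes trivial).mem_open W.2 hyW
    have h7 : L.presheaf.germ W (genericPoint X) hηW (ι.app W s) = 0 := by
      rw [← st_germ ι hηW s, h0, map_zero]
    have h8 : ι.app W s = 0 := Groth.L21.Duality.gη_injective hL hηW (h7.trans (map_zero _).symm)
    rw [h8, map_zero]
  · have hlift : ∀ x : Coh.HH X L 0, ∃ z, hmap ι 0 z = x := fun x => by
      obtain ⟨φ, hφ⟩ := exists_hom_of_hh0 x
      obtain ⟨W, e, hPW, he⟩ := Groth.L18.Frame.exists_frame hL P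
      obtain ⟨a, ha⟩ := exists_coeff_st he φ
      have hb : ¬ IsUnit (X.presheaf.germ W P hPW a) := fun hu =>
        hns φ ((surjective_st_iff (bijective_germ_frame he hPW) φ (ha P hPW).symm).2 hu)
      have hzero : φ ≫ toPoint P α = 0 := by
        refine hom_ext_one ?_
        refine Groth.L00.Sky.sec_ext fun hT => ?_
        change α (L.presheaf.germ ⊤ P trivial (φ.app ⊤ (oneSec X))) = 0
        rw [hα0]
        have h1 : L.presheaf.germ ⊤ P trivial (φ.app ⊤ (oneSec X)) = st φ P (one X P) := by
          rw [one, st_germ]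
        rw [h1, ha P hPW]
        exact Submodule.smul_mem_smul ((mem_maximalIdeal _).2 hb) Submodule.mem_top
      refine ⟨(e0 _).symm ((kernel.lift _ φ hzero).app ⊤ (oneSec X)), (e0 L).injective ?_⟩
      rw [e0_hmap, AddEquiv.apply_symm_apply, ← hφ]
      conv_rhs => rw [← kernel.lift_ι (toPoint P α) φ hzero]
      rfl
    exact LinearEquiv.finrank_eq (LinearEquiv.ofBijective (hk k ι 0) ⟨injective_hmap_zero ι, hlift⟩)

end Groth.L21.RR
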