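import Groth.Agent.L21.RR.Twist
import Groth.Agent.L21.RR.Mul
import Groth.Agent.L16.Devissage
import Groth.Agent.L21.Disc.SuppLength

/-!
Sections of coherent modules with prescribed value at a closed point.
-/

set_option autoImplicit false
set_option backward.isDefEq.respectTransparency false
set_option linter.style.haveILetI false
universe u

open CategoryTheory CategoryTheory.Limits AlgebraicGeometry TopologicalSpace Opposite IsLocalRing
attribute [local instance] Curv2.resAlgebra

noncomputable section

namespace Groth.L21.RR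

open Groth.L16.CohLinear (hmap)
open Groth.L00.Sky (sky toHom)

variable {X : Scheme.{u}} {M L : X.Modules} (P : X)

/-- The residue field of a point as a module over the local ring. -/
abbrev resMod : ModuleCat.{u} (X.presheaf.stalk P) :=
  ModuleCat.of _ (ResidueField (X.presheaf.stalk P))

/-- The map to the skyscraper attached to a functional on the stalk. -/
def toPoint (α : M.presheaf.stalk P →ₗ[X.presheaf.stalk P] ResidueField (X.presheaf.stalk P)) :
    M ⟶ sky P (resMod P) :=
  toHom M (resMod P) (ModuleCat.ofHom α)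

variable {P} (α : M.presheaf.stalk P →ₗ[X.presheaf.stalk P] ResidueField (X.presheaf.stalk P))

theorem toPoint_app {U : X.Opens} (hP : P ∈ U) (m : Γ(M, U)) :
    ((toPoint P α).app U m : Groth.L00.Sky.Sec P (resMod P) U) ⟨hP⟩ = α (M.presheaf.germ U P hP m) := rfl

theorem counit_toPoint (v : M.presheaf.stalk P) :
    (Groth.L00.Sky.adj P).counit.app (resMod P) (st (toPoint P α) P v) = α v := by
  have e : ModuleCat.ofHom α = (Groth.L00.Stk.F X P).map (toPoint P α) ≫ (Groth.L00.Sky.adj P).counit.app (resMod P) :=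
    (((Groth.L00.Sky.adj P).homEquiv M (resMod P)).symm_apply_apply (ModuleCat.ofHom α)).symm.trans
      (Adjunction.homEquiv_counit _ _ _ _)
  exact (congr($e v)).symm

theorem subsingleton_stalk_sky (hP : IsClosed ({P} : Set X)) {y : X} (hy : y ≠ P) :
    Subsingleton ((sky P (resMod P)).presheaf.stalk y) := by
  refine subsingleton_of_forall_eq 0 fun v => ?_
  obtain ⟨U, hU, s, rfl⟩ := TopCat.Presheaf.exists_germ_eq (sky P (resMod P)).presheaf v
  let V : X.Opens := U ⊓ ⟨({P} : Set X)ᶜ, hP.isOpen_compl⟩
  rw [← Groth.L20.ModStalk.germ_rs (sky P (resMod P)) (inf_le_left : V ≤ U) (show y ∈ V from ⟨hU, hy⟩) s]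
  have h0 : Groth.L18.Frame.rs (sky P (resMod P)) (inf_le_left : V ≤ U) s = 0 :=
    Groth.L00.Sky.sec_ext fun h => absurd rfl h.2
  rw [h0, map_zero]

theorem suppClosed_sky (hP : IsClosed ({P} : Set X)) : SuppClosed (sky P (resMod P)) := fun _ hx =>
  subsingleton_stalk_sky hP fun h => hx (h ▸ hP)

theorem epi_toPoint (hP : IsClosed ({P} : Set X)) (hα : Function.Surjective α) : Epi (toPoint P α) := by
  refine (Groth.L21.Mod.epi_iff_stalk_surjective _).2 fun y v => ?_
  by_cases hy : y = P
  · subst hy
    haveI := Groth.L00.Sky.isIso_counit (x := y) (resMod y)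
    obtain ⟨w, hw⟩ := hα ((Groth.L00.Sky.adj y).counit.app (resMod y) v)
    exact ⟨w, (ConcreteCategory.bijective_of_isIso ((Groth.L00.Sky.adj y).counit.app (resMod y))).1
      ((counit_toPoint α w).trans hw)⟩
  · haveI := subsingleton_stalk_sky hP hy
    exact ⟨0, (subsingleton_stalk_sky hP hy).elim _ _⟩

theorem isQCoh_skyPoint : Coh.IsQCoh (sky P (resMod P)) :=
  Groth.L16.CohSupport.isQCoh_sky P _ fun r hr m => by
    obtain ⟨m, rfl⟩ := IsLocalRing.residue_surjective (R := X.presheaf.stalk P) m
    show IsLocalRing.residue _ (r * m) = 0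
    exact (IsLocalRing.residue_eq_zero_iff _).2 (Ideal.mul_mem_right _ _ hr)

theorem isCoh_skyPoint [IsLocallyNoetherian X] (hP : IsClosed ({P} : Set X)) (hM : Coh.IsCoh M)
    (hα : Function.Surjective α) : Coh.IsCoh (sky P (resMod P)) := by
  haveI := isQCoh_skyPoint (P := P)
  haveI := epi_toPoint α hP hα
  haveI : Epi (Abelian.image.ι (toPoint P α)) := epi_of_epi_fac (Abelian.image.fac (toPoint P α))
  haveI : IsIso (Abelian.image.ι (toPoint P α)) := isIso_of_mono_of_epi _
  exact Groth.L16.CohSupport.isCoh_of_iso (asIso (Abelian.image.ι (toPoint P α)))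
    (Groth.L16.CohSupport.isCoh_image hM _)

variable (k : Type u) [Field k] [X.Over (Spec (CommRingCat.of k))] [IsProper (X ↘ Spec (CommRingCat.of k))]

theorem euler_skyPoint (hP : IsClosed ({P} : Set X)) (hQ : Coh.IsCoh (sky P (resMod P))) :
    Curv2.euler k X (sky P (resMod P)) = Module.finrank k (X.residueField P) := by
  haveI := isNoetherian_of_proper (X := X) k
  rw [euler_eq_h0_of_suppClosed k (suppClosed_sky hP),
    Groth.L21.Disc.h0_eq_sum_length k hQ {P} (fun x hx => Finset.mem_singleton.1 hx ▸ hP)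
      (fun x hx => subsingleton_stalk_sky hP (fun h => hx (Finset.mem_singleton.2 h))), Finset.sum_singleton]
  have h1 : Module.length (X.presheaf.stalk P) ((sky P (resMod P)).presheaf.stalk P) = 1 := by
    refine (Groth.L16.Devissage.len_sky P (resMod P)).trans ?_
    rw [show Module.length (X.presheaf.stalk P) (resMod P) =
      Module.length (ResidueField (X.presheaf.stalk P)) (ResidueField (X.presheaf.stalk P)) from
        Module.length_eq_of_surjective IsLocalRing.residue_surjective]
    exact Module.length_eq_one _ _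
  rw [h1, ENat.toNat_one, one_mul]

/-- The kernel of the map to a skyscraper of a point. -/
theorem euler_kernel_toPoint (hd : topologicalKrullDim X ≤ 1) (hP : IsClosed ({P} : Set X)) (hM : Coh.IsCoh M)
    (hα : Function.Surjective α) :
    Coh.IsCoh (kernel (toPoint P α)) ∧
      Curv2.euler k X (kernel (toPoint P α)) = Curv2.euler k X M - Module.finrank k (X.residueField P) := by
  haveI := isNoetherian_of_proper (X := X) k
  haveI := isQCoh_skyPoint (P := P)
  haveI := epi_toPoint α hP hα
  have hK := Groth.L16.CohSupport.isCoh_kernel hM (toPoint P α)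
  have hQ := isCoh_skyPoint α hP hM hα
  have hS : (ShortComplex.mk (kernel.ι (toPoint P α)) (toPoint P α) (kernel.condition _)).ShortExact :=
    { exact := ShortComplex.exact_kernel _ }
  refine ⟨hK, ?_⟩
  have h := euler_add k hd hS hK hM hQ
  rw [euler_skyPoint k hP hQ] at h
  linarith

theorem exists_st_kernel {M' : X.Modules} (f : M ⟶ M') (y : X) (v : M.presheaf.stalk y) (hv : st f y v = 0) :
    ∃ u, st (kernel.ι f) y u = v := by
  have h := ((ShortComplex.exact_kernel f).map (Groth.L00.Stk.F X y))
  exact (ShortComplex.moduleCat_exact_iff _).1 h v hv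

omit [X.Over (Spec (CommRingCat.of k))] in
/-- Non-zero sections of a submodule of an invertible module have finite cokernel. -/
theorem suppClosed_cokernel_of_mono [IsIntegral X] (hd : topologicalKrullDim X ≤ 1) (hL : PicF.IsInvertible L)
    (ι : M ⟶ L) [Mono ι] (φ : Coh.structureModule X ⟶ M) (hφ : φ ≠ 0) : SuppClosed (cokernel φ) := by
  have hne : φ ≫ ι ≠ 0 := fun h0 => hφ (zero_of_comp_mono _ h0)
  refine suppClosed_cokernel_of_surjective φ fun x hx v => ?_
  have hinj := (Groth.L21.Mod.mono_iff_stalk_injective ι).1 inferInstance x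
  obtain ⟨e, he⟩ := exists_frame_stalk hL x
  obtain ⟨b, hb⟩ := he.2 (st (φ ≫ ι) x (one X x))
  have hb0 : b ≠ 0 := fun h => st_one_ne_zero hL hne x (by rw [← hb, h]; exact zero_smul _ _)
  obtain ⟨c, hc⟩ := (stalk_isField hd hx).mul_inv_cancel hb0
  obtain ⟨w, hw⟩ := (surjective_st_iff he _ hb).2 (IsUnit.of_mul_eq_one c hc) (st ι x v)
  exact ⟨w, hinj ((st_comp φ ι x w).symm.trans hw)⟩

/-- Euler characteristic at least the genus forces the vanishing of the first cohomology. -/
theorem subsingleton_h1_of_euler_ge [IsIntegral X] (hd : topologicalKrullDim X ≤ 1) (hL : PicF.IsInvertible L)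
    (ι : M ⟶ L) [Mono ι] (hM : Coh.IsCoh M)
    (he : (h k 1 (Coh.structureModule X) : ℤ) ≤ Curv2.euler k X M) :
    Subsingleton (Coh.HH X M 1) := by
  haveI := isNoetherian_of_proper (X := X) k
  by_contra hns
  haveI := not_subsingleton_iff_nontrivial.1 hns
  haveI := finite_HH' k hM 1
  have hle := h0_le_genus k hd hM (fun φ hφ => suppClosed_cokernel_of_mono hd hL ι φ hφ) inferInstance
  have hpos : 1 ≤ h k 1 M := Module.finrank_pos
  rw [euler_eq k hd] at he
  omega

/-- A section with non-zero value under a functional at a closed point. -/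
theorem exists_section_point [IsIntegral X] (hd : topologicalKrullDim X ≤ 1) (hL : PicF.IsInvertible L)
    (ι : M ⟶ L) [Mono ι] (hM : Coh.IsCoh M) (hP : IsClosed ({P} : Set X)) (hα : Function.Surjective α)
    (he : (h k 1 (Coh.structureModule X) : ℤ) + Module.finrank k (X.residueField P) ≤ Curv2.euler k X M) :
    ∃ s : Γ(M, ⊤), α (M.presheaf.germ ⊤ P trivial s) ≠ 0 := by
  haveI := isNoetherian_of_proper (X := X) k
  haveI := epi_toPoint α hP hα
  obtain ⟨hK, heK⟩ := euler_kernel_toPoint α k hd hP hM hα
  haveI := subsingleton_h1_of_euler_ge k hd hL (kernel.ι (toPoint P α) ≫ ι) hK (by linarith)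
  have hS : (ShortComplex.mk (kernel.ι (toPoint P α)) (toPoint P α) (kernel.condition _)).ShortExact :=
    { exact := ShortComplex.exact_kernel _ }
  let q : Γ(sky P (resMod P), ⊤) := (fun _ => (1 : ResidueField (X.presheaf.stalk P)) :
    Groth.L00.Sky.Sec P (resMod P) ⊤)
  obtain ⟨t, ht⟩ := (Groth.L16.CohLinear.exact_hmap_delta hS 0 ((e0 _).symm q)).1 (Subsingleton.elim _ _)
  refine ⟨e0 M t, fun h0 => ?_⟩
  have h1 := congrArg (e0 (sky P (resMod P))) ht
  rw [AddEquiv.apply_symm_apply, e0_hmap] at h1
  have h2 := congrArg (fun z => (z : Groth.L00.Sky.Sec P (resMod P) ⊤) ⟨trivial⟩) h1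
  simp only at h2
  rw [toPoint_app α (U := ⊤) trivial, h0] at h2
  exact zero_ne_one h2

end Groth.L21.RR
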