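import Groth.Agent.L10.TopCoh
import Mathlib.Topology.Sheaves.Skyscraper
import Mathlib.Topology.Sheaves.Flasque
import Mathlib.Topology.Sheaves.Abelian
import Mathlib.Topology.NoetherianSpace
import Mathlib.Topology.KrullDimension
import Mathlib.Topology.Sober
import Mathlib.Algebra.Category.Grp.AB
import Mathlib.Algebra.Category.Grp.FilteredColimits
import Mathlib.Algebra.Category.Grp.Zero
import Mathlib.Algebra.Homology.DerivedCategory.Ext.ExactSequences

/-!
Cohomology of abelian sheaves on Noetherian sober spaces of dimension at most one: sheaves supported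
at closed points are flasque; `H^n = 0` for `n ≥ 2`.
-/

set_option autoImplicit false
set_option linter.style.haveILetI false
universe u

open CategoryTheory CategoryTheory.Limits CategoryTheory.Abelian Opposite TopologicalSpace

noncomputable section

namespace Groth.L21.RR.Top

variable {X : TopCat.{u}}

/-- The stalk functor on abelian sheaves. -/
abbrev stF (x : X) : CohTop.Ab X ⥤ AddCommGrpCat.{u} :=
  TopCat.Sheaf.forget AddCommGrpCat.{u} X ⋙ TopCat.Presheaf.stalkFunctor AddCommGrpCat.{u} x

instance (x : X) : (stF x).Additive :=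
  inferInstanceAs (TopCat.Sheaf.forget AddCommGrpCat.{u} X ⋙
    TopCat.Presheaf.stalkFunctor AddCommGrpCat.{u} x).Additive

instance (x : X) : PreservesFiniteLimits (stF x) :=
  inferInstanceAs (PreservesFiniteLimits (TopCat.Sheaf.forget AddCommGrpCat.{u} X ⋙
    TopCat.Presheaf.stalkFunctor AddCommGrpCat.{u} x))

instance (x : X) : PreservesFiniteColimits (stF x) :=
  inferInstanceAs (PreservesFiniteColimits (TopCat.Sheaf.forget AddCommGrpCat.{u} X ⋙
    TopCat.Presheaf.stalkFunctor AddCommGrpCat.{u} x))

theorem isClosed_setOf_germ_ne_zero (F : CohTop.Ab X) (U : Opens X) (s : F.obj.obj (op U)) :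
    IsClosed {p : U | TopCat.Presheaf.germ F.obj U p.1 p.2 s ≠ 0} := by
  rw [← isOpen_compl_iff, isOpen_iff_forall_mem_open]
  intro p hp
  simp only [Set.mem_compl_iff, Set.mem_setOf_eq, not_not] at hp
  obtain ⟨W, hW, i₁, i₂, heq⟩ := TopCat.Presheaf.germ_eq F.obj p.1 p.2 p.2 s 0
    (hp.trans (map_zero _).symm)
  rw [map_zero] at heq
  refine ⟨Subtype.val ⁻¹' (W : Set X), fun q hq => ?_, W.isOpen.preimage continuous_subtype_val, hW⟩
  simp only [Set.mem_compl_iff, Set.mem_setOf_eq, not_not]
  rw [← TopCat.Presheaf.germ_res_apply F.obj i₁ q.1 hq, heq, map_zero]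

theorem finite_of_forall_isClosed [NoetherianSpace X] [QuasiSober X] {U : Opens X} {F : Set U}
    (hF : IsClosed F) (h : ∀ x ∈ F, IsClosed ({x.1} : Set X)) : F.Finite := by
  haveI : NoetherianSpace U := (inferInstance : NoetherianSpace X).set _
  haveI : QuasiSober U := U.isOpenEmbedding'.quasiSober
  obtain ⟨S, hSf, hSc, hSi, rfl⟩ := NoetherianSpace.exists_finite_set_isClosed_irreducible hF
  refine hSf.sUnion fun t ht => ?_
  obtain ⟨η, hη⟩ := QuasiSober.sober (hSi t ht) (hSc t ht)
  refine (Set.finite_singleton η).subset fun y hy => Subtype.ext ?_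
  exact (((hη.specializes hy).map continuous_subtype_val).mem_closed (h η ⟨t, ht, hη.mem⟩) rfl)

/-- A sheaf whose stalks vanish at all non-closed points of a Noetherian sober space is flasque. -/
theorem isFlasque_of_stalks [NoetherianSpace X] [QuasiSober X] (F : CohTop.Ab X)
    (h : ∀ x : X, ¬ IsClosed ({x} : Set X) → Subsingleton ((stF x).obj F)) :
    TopCat.Sheaf.IsFlasque F := by
  refine ⟨fun {A B} i => (AddCommGrpCat.epi_iff_surjective _).2 fun s => ?_⟩
  induction A using Opposite.rec with
  | op U =>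
  induction B using Opposite.rec with
  | op V =>
  have hVU : V ≤ U := i.unop.le
  let Sp : Set V := {p : V | TopCat.Presheaf.germ F.obj V p.1 p.2 s ≠ 0}
  have hfin : Sp.Finite := finite_of_forall_isClosed (isClosed_setOf_germ_ne_zero F V s) fun x hx => by
    by_contra hc
    exact hx ((h x.1 hc).elim _ _)
  have hclosed : IsClosed (Subtype.val '' Sp : Set X) := by
    rw [← Set.biUnion_of_singleton (Subtype.val '' Sp : Set X)]
    refine (hfin.image _).isClosed_biUnion fun x hx => ?_
    obtain ⟨p, hp, rfl⟩ := hx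
    by_contra hc
    exact hp ((h p.1 hc).elim _ _)
  let W : Opens X := U ⊓ ⟨(Subtype.val '' Sp : Set X)ᶜ, hclosed.isOpen_compl⟩
  let O : ULift.{u} Bool → Opens X := fun b => bif b.down then V else W
  let sf : ∀ b, F.obj.obj (op (O b))
    | ⟨true⟩ => s
    | ⟨false⟩ => 0
  have hvan : F.obj.map (homOfLE (inf_le_left : V ⊓ W ≤ V)).op s = 0 := by
    refine TopCat.Presheaf.section_ext F (V ⊓ W) _ 0 fun x hx => ?_
    rw [map_zero]
    erw [TopCat.Presheaf.germ_res_apply]
    by_contra hne
    exact hx.2.2 ⟨⟨x, hx.1⟩, hne, rfl⟩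
  have hcompat : TopCat.Presheaf.IsCompatible F.obj O sf := by
    rintro ⟨(_ | _)⟩ ⟨(_ | _)⟩
    · rfl
    · change F.obj.map _ (0 : F.obj.obj (op W)) = F.obj.map _ s
      rw [map_zero]
      have h2 := congrArg (F.obj.map (homOfLE (le_inf inf_le_right inf_le_left : W ⊓ V ≤ V ⊓ W)).op) hvan
      rw [map_zero, ← ConcreteCategory.comp_apply, ← F.obj.map_comp] at h2
      exact h2.symm
    · change F.obj.map _ s = F.obj.map _ (0 : F.obj.obj (op W))
      rw [map_zero]
      exact hvan
    · rfl
  have hU : U ≤ iSup O := fun x hx => by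
    by_cases hxT : x ∈ (Subtype.val '' Sp : Set X)
    · obtain ⟨p, -, rfl⟩ := hxT
      exact Opens.mem_iSup.2 ⟨⟨true⟩, p.2⟩
    · exact Opens.mem_iSup.2 ⟨⟨false⟩, hx, hxT⟩
  obtain ⟨t, ht, -⟩ := TopCat.Sheaf.existsUnique_gluing F O sf hcompat
  refine ⟨F.obj.map (homOfLE hU).op t, ?_⟩
  rw [← ConcreteCategory.comp_apply, ← F.obj.map_comp]
  exact ht ⟨true⟩

/-- The unit to the skyscraper sheaf of a stalk is an isomorphism at that stalk. -/
theorem isIso_stF_unit (F : CohTop.Ab X) (η : X) [∀ U : Opens X, Decidable (η ∈ U)] :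
    IsIso ((stF η).map ((stalkSkyscraperSheafAdjunction η).unit.app F)) := by
  let i := skyscraperPresheafStalkOfSpecializes η ((stF η).obj F) specializes_rfl
  have h : (stF η).map ((stalkSkyscraperSheafAdjunction η).unit.app F) ≫ i.hom = 𝟙 _ :=
    (stalkSkyscraperSheafAdjunction η (C := AddCommGrpCat.{u})).left_triangle_components F
  rw [(Iso.comp_hom_eq_id i).1 h]
  infer_instance

theorem subsingleton_H_of_shortExact₂ {S : ShortComplex (CohTop.Ab X)} (hS : S.ShortExact) (n : ℕ)
    (h1 : Subsingleton (CohTop.H S.X₁ n)) (h3 : Subsingleton (CohTop.H S.X₃ n)) :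
    Subsingleton (CohTop.H S.X₂ n) := by
  refine subsingleton_of_forall_eq 0 fun x => ?_
  obtain ⟨y, hy⟩ := Ext.covariant_sequence_exact₂ _ hS x (h3.elim _ _)
  rw [← hy, h1.elim y 0, Ext.zero_comp]

theorem subsingleton_H_of_shortExact₁ {S : ShortComplex (CohTop.Ab X)} (hS : S.ShortExact) (n : ℕ)
    (h2 : Subsingleton (CohTop.H S.X₂ (n + 1))) (h3 : Subsingleton (CohTop.H S.X₃ n)) :
    Subsingleton (CohTop.H S.X₁ (n + 1)) := by
  refine subsingleton_of_forall_eq 0 fun x => ?_
  obtain ⟨y, hy⟩ := Ext.covariant_sequence_exact₁ _ hS x (h2.elim _ _) rfl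
  rw [← hy, h3.elim y 0, Ext.zero_comp]

variable [NoetherianSpace X] [QuasiSober X]

theorem subsingleton_H_two_aux (hspec : ∀ x y z : X, x ⤳ y → y ⤳ z → x = y ∨ y = z)
    (T : Finset X) : ∀ (F : CohTop.Ab X), (∀ x ∈ T, ¬ IsClosed ({x} : Set X)) →
    (∀ x : X, ¬ IsClosed ({x} : Set X) → x ∉ T → Subsingleton ((stF x).obj F)) →
    ∀ n : ℕ, Subsingleton (CohTop.H F (n + 2)) := by
  classical
  induction T using Finset.induction_on with
  | empty =>
    intro F _ hF n
    exact Groth.L10.TopCoh.subsingleton_H_of_flasque F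
      (isFlasque_of_stalks F fun x hx => hF x hx (Finset.notMem_empty x)) (n + 1)
  | insert η T hηT ih =>
    intro F hT hF n
    have hη : ¬ IsClosed ({η} : Set X) := hT η (Finset.mem_insert_self _ _)
    let G : CohTop.Ab X := (skyscraperSheafFunctor η).obj ((stF η).obj F)
    let ε : F ⟶ G := (stalkSkyscraperSheafAdjunction η).unit.app F
    haveI hεiso : IsIso ((stF η).map ε) := isIso_stF_unit F η
    have hG : TopCat.Sheaf.IsFlasque G := by
      haveI : Epi (terminalIsTerminal.from ((stF η).obj F)) :=
        (AddCommGrpCat.epi_iff_surjective _).2 fun t => ⟨0, by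
          haveI : Subsingleton (⊤_ AddCommGrpCat.{u} : AddCommGrpCat.{u}) :=
            AddCommGrpCat.subsingleton_of_isZero (IsZero.of_iso (isZero_zero AddCommGrpCat.{u}) (terminalIsTerminal.uniqueUpToIso HasZeroObject.zeroIsTerminal))
          exact Subsingleton.elim _ _⟩
      exact isFlasque_skyscraperSheaf_of_epi_from η _
    have hG0 : ∀ x : X, ¬ IsClosed ({x} : Set X) → x ≠ η → IsZero ((stF x).obj G) := by
      intro x hx hne
      have hns : ¬ η ⤳ x := fun hs => by
        obtain ⟨z, hz, hzne⟩ : ∃ z, x ⤳ z ∧ x ≠ z := by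
          by_contra hh
          push Not at hh
          refine hx (isClosed_of_closure_subset fun z hz => ?_)
          exact (hh z (specializes_iff_mem_closure.2 hz)).symm
        exact (hspec η x z hs hz).elim (fun e => hne e.symm) hzne
      exact (IsZero.of_iso (isZero_zero AddCommGrpCat.{u}) (terminalIsTerminal.uniqueUpToIso HasZeroObject.zeroIsTerminal)).of_iso
        (skyscraperPresheafStalkOfNotSpecializes η _ hns)
    let SI : ShortComplex (CohTop.Ab X) := ShortComplex.mk (Abelian.image.ι ε) (cokernel.π ε) (kernel.condition _)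
    have hSI : SI.ShortExact :=
      { exact := ShortComplex.exact_of_f_is_kernel _ (kernelIsKernel (cokernel.π ε)) }
    let SK : ShortComplex (CohTop.Ab X) := ShortComplex.mk (kernel.ι ε) (Abelian.factorThruImage ε)
      (zero_of_comp_mono (Abelian.image.ι ε) (by rw [Category.assoc, Abelian.image.fac, kernel.condition]))
    have hSK : SK.ShortExact := by
      have hm : SK.Exact := by
        let φ : SK ⟶ ShortComplex.mk (kernel.ι ε) ε (kernel.condition ε) :=
          ShortComplex.homMk (𝟙 _) (𝟙 _) (Abelian.image.ι ε)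
            ((Category.id_comp _).trans (Category.comp_id _).symm)
            ((Category.id_comp _).trans (Abelian.image.fac ε).symm)
        haveI : Epi φ.τ₁ := inferInstanceAs (Epi (𝟙 _))
        haveI : IsIso φ.τ₂ := inferInstanceAs (IsIso (𝟙 _))
        haveI : Mono φ.τ₃ := inferInstanceAs (Mono (Abelian.image.ι ε))
        exact (ShortComplex.exact_iff_of_epi_of_isIso_of_mono φ).2 (ShortComplex.exact_kernel ε)
      exact { exact := hm }
    have hC : TopCat.Sheaf.IsFlasque (cokernel ε) := by
      refine isFlasque_of_stalks _ fun x hx => ?_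
      refine AddCommGrpCat.subsingleton_of_isZero (?_ : IsZero ((stF x).obj (cokernel ε)))
      rcases eq_or_ne x η with rfl | hne
      · haveI : Epi ((stF x).map ε) := inferInstance
        have h0 : (stF x).map (cokernel.π ε) = 0 := by
          refine zero_of_epi_comp ((stF x).map ε) ?_
          rw [← Functor.map_comp, cokernel.condition, Functor.map_zero]
        exact IsZero.of_epi_eq_zero _ h0
      · exact IsZero.of_epi ((stF x).map (cokernel.π ε)) (hG0 x hx hne)
    have hK : Subsingleton (CohTop.H (kernel ε) (n + 2)) := by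
      refine ih (kernel ε) (fun x hx => hT x (Finset.mem_insert_of_mem hx)) (fun x hx hxT => ?_) n
      refine AddCommGrpCat.subsingleton_of_isZero (?_ : IsZero ((stF x).obj (kernel ε)))
      rcases eq_or_ne x η with rfl | hne
      · have h0 : (stF x).map (kernel.ι ε) = 0 := by
          refine zero_of_comp_mono ((stF x).map ε) ?_
          rw [← Functor.map_comp, kernel.condition, Functor.map_zero]
        exact IsZero.of_mono_eq_zero _ h0
      · haveI := hF x hx (by simp [hne, hxT])
        exact IsZero.of_mono ((stF x).map (kernel.ι ε)) (AddCommGrpCat.isZero_of_subsingleton _)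
    have hI : Subsingleton (CohTop.H (Abelian.image ε) (n + 2)) :=
      subsingleton_H_of_shortExact₁ hSI (n + 1) (Groth.L10.TopCoh.subsingleton_H_of_flasque G hG (n + 1))
        (Groth.L10.TopCoh.subsingleton_H_of_flasque _ hC n)
    exact subsingleton_H_of_shortExact₂ hSK (n + 2) hK hI

omit [NoetherianSpace X] [QuasiSober X] in
theorem spec_of_dim_le_one [T0Space X] (hd : topologicalKrullDim X ≤ 1) (x y z : X) (h1 : x ⤳ y) (h2 : y ⤳ z) :
    x = y ∨ y = z := by
  by_contra hne
  push Not at hne
  let c : X → IrreducibleCloseds X := fun a => ⟨closure {a}, isIrreducible_singleton.closure, isClosed_closure⟩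
  have hlt : ∀ a b : X, a ⤳ b → a ≠ b → c b < c a := fun a b h hab => by
    refine lt_of_le_of_ne ?_ fun e => ?_
    · exact (specializes_iff_closure_subset.1 h : closure {b} ⊆ closure {a})
    · exact hab (h.antisymm (specializes_iff_mem_closure.2
        (show a ∈ closure ({b} : Set X) from (show closure ({b} : Set X) = closure {a} from
          congrArg IrreducibleCloseds.carrier e).symm ▸ subset_closure rfl))).eq
  have hlen := Order.LTSeries.length_le_krullDim
    ((RelSeries.singleton _ (c z)).snoc (c y) (hlt y z h2 hne.2) |>.snoc (c x) (by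
      rw [RelSeries.last_snoc]; exact hlt x y h1 hne.1))
  have h2le : ((2 : ℕ) : WithBot ℕ∞) ≤ 1 := le_trans (le_trans (by simp) hlen) hd
  norm_cast at h2le

theorem finite_not_isClosed [T0Space X] (hspec : ∀ x y z : X, x ⤳ y → y ⤳ z → x = y ∨ y = z) :
    {x : X | ¬ IsClosed ({x} : Set X)}.Finite := by
  refine Set.Finite.of_finite_image (f := fun x : X => closure ({x} : Set X))
    ((NoetherianSpace.finite_irreducibleComponents (α := X)).subset ?_) fun a _ b _ h => ?_
  · rintro _ ⟨x, hx, rfl⟩
    obtain ⟨Z, hZ, hxZ⟩ := exists_preirreducible (closure {x}) isIrreducible_singleton.closure.isPreirreducible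
    have hZmax : Z ∈ irreducibleComponents X :=
      ⟨⟨⟨x, hxZ.1 (subset_closure rfl)⟩, hZ⟩, fun W hW hle => (hxZ.2 W hW.2 hle).le⟩
    obtain ⟨ξ, hξ⟩ := QuasiSober.sober hZmax.1 (isClosed_of_mem_irreducibleComponents Z hZmax)
    obtain ⟨z, hz, hzne⟩ : ∃ z, x ⤳ z ∧ x ≠ z := by
      by_contra hh
      push Not at hh
      refine hx (isClosed_of_closure_subset fun z hz => ?_)
      exact (hh z (specializes_iff_mem_closure.2 hz)).symm
    rcases hspec ξ x z (hξ.specializes (hxZ.1 (subset_closure rfl))) hz with e | e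
    · change closure {x} ∈ irreducibleComponents X
      rw [← e, hξ.def]
      exact hZmax
    · exact absurd e hzne
  · exact ((inseparable_iff_closure_eq).2 h).eq

/-- Grothendieck vanishing in dimension one. -/
theorem subsingleton_H [T0Space X] (hd : topologicalKrullDim X ≤ 1) (F : CohTop.Ab X) (n : ℕ) :
    Subsingleton (CohTop.H F (n + 2)) := by
  have hspec := spec_of_dim_le_one hd
  exact subsingleton_H_two_aux hspec (finite_not_isClosed hspec).toFinset F
    (fun x hx => (finite_not_isClosed hspec).mem_toFinset.1 hx)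
    (fun x hx hxT => absurd ((finite_not_isClosed hspec).mem_toFinset.2 hx) hxT) n

end Groth.L21.RR.Top
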