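import Groth.Agent.L21.RR.Coh
import Groth.Agent.L21.RR.Sections
import Groth.Agent.L21.RR.Finite
import Groth.Agent.L03.Euler.Push
import Groth.Agent.L03.Euler.Section
import Groth.Agent.L20.FlatGeneric
import Groth.Agent.L22.FibreDim
import Groth.Agent.L22.CurveAmple.Main
import Groth.Prelude.Def_ClSub2

/-!
Genus inequalities for morphisms of curves that are closed immersions / isomorphisms over a dense open.
-/

set_option autoImplicit false
set_option backward.isDefEq.respectTransparency false
set_option linter.style.haveILetI false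
universe u

open CategoryTheory CategoryTheory.Limits AlgebraicGeometry TopologicalSpace Opposite

noncomputable section

namespace Groth.L21.RR

open Groth.L16.CohLinear

variable {X Y : Scheme.{u}} (f : Y ⟶ X)

theorem mem_of_dense_of_not_isClosed [IsNoetherian X] (hd : topologicalKrullDim X ≤ 1) {U : X.Opens}
    (hU : Dense (U : Set X)) {x : X} (hx : ¬ IsClosed ({x} : Set X)) : x ∈ U := by
  refine Groth.L20.mem_of_dense_of_mem_genericPoints U hU ?_
  rw [Groth.L20.mem_genericPoints_iff]
  obtain ⟨z, hxz, hne⟩ : ∃ z, x ⤳ z ∧ x ≠ z := by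
    by_contra hh
    push Not at hh
    exact hx (isClosed_of_closure_subset fun z hz => (hh z (specializes_iff_mem_closure.2 hz)).symm)
  exact fun g hg => (Top.spec_of_dim_le_one (X := X.toTopCat) hd g x z hg hxz).resolve_right hne

variable [IsFinite f]

theorem isCoh_push_structure [IsLocallyNoetherian X] :
    Coh.IsCoh ((Coh.push f).obj (Coh.structureModule Y)) := by
  haveI : IsLocallyNoetherian Y := LocallyOfFiniteType.isLocallyNoetherian f
  haveI : Coh.IsQCoh (Coh.structureModule Y) := Groth.L16.CohClosedPush.isCoh_structure.1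
  haveI : Coh.IsQCoh ((Coh.push f).obj (Coh.structureModule Y)) := Groth.L16.QcqsPush.isQCoh_push _ f
  refine Groth.L16.CohClosedPush.isCoh_of_finite_sections _ fun x => ?_
  obtain ⟨_, ⟨V, hV, rfl⟩, hxV, -⟩ :=
    X.isBasis_affineOpens.exists_subset_of_mem_open (Set.mem_univ x) isOpen_univ
  refine ⟨V, hxV, hV, ?_⟩
  exact f.finite_app V hV

variable {f} in
theorem suppClosed_cokernel_unitToPush [IsNoetherian X] (hd : topologicalKrullDim X ≤ 1) {U : X.Opens}
    (hU : Dense (U : Set X)) [IsClosedImmersion (f ∣_ U)] :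
    SuppClosed (cokernel (ClSub.unitToPush f)) := by
  refine suppClosed_cokernel_of_surjective _ fun x hx => ?_
  have hxU := mem_of_dense_of_not_isClosed hd hU hx
  intro v
  obtain ⟨W, hxW, t, rfl⟩ := TopCat.Presheaf.exists_germ_eq
    ((Scheme.Modules.pushforward f).obj (Coh.structureModule Y)).presheaf v
  obtain ⟨_, ⟨V, hV, rfl⟩, hxV, hVle⟩ := X.isBasis_affineOpens.exists_subset_of_mem_open
    (show x ∈ W ⊓ U from ⟨hxW, hxU⟩) (W ⊓ U).2
  change X.Opens at V
  have hVW : V ≤ W := fun y hy => (hVle hy).1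
  have hVU : V ≤ U := fun y hy => (hVle hy).2
  have hsurj : Function.Surjective (f.app V).hom := by
    let V' : (U : Scheme).Opens := U.ι ⁻¹ᵁ V
    have hV' : U.ι ''ᵁ V' = V := by
      rw [Scheme.Hom.image_preimage_eq_opensRange_inf, Scheme.Opens.opensRange_ι, inf_eq_right.2 hVU]
    have hV'a : IsAffineOpen V' := (U.ι.isAffineOpen_iff_of_isOpenImmersion).1 (by rw [hV']; exact hV)
    have h1 := (f ∣_ U).app_surjective V' hV'a
    have h2 : f.app (U.ι ''ᵁ V') ≫ Y.presheaf.map (eqToHom (image_morphismRestrict_preimage f U V')).op =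
        (f ∣_ U).app V' := (morphismRestrict_app f U V').symm
    rw [← hV']
    intro b
    obtain ⟨a, ha⟩ := h1 (Y.presheaf.map (eqToHom (image_morphismRestrict_preimage f U V')).op b)
    refine ⟨a, ?_⟩
    rw [← h2] at ha
    exact (ConcreteCategory.bijective_of_isIso
      (Y.presheaf.map (eqToHom (image_morphismRestrict_preimage f U V')).op)).1 ha
  obtain ⟨a, ha⟩ := hsurj (Groth.L18.Frame.rs _ hVW t)
  refine ⟨(Coh.structureModule X).presheaf.germ V x hxV a, ?_⟩
  show st (ClSub.unitToPush f) x _ = _
  rw [st_germ, ← Groth.L20.ModStalk.germ_rs (M := (Scheme.Modules.pushforward f).obj (Coh.structureModule Y)) hVW hxV t]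
  exact congrArg _ ha

variable (k : Type u) [Field k] [X.Over (Spec (CommRingCat.of k))] [Y.Over (Spec (CommRingCat.of k))]
  [IsProper (X ↘ Spec (CommRingCat.of k))]

theorem h_push_structure (hf : f ≫ (X ↘ Spec (CommRingCat.of k)) = Y ↘ Spec (CommRingCat.of k)) (p : ℕ) :
    h k p ((Coh.push f).obj (Coh.structureModule Y)) = h k p (Coh.structureModule Y) := by
  haveI := isNoetherian_of_proper (X := X) k
  haveI : IsLocallyNoetherian Y := LocallyOfFiniteType.isLocallyNoetherian f
  haveI : X.IsSeparated := ⟨by rw [← terminal.comp_from (X ↘ Spec (CommRingCat.of k))]; infer_instance⟩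
  obtain ⟨e⟩ := Groth.L03.Euler.exists_HH_push_linearEquiv (k := k) f (Coh.structureModule Y)
    Groth.L16.CohClosedPush.isCoh_structure.1 hf p
  exact e.finrank_eq.symm

theorem genus_le_of_closedImmersion_over_dense (hd : topologicalKrullDim X ≤ 1)
    (hf : f ≫ (X ↘ Spec (CommRingCat.of k)) = Y ↘ Spec (CommRingCat.of k))
    {U : X.Opens} (hU : Dense (U : Set X)) [IsClosedImmersion (f ∣_ U)] :
    Curv2.genus k Y ≤ Curv2.genus k X := by
  haveI := isNoetherian_of_proper (X := X) k
  haveI := finite_HH' k (Groth.L16.CohClosedPush.isCoh_structure (X := X)) 1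
  show h k 1 (Coh.structureModule Y) ≤ h k 1 (Coh.structureModule X)
  rw [← h_push_structure f k hf 1]
  exact LinearMap.finrank_le_finrank_of_surjective (f := hk k (ClSub.unitToPush f) 1)
    (surjective_hmap_one_of_suppClosed hd _ (suppClosed_cokernel_unitToPush hd hU))

theorem app_injective_of_isIso_over_dense [IsReduced X] {U : X.Opens} (hU : Dense (U : Set X))
    [IsIso (f ∣_ U)] (W : X.Opens) : Function.Injective (f.app W).hom := by
  refine (injective_iff_map_eq_zero _).2 fun a ha => ?_
  rw [← basicOpen_eq_bot_iff]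
  by_contra hne
  obtain ⟨y, hy⟩ : (X.basicOpen a : Set X).Nonempty := by
    by_contra hh
    exact hne (TopologicalSpace.Opens.ext (Set.not_nonempty_iff_eq_empty.1 hh))
  obtain ⟨x, hxa, hxU⟩ := hU.inter_open_nonempty _ (X.basicOpen a).2 ⟨y, hy⟩
  obtain ⟨z, hz⟩ := (f ∣_ U).homeomorph.surjective ⟨x, hxU⟩
  have hfz : f z.1 = x := by
    rw [← morphismRestrict_base_coe]
    exact congrArg Subtype.val hz
  have hpre : z.1 ∈ f ⁻¹ᵁ X.basicOpen a := by
    show f z.1 ∈ X.basicOpen a
    rw [hfz]; exact hxa
  rw [Scheme.preimage_basicOpen, show f.app W a = 0 from ha, Scheme.basicOpen_zero] at hpre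
  exact hpre.elim

theorem isIso_of_genus_eq [IsReduced X] (hd : topologicalKrullDim X ≤ 1)
    (hf : f ≫ (X ↘ Spec (CommRingCat.of k)) = Y ↘ Spec (CommRingCat.of k))
    {U : X.Opens} (hU : Dense (U : Set X)) [IsIso (f ∣_ U)]
    (h0 : Function.Surjective (f.app ⊤).hom) (h1 : Curv2.genus k Y = Curv2.genus k X) : IsIso f := by
  haveI := isNoetherian_of_proper (X := X) k
  have hO := Groth.L16.CohClosedPush.isCoh_structure (X := X)
  have hP := isCoh_push_structure f
  let u := ClSub.unitToPush f
  have hmono : Mono u := by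
    refine (Groth.L21.Mod.mono_iff_stalk_injective u).2 fun x => ?_
    refine (injective_iff_map_eq_zero _).2 fun v hv => ?_
    obtain ⟨W, hxW, a, rfl⟩ := TopCat.Presheaf.exists_germ_eq (Coh.structureModule X).presheaf v
    change st u x _ = 0 at hv
    rw [st_germ] at hv
    rw [← map_zero (((Scheme.Modules.pushforward f).obj (Coh.structureModule Y)).presheaf.germ W x hxW).hom] at hv
    obtain ⟨W', hxW', i, i', e⟩ := TopCat.Presheaf.germ_eq _ x hxW hxW _ _ hv
    rw [map_zero] at e
    have h2 : f.app W' (X.presheaf.map i.op a) = 0 := by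
      refine Eq.trans ?_ e
      exact congr($(f.naturality i.op) a)
    have h3 := app_injective_of_isIso_over_dense f hU W' (h2.trans (map_zero _).symm)
    rw [← TopCat.Presheaf.germ_res_apply _ i x hxW' a]
    exact (congrArg _ h3).trans (map_zero _)
  have hs : SuppClosed (cokernel u) := suppClosed_cokernel_unitToPush hd hU
  have hQ := (Groth.L16.CohKernel.isCoh_kernel_cokernel hO hP u).2
  have hS : (ShortComplex.mk u (cokernel.π u) (cokernel.condition u)).ShortExact :=
    { exact := ShortComplex.exact_cokernel u }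
  have key := euler_add k hd hS hO hP hQ
  rw [euler_eq k hd, euler_eq k hd, euler_eq_h0_of_suppClosed k hs] at key
  dsimp only at key
  have hsurj0 : Function.Surjective (hk k u 0) := by
    intro y
    obtain ⟨a, ha⟩ := h0 (e0 ((Scheme.Modules.pushforward f).obj (Coh.structureModule Y)) y)
    refine ⟨(e0 (Coh.structureModule X)).symm a, (e0 _).injective ?_⟩
    show e0 _ (hmap u 0 _) = _
    rw [e0_hmap, AddEquiv.apply_symm_apply]
    exact ha
  haveI := finite_HH' k hO 0
  have hle : h k 0 ((Coh.push f).obj (Coh.structureModule Y)) ≤ h k 0 (Coh.structureModule X) :=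
    LinearMap.finrank_le_finrank_of_surjective hsurj0
  have h1' : h k 1 ((Coh.push f).obj (Coh.structureModule Y)) = h k 1 (Coh.structureModule X) :=
    (h_push_structure f k hf 1).trans h1
  have hzero : h k 0 (cokernel u) = 0 := by
    change (h k 0 ((Coh.push f).obj (Coh.structureModule Y)) : ℤ) -
      h k 1 ((Coh.push f).obj (Coh.structureModule Y)) = _ at key
    omega
  haveI := finite_HH' k hQ 0
  have hsub : Subsingleton (Coh.HH X (cokernel u) 0) := Module.finrank_zero_iff.1 hzero
  haveI : IsIso u := by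
    refine (Groth.L21.Mod.isIso_iff_stalk_bijective u).2 fun x =>
      ⟨(Groth.L21.Mod.mono_iff_stalk_injective u).1 hmono x, ?_⟩
    refine (Groth.L03.Euler.notMem_support_cokernel_iff u).1 fun hx => hx ?_
    refine ⟨fun p q => ?_⟩
    obtain ⟨s, hs1, -⟩ := exists_section_germ hs x p
    obtain ⟨s', hs2, -⟩ := exists_section_germ hs x q
    rw [← hs1, ← hs2, show s = s' from (e0 (cokernel u)).symm.injective (Subsingleton.elim _ _)]
  have hbij : ∀ W : X.Opens, Function.Bijective (f.app W).hom := fun W =>
    ConcreteCategory.bijective_of_isIso (u.app W)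
  haveI : IsClosedImmersion f := by
    rw [isClosedImmersion_iff_isAffineHom]
    exact ⟨inferInstance, fun V _ => (hbij V).2⟩
  haveI : Surjective f := ⟨fun x => by
    have hcl := f.isClosedMap _ isClosed_univ
    rw [Set.image_univ] at hcl
    have hUr : (U : Set X) ⊆ Set.range f := fun y hy => by
      obtain ⟨z, hz⟩ := (f ∣_ U).homeomorph.surjective ⟨y, hy⟩
      refine ⟨z.1, ?_⟩
      rw [← morphismRestrict_base_coe]
      exact congrArg Subtype.val hz
    exact hcl.closure_subset_iff.2 hUr (hU x)⟩
  exact isIso_of_isClosedImmersion_of_surjective f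

omit [IsFinite f] in
theorem isFinite_of_birational [IsProper f]
    (hd : topologicalKrullDim X ≤ 1)
    (hf : f ≫ (X ↘ Spec (CommRingCat.of k)) = Y ↘ Spec (CommRingCat.of k))
    {U : X.Opens} (hU : Dense (U : Set X)) (hU' : Dense ((f ⁻¹ᵁ U : Y.Opens) : Set Y)) [IsIso (f ∣_ U)] :
    IsFinite f := by
  haveI : IsProper (Y ↘ Spec (CommRingCat.of k)) := by rw [← hf]; infer_instance
  haveI := isNoetherian_of_proper (X := X) k
  haveI := isNoetherian_of_proper (X := Y) k
  haveI : LocallyOfFiniteType (X ↘ Spec (CommRingCat.of k)) := inferInstance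
  haveI : LocallyOfFiniteType (Y ↘ Spec (CommRingCat.of k)) := inferInstance
  -- points over `U` are determined by their images
  have hinj : ∀ a b : Y, f a ∈ U → f a = f b → a = b := fun a b ha e => by
    have hb : f b ∈ U := e ▸ ha
    exact congrArg Subtype.val ((f ∣_ U).homeomorph.injective (a₁ := ⟨a, ha⟩) (a₂ := ⟨b, hb⟩)
      (Subtype.ext (by
        rw [show ((f ∣_ U).homeomorph ⟨a, ha⟩).1 = ((f ∣_ U) ⟨a, ha⟩).1 from rfl,
          show ((f ∣_ U).homeomorph ⟨b, hb⟩).1 = ((f ∣_ U) ⟨b, hb⟩).1 from rfl,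
          morphismRestrict_base_coe, morphismRestrict_base_coe]
        exact e)))
  -- the dimension of `Y`
  have hdY : topologicalKrullDim Y ≤ 1 := by
    rw [Groth.L22.FibreDim.topologicalKrullDim_eq_iSup_closure]
    refine iSup_le fun y => ?_
    obtain ⟨η, hηy, hmax⟩ := Groth.L22.FibreDim.exists_maximal_specializes y
    have hηg : η ∈ genericPoints Y := (Groth.L20.mem_genericPoints_iff η).2 hmax
    have hηU : f η ∈ U := Groth.L20.mem_of_dense_of_mem_genericPoints (f ⁻¹ᵁ U) hU' hηg
    obtain ⟨a, b, ha, hb, hab⟩ := Groth.L22.FibreDim.exists_dim_closure_add (k := k) f hf η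
    have hb0 : b = 0 := by
      have hsub : Subsingleton (closure ({η} : Set Y) ∩ f ⁻¹' {f η} : Set Y) :=
        ⟨fun p q => Subtype.ext ((hinj η p.1 hηU p.2.2.symm).symm.trans (hinj η q.1 hηU q.2.2.symm))⟩
      have hne : Nonempty (closure ({η} : Set Y) ∩ f ⁻¹' {f η} : Set Y) := ⟨⟨η, subset_closure rfl, rfl⟩⟩
      haveI : Nonempty (IrreducibleCloseds (closure ({η} : Set Y) ∩ f ⁻¹' {f η} : Set Y)) :=
        ⟨⟨closure {hne.some}, isIrreducible_singleton.closure, isClosed_closure⟩⟩
      haveI : Subsingleton (IrreducibleCloseds (closure ({η} : Set Y) ∩ f ⁻¹' {f η} : Set Y)) :=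
        ⟨fun p q => IrreducibleCloseds.ext (by
          ext w
          obtain ⟨a, ha⟩ := p.isIrreducible.1
          obtain ⟨b, hb⟩ := q.isIrreducible.1
          exact ⟨fun _ => Subsingleton.elim b w ▸ hb, fun _ => Subsingleton.elim a w ▸ ha⟩)⟩
      have h0 : topologicalKrullDim (closure ({η} : Set Y) ∩ f ⁻¹' {f η} : Set Y) = 0 :=
        Order.krullDim_eq_zero
      rw [hb] at h0
      exact_mod_cast h0
    have ha1 : a ≤ 1 := by
      have := (Groth.L22.SchemeDim.topologicalKrullDim_mono (Set.subset_univ (closure {f η}))).trans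
        ((Groth.L22.SchemeDim.topologicalKrullDim_eq_of_isEmbedding (f := @id X)
          Topology.IsEmbedding.id Set.range_id).le.trans hd)
      rw [ha] at this
      exact_mod_cast this
    refine (Groth.L22.SchemeDim.topologicalKrullDim_mono
      (closure_minimal (Set.singleton_subset_iff.2 hηy.mem_closure) isClosed_closure)).trans ?_
    rw [hab, hb0]
    exact_mod_cast ha1
  haveI : LocallyQuasiFinite f := LocallyQuasiFinite.of_finite_preimage_singleton f fun x => by
    by_cases hx : x ∈ U
    · exact (Set.Subsingleton.finite fun p hp q hq =>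
        hinj p q ((show f p = x from hp) ▸ hx) ((show f p = x from hp).trans (show f q = x from hq).symm))
    · refine (Groth.L18.Curve.finite_of_forall_isClosed (F := ((f ⁻¹ᵁ U : Y.Opens) : Set Y)ᶜ)
        (f ⁻¹ᵁ U).2.isClosed_compl fun y hy => ?_).subset fun y hy hmem => hx ((show f y = x from hy) ▸ hmem)
      by_contra hc
      exact hy (mem_of_dense_of_not_isClosed hdY hU' hc)
  exact IsFinite.of_isProper_of_locallyQuasiFinite f

end Groth.L21.RR
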