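import Groth.Agent.L21.RR.Finite

/-!
Sections of modules supported at closed points, over a base ring.
-/

set_option autoImplicit false
set_option linter.style.haveILetI false
universe u

open CategoryTheory CategoryTheory.Limits AlgebraicGeometry TopologicalSpace Opposite

noncomputable section

namespace Groth.L21.RR.Ring

open Groth.L16.CohLinear (hmap hmap_comp hmap_id overLin)
open Groth.L18.Frame (IsFrame rs ro)
open Groth.L21.RR (SuppClosed e0 germ_ext exists_section_of_finite finite_germ_ne_zero)

variable {X : Scheme.{u}} (k : Type u) [CommRing k] [X.Over (Spec (CommRingCat.of k))]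

theorem e0_smul (M : X.Modules) (c : k) (x : Coh.HH X M 0) :
    e0 M (c • x) = (show Γ(X, ⊤) from Coh.toGlobal (X ↘ Spec (CommRingCat.of k)) c) • e0 M x := by
  obtain ⟨y, rfl⟩ := (e0 M).symm.surjective x
  apply (e0 M).symm.injective
  rw [AddEquiv.symm_apply_apply, AddEquiv.apply_symm_apply]
  refine (CategoryTheory.Sheaf.H.equiv₀_symm_naturality _
    (Coh.smulAb M (Coh.toGlobal (X ↘ Spec (CommRingCat.of k)) c)) y).trans (congrArg (e0 M).symm ?_)
  refine (Coh.smulAb_app M _ (op ⊤) y).trans ?_
  exact congrArg (fun r => @HSMul.hSMul (X.ringCatSheaf.obj.obj (op ⊤)) (M.val.obj (op ⊤)) (M.val.obj (op ⊤)) _ r y)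
    (Groth.L18.Frame.ro_self (le_rfl : (⊤ : X.Opens) ≤ ⊤) _)

variable [AlgebraicGeometry.IsNoetherian X]

theorem nonempty_h0_equiv {M N : X.Modules} (hM : SuppClosed M) (hN : SuppClosed N)
    (θ : ∀ x : X, M.presheaf.stalk x ≃ₗ[X.presheaf.stalk x] N.presheaf.stalk x) :
    Nonempty (Coh.HH X M 0 ≃ₗ[k] Coh.HH X N 0) := by
  have key : ∀ m : Γ(M, ⊤), ∃! n : Γ(N, ⊤), ∀ x,
      N.presheaf.germ ⊤ x trivial n = θ x (M.presheaf.germ ⊤ x trivial m) := by
    intro m
    obtain ⟨n, hn⟩ := exists_section_of_finite hN (fun x => θ x (M.presheaf.germ ⊤ x trivial m))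
      (finite_germ_ne_zero hM m).toFinset fun x hx => by
        simp only [Set.Finite.mem_toFinset, Set.mem_setOf_eq, not_not] at hx
        rw [hx, map_zero]
    exact ⟨n, hn, fun n' hn' => germ_ext fun x _ => (hn' x).trans (hn x).symm⟩
  choose T hT hTu using key
  let L : Coh.HH X M 0 →ₗ[k] Coh.HH X N 0 :=
    { toFun := fun a => (e0 N).symm (T (e0 M a))
      map_add' := fun a b => (e0 N).injective <| by
        rw [map_add (e0 N), AddEquiv.apply_symm_apply, AddEquiv.apply_symm_apply, AddEquiv.apply_symm_apply]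
        refine (hTu (e0 M (a + b)) _ fun x => ?_).symm
        rw [map_add (e0 M), map_add, map_add, map_add, hT, hT]
      map_smul' := fun c a => (e0 N).injective <| by
        rw [RingHom.id_apply, e0_smul k N, AddEquiv.apply_symm_apply, AddEquiv.apply_symm_apply]
        refine (hTu (e0 M (c • a)) _ fun x => ?_).symm
        rw [e0_smul k M, Groth.L20.ModStalk.germ_smul, Groth.L20.ModStalk.germ_smul, hT]
        exact ((θ x).map_smul _ _).symm }
  refine ⟨LinearEquiv.ofBijective L ⟨?_, fun b => ?_⟩⟩
  · refine (injective_iff_map_eq_zero L).2 fun a ha => ?_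
    refine (e0 M).injective (germ_ext fun x hx => ?_)
    have h1 : T (e0 M a) = 0 := by
      have h2 := congrArg (e0 N) ha
      rw [map_zero] at h2
      exact ((e0 N).apply_symm_apply _).symm.trans h2
    have h3 := hT (e0 M a) x
    rw [h1, map_zero] at h3
    rw [map_zero, map_zero]
    exact (θ x).injective (h3.symm.trans (map_zero _).symm)
  · obtain ⟨m, hm⟩ := exists_section_of_finite hM (fun x => (θ x).symm (N.presheaf.germ ⊤ x trivial (e0 N b)))
      (finite_germ_ne_zero hN (e0 N b)).toFinset fun x hx => by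
        simp only [Set.Finite.mem_toFinset, Set.mem_setOf_eq, not_not] at hx
        rw [hx, map_zero]
    refine ⟨(e0 M).symm m, (e0 N).injective ?_⟩
    change e0 N ((e0 N).symm (T (e0 M ((e0 M).symm m)))) = e0 N b
    rw [AddEquiv.apply_symm_apply, AddEquiv.apply_symm_apply]
    exact (hTu m (e0 N b) fun x => by rw [hm x, LinearEquiv.apply_symm_apply]).symm

end Groth.L21.RR.Ring
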