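import Groth.Agent.L21.RR.Point

/-!
Curves of genus zero with a rational point are projective lines.
-/

set_option autoImplicit false
set_option linter.style.haveILetI false
universe u

open CategoryTheory CategoryTheory.Limits AlgebraicGeometry

noncomputable section

namespace Groth.L21.RR

variable {X : Scheme.{u}} (k : Type u) [Field k] [X.Over (Spec (CommRingCat.of k))]
  [IsIntegral X] [IsProper (X ↘ Spec (CommRingCat.of k))]

theorem exists_iso_projLine_of_point (hd : topologicalKrullDim X = 1) (hg : Curv2.genus k X = 0) {z : X}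
    (hz : IsClosed ({z} : Set X)) (hzne : z ≠ genericPoint X) (hrat : IsRat k z)
    (hp : (IsLocalRing.maximalIdeal (X.presheaf.stalk z)).IsPrincipal) :
    ∃ e : X ≅ CohB1.ProjSpace 1 k, e.hom ≫ CohB1.ProjSpace.toSpec 1 k = X ↘ Spec (CommRingCat.of k) := by
  haveI := isNoetherian_of_proper (X := X) k
  haveI := finite_HH' k (Groth.L16.CohClosedPush.isCoh_structure (X := X)) 1
  have h1 : Subsingleton (Coh.HH X (Coh.structureModule X) 1) := Module.finrank_zero_iff.1 hg
  obtain ⟨L, hL, hdeg⟩ := exists_deg_one k hd.le hz hzne hrat hp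
  obtain ⟨e, he, -⟩ := exists_iso_projLine k hd h1 hL hdeg
  exact ⟨e, he⟩

theorem exists_iso_projLine_of_isAlgClosed [IsAlgClosed k] (hd : topologicalKrullDim X = 1)
    (hg : Curv2.genus k X = 0) :
    ∃ e : X ≅ CohB1.ProjSpace 1 k, e.hom ≫ CohB1.ProjSpace.toSpec 1 k = X ↘ Spec (CommRingCat.of k) := by
  obtain ⟨z, hz, hzne, hp⟩ := exists_regular_point (X := X) k hd
  exact exists_iso_projLine_of_point k hd hg hz hzne (isRat_of_isClosed k hz) hp

end Groth.L21.RR
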