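import Groth.Agent.L21.RR.GenusZero

/-!
The finite morphism to projective space of a base point free complete linear system on a curve.
-/

set_option autoImplicit false
set_option backward.isDefEq.respectTransparency false
set_option linter.style.haveILetI false
universe u

open CategoryTheory CategoryTheory.Limits AlgebraicGeometry TopologicalSpace Opposite

noncomputable section

namespace Groth.L21.RR

open Groth.L18.Frame (rs ro rs_rs rs_self rs_smul IsFrame)
open Groth.L18.GenLoc (secOf)

variable {X : Scheme.{u}} [IsIntegral X] (k : Type u) [Field k] [X.Over (Spec (CommRingCat.of k))]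
  [IsProper (X ↘ Spec (CommRingCat.of k))] {L : X.Modules}

/-- A base point free complete linear system of positive degree gives a finite morphism. -/
theorem exists_finite_hom_of_gen (hd : topologicalKrullDim X ≤ 1) (hL : PicF.IsInvertible L) {n : ℕ}
    (hn : h k 0 L = n + 1) (hdeg : 0 < Curv2.deg k X L 1)
    (hgen : ∀ x : X, ∃ ψ : Coh.structureModule X ⟶ L, Function.Surjective (st ψ x)) :
    ∃ r : X ⟶ Groth.L18.PUP.P n k, IsFinite r ∧
      r ≫ Groth.L18.PUP.pr n k = X ↘ Spec (CommRingCat.of k) ∧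
      Nonempty ((Scheme.Modules.pullback r).obj (Groth.L18.PUP.O1 n k) ≅ L) := by
  haveI := isNoetherian_of_proper (X := X) k
  obtain ⟨s, hs0, hspan⟩ := exists_basis k hL hn
  have hne := fun i => genLocus_ne_top k hd hL hdeg (hs0 i)
  have hcov : ∀ x : X, ∃ i, x ∈ CohB1.genLocus L (s i) := fun x => by
    obtain ⟨ψ, hψ⟩ := hgen x
    obtain ⟨c, hcψ⟩ := hspan ψ
    by_contra hx
    push Not at hx
    obtain ⟨W, ε, hxW, hε⟩ := Groth.L18.Frame.exists_frame hL x
    choose b hb hb' using fun j => exists_coeff_secOf hε (s j)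
    obtain ⟨β, hβ, hβ'⟩ := exists_coeff_secOf hε ψ
    have hnon : ∀ j, ¬ IsUnit (X.presheaf.germ W x hxW (b j)) := fun j hu =>
      hx j ((mem_genLocus_iff hL (s j) x).2
        ((surjective_st_iff (bijective_germ_frame hε hxW) (s j) (hb' j x hxW)).2 hu))
    have hsum : X.presheaf.germ W x hxW β =
        ∑ j, X.presheaf.germ ⊤ x trivial (cst (X := X) k (c j)) * X.presheaf.germ W x hxW (b j) := by
      refine (bijective_germ_frame hε hxW).1 ?_
      show _ • L.presheaf.germ W x hxW ε = _ • L.presheaf.germ W x hxW ε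
      rw [hβ' x hxW, st_one ψ x (W := ⊤) trivial, rs_self, ← secOf_eq, hcψ, map_sum, Finset.sum_smul]
      refine Finset.sum_congr rfl fun j _ => ?_
      rw [Groth.L20.ModStalk.germ_smul, ← smul_smul, hb' j x hxW, st_one (s j) x (W := ⊤) trivial, rs_self,
        ← secOf_eq]
    have hu := (surjective_st_iff (bijective_germ_frame hε hxW) ψ (hβ' x hxW)).1 hψ
    rw [hsum] at hu
    exact (show _ ∈ nonunits (X.presheaf.stalk x) from
      (IsLocalRing.mem_maximalIdeal _).1 (sum_mem fun j _ => Ideal.mul_mem_left _ _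
        ((IsLocalRing.mem_maximalIdeal _).2 (hnon j)))) hu
  let S : Fin (n + 1) → Γ(L, ⊤) := fun j => secOf (s j)
  have hfr : ∀ i, IsFrame L (CohB1.genLocus L (s i)) (rs L le_top (S i)) := fun i =>
    Groth.L18.GenLoc.isFrame_genLocus (s i)
  obtain ⟨r, hr, τ, hτ⟩ := Groth.L18.PUP.exists_hom (X ↘ Spec (CommRingCat.of k)) L hL S
    (Groth.L18.SpecLine.generatedBy_of_frames (ι := Fin (n + 1)) S fun x => by
      obtain ⟨i, hi⟩ := hcov x
      exact ⟨_, i, hi, hfr i⟩)
  have hτrs : ∀ (W : X.Opens) (j : Fin (n + 1)),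
      τ.hom.app W (rs _ le_top (Groth.L18.PUP.rT r j)) = rs L le_top (S j) := fun W j => by
    rw [← hτ j]
    exact congr($(τ.hom.mapPresheaf.naturality (homOfLE (le_top : W ≤ ⊤)).op) (Groth.L18.PUP.rT r j))
  have hframe : ∀ (W : X.Opens) (j : Fin (n + 1)),
      IsFrame ((Scheme.Modules.pullback r).obj (Groth.L18.PUP.O1 n k)) W (rs _ le_top (Groth.L18.PUP.rT r j)) ↔
        IsFrame L W (rs L le_top (S j)) := fun W j => by
    refine forall_congr' fun V => forall_congr' fun hV => ?_
    have e1 : (fun b : Γ(X, V) => b • rs L hV (rs L le_top (S j))) =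
        τ.hom.app V ∘ fun b => b • rs ((Scheme.Modules.pullback r).obj (Groth.L18.PUP.O1 n k)) hV
          (rs _ le_top (Groth.L18.PUP.rT r j)) := by
      funext b
      simp only [rs_rs, Function.comp_apply, Scheme.Modules.Hom.app_smul, hτrs]
    rw [e1]
    exact (Function.Bijective.of_comp_iff' (ConcreteCategory.bijective_of_isIso (τ.hom.app V)) _).symm
  have hpre : ∀ i, r ⁻¹ᵁ Groth.L18.PUP.D i = CohB1.genLocus L (s i) := fun i =>
    le_antisymm (Groth.L18.GenLoc.le_genLocus (s i) ((hframe _ _).1 (Groth.L18.PUP.rT_frame r i)))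
      (Groth.L18.PUP.le_preimage_of_frame r ((hframe _ _).2 (hfr i)))
  exact ⟨r, isFinite_of_preimage_ne_top (X ↘ Spec (CommRingCat.of k)) hd r hr fun j => (hpre j).trans_ne (hne j),
    hr, ⟨τ⟩⟩

end Groth.L21.RR
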