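import Groth.Agent.L21.RR.PointDrop

/-!
Global generation and very ampleness of invertible modules on curves over algebraically closed fields.
-/

set_option autoImplicit false
set_option backward.isDefEq.respectTransparency false
set_option linter.style.haveILetI false
universe u

open CategoryTheory CategoryTheory.Limits AlgebraicGeometry TopologicalSpace Opposite IsLocalRing

noncomputable section

namespace Groth.L21.RR

open Groth.L18.GenLoc (secOf)

attribute [local instance] Curv2.resAlgebra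

variable {X : Scheme.{u}} {L : X.Modules}

theorem exists_gen_of_globallyGenerated (hL : PicF.IsInvertible L) (h : Curv2.IsGloballyGenerated L) {P : X}
    (hP : IsClosed ({P} : Set X)) : ∃ φ : Coh.structureModule X ⟶ L, Function.Surjective (st φ P) := by
  obtain ⟨σ, p, hp⟩ := h
  obtain ⟨α, hα, hα0⟩ := exists_value hL P
  by_contra hall
  push Not at hall
  have hz : p ≫ toPoint P α = 0 := Sigma.hom_ext _ _ fun i => by
    obtain ⟨ψ, hψ⟩ := (isMinusPt_kernel hP α hα0).exists_lift_section hL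
      ((Sigma.ι (fun _ : σ => Coh.structureModule X) i ≫ p : Coh.structureModule X ⟶ L)) (hall _)
    refine (Category.assoc _ _ _).symm.trans ((congrArg (· ≫ toPoint P α) hψ.symm).trans ?_)
    rw [Category.assoc, kernel.condition, comp_zero, comp_zero]
  have h0 : toPoint P α = 0 := (cancel_epi p).1 (hz.trans comp_zero.symm)
  obtain ⟨v, hv⟩ := hα 1
  refine one_ne_zero (α := ResidueField (X.presheaf.stalk P)) (hv.symm.trans ?_)
  rw [← counit_toPoint α, h0, st, Functor.map_zero]
  exact map_zero _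

variable [IsIntegral X]

theorem isGloballyGenerated_iff [CompactSpace X] (hL : PicF.IsInvertible L) :
    Curv2.IsGloballyGenerated L ↔
      ∀ (P : X), IsClosed ({P} : Set X) → ∃ φ : Coh.structureModule X ⟶ L, Function.Surjective (st φ P) := by
  refine ⟨fun h P hP => exists_gen_of_globallyGenerated hL h hP,
    fun h => isGloballyGenerated_of_sections fun x => ?_⟩
  obtain ⟨P, hP, hxP⟩ := exists_closed_specialization x
  exact (h P hP).imp fun φ hφ => surjective_st_of_specializes hL hxP hφ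

variable (k : Type u) [Field k] [IsAlgClosed k] [X.Over (Spec (CommRingCat.of k))]
  [IsProper (X ↘ Spec (CommRingCat.of k))]

/-- A family of sections separating points and tangent vectors gives a closed immersion. -/
theorem exists_closedImmersion_of_sep_tan (hL : PicF.IsInvertible L) (hne : 0 < h k 0 L)
    (hgen : ∀ (P : X), IsClosed ({P} : Set X) → ∃ φ : Coh.structureModule X ⟶ L, Function.Surjective (st φ P))
    (hsep : ∀ P Q : X, IsClosed ({P} : Set X) → IsClosed ({Q} : Set X) → P ≠ Q → ∃ s : Γ(L, ⊤),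
      L.presheaf.germ ⊤ P trivial s ∈ maximalIdeal (X.presheaf.stalk P) • (⊤ : Submodule (X.presheaf.stalk P) (L.presheaf.stalk P)) ∧
      L.presheaf.germ ⊤ Q trivial s ∉ maximalIdeal (X.presheaf.stalk Q) • (⊤ : Submodule (X.presheaf.stalk Q) (L.presheaf.stalk Q)))
    (htan : ∀ P : X, IsClosed ({P} : Set X) →
      maximalIdeal (X.presheaf.stalk P) • (⊤ : Submodule (X.presheaf.stalk P) (L.presheaf.stalk P)) ≤
        Submodule.span (X.presheaf.stalk P)
          {v | (∃ s : Γ(L, ⊤), v = L.presheaf.germ ⊤ P trivial s) ∧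
            v ∈ maximalIdeal (X.presheaf.stalk P) • (⊤ : Submodule (X.presheaf.stalk P) (L.presheaf.stalk P))} ⊔
        maximalIdeal (X.presheaf.stalk P) ^ 2 • (⊤ : Submodule (X.presheaf.stalk P) (L.presheaf.stalk P))) :
    ∃ (n : ℕ) (r : X ⟶ Groth.L18.PUP.P n k), IsClosedImmersion r ∧
      r ≫ Groth.L18.PUP.pr n k = X ↘ Spec (CommRingCat.of k) ∧
      Nonempty ((Scheme.Modules.pullback r).obj (Groth.L18.PUP.O1 n k) ≅ L) := by
  classical
  haveI := isNoetherian_of_proper (X := X) k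
  haveI := finite_HH' k (Groth.L16.ProperFinite.isCoh_of_isInvertible hL) 0
  obtain ⟨n, hn⟩ := Nat.exists_eq_succ_of_ne_zero hne.ne'
  let b := Module.finBasisOfFinrankEq k (Coh.HH X L 0) hn
  let S : Fin (n + 1) → Γ(L, ⊤) := fun i => e0 L (b i)
  have hspan : ∀ s : Γ(L, ⊤), ∃ c : Fin (n + 1) → k,
      s = ∑ j, ProjUP.toGlobal (X ↘ Spec (CommRingCat.of k)) (c j) • S j := fun s => by
    refine ⟨fun j => b.repr ((e0 L).symm s) j, ?_⟩
    conv_lhs => rw [← (e0 L).apply_symm_apply s, ← b.sum_repr ((e0 L).symm s)]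
    rw [map_sum]
    exact Finset.sum_congr rfl fun j _ => e0_smul k L _ _
  choose φ hφ using fun j => exists_hom_secOf (X := X) (S j)
  have hG : ProjUP.GeneratedBy L S := Groth.L18.SpecLine.generatedBy_of_frames (ι := Fin (n + 1)) S fun x => by
    obtain ⟨z, hz, hxz⟩ := exists_closed_specialization x
    obtain ⟨ψ, hψ⟩ := hgen z hz
    have h1 := (surjective_st_iff_not_mem hL ψ z).1 hψ
    rw [st_one_top] at h1
    obtain ⟨c, hc⟩ := hspan (ψ.app ⊤ (oneSec X))
    obtain ⟨j, hj⟩ : ∃ j, L.presheaf.germ ⊤ z trivial (S j) ∉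
        maximalIdeal (X.presheaf.stalk z) • (⊤ : Submodule (X.presheaf.stalk z) (L.presheaf.stalk z)) := by
      by_contra hall
      push Not at hall
      refine h1 ?_
      rw [hc, map_sum]
      refine Submodule.sum_mem _ fun j _ => ?_
      rw [Groth.L20.ModStalk.germ_smul]
      exact Submodule.smul_mem _ _ (hall j)
    have hsj : Function.Surjective (st (φ j) z) := by
      refine (surjective_st_iff_not_mem hL (φ j) z).2 ?_
      rw [st_one (φ j) z (W := ⊤) trivial, Groth.L18.Frame.rs_self, ← secOf_eq, hφ j]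
      exact hj
    refine ⟨_, j, (mem_genLocus_iff hL (φ j) x).2 (surjective_st_of_specializes hL hxz hsj), ?_⟩
    rw [← hφ j]
    exact Groth.L18.GenLoc.isFrame_genLocus (φ j)
  obtain ⟨r, hr, τ, hτ⟩ := Groth.L18.PUP.exists_hom (X ↘ Spec (CommRingCat.of k)) L hL S hG
  refine ⟨n, r, ?_, hr, ⟨τ⟩⟩
  let M₁ := (Scheme.Modules.pullback r).obj (Groth.L18.PUP.O1 n k)
  let θ : ∀ x : X, M₁.presheaf.stalk x ≃ₗ[X.presheaf.stalk x] L.presheaf.stalk x := fun x =>
    ((Groth.L00.Stk.F X x).mapIso τ).toLinearEquiv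
  have hθs : ∀ (x : X) (c : Fin (n + 1) → k),
      θ x (Groth.L18.CIC.secGerm (X ↘ Spec (CommRingCat.of k)) r x c) =
        L.presheaf.germ ⊤ x trivial (∑ j, ProjUP.toGlobal (X ↘ Spec (CommRingCat.of k)) (c j) • S j) := by
    intro x c
    refine (st_germ τ.hom (U := ⊤) trivial _).trans ?_
    refine congrArg _ ?_
    rw [map_sum]
    refine Finset.sum_congr rfl fun j _ => ?_
    rw [Scheme.Modules.Hom.app_smul, hτ j]
  have hθmap : ∀ (x : X) (J : Ideal (X.presheaf.stalk x)),
      (J • (⊤ : Submodule (X.presheaf.stalk x) (M₁.presheaf.stalk x))).map (θ x).toLinearMap =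
        J • (⊤ : Submodule (X.presheaf.stalk x) (L.presheaf.stalk x)) := fun x J => by
    rw [Submodule.map_smul'', Submodule.map_top, LinearEquiv.range]
  have hθmem : ∀ (x : X) (J : Ideal (X.presheaf.stalk x)) (v : M₁.presheaf.stalk x),
      v ∈ J • (⊤ : Submodule (X.presheaf.stalk x) (M₁.presheaf.stalk x)) ↔
        θ x v ∈ J • (⊤ : Submodule (X.presheaf.stalk x) (L.presheaf.stalk x)) := fun x J v => by
    rw [← hθmap x J, ← LinearEquiv.coe_toLinearMap (θ x)]
    exact ⟨fun h => Submodule.mem_map_of_mem h, fun ⟨w, hw, hwv⟩ => (θ x).injective hwv ▸ hw⟩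
  refine Groth.L18.CIC.isClosedImmersion_of_sep_tan (X ↘ Spec (CommRingCat.of k)) r hr
    (fun P Q hP hQ hne' => ?_) fun P hP => ?_
  · obtain ⟨s, hsP, hsQ⟩ := hsep P Q hP hQ hne'
    obtain ⟨c, rfl⟩ := hspan s
    refine ⟨c, fun hiff => hsQ ?_⟩
    have h1 := hiff.1 ((hθmem P _ _).2 (by rw [hθs P c]; exact hsP))
    rw [← hθs Q c]
    exact (hθmem Q _ _).1 h1
  · intro v hv
    have h1 := htan P hP ((hθmem P _ v).1 hv)
    have h2 : θ P v ∈ (Submodule.span (X.presheaf.stalk P)
        {v | ∃ c : Fin (n + 1) → k, v = Groth.L18.CIC.secGerm (X ↘ Spec (CommRingCat.of k)) r P c ∧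
          v ∈ maximalIdeal (X.presheaf.stalk P) • (⊤ : Submodule (X.presheaf.stalk P) (Groth.L18.CIC.MS r P))} ⊔
        maximalIdeal (X.presheaf.stalk P) ^ 2 • (⊤ : Submodule (X.presheaf.stalk P) (Groth.L18.CIC.MS r P))).map
          (θ P).toLinearMap := by
      rw [Submodule.map_sup, Submodule.map_span, hθmap]
      obtain ⟨a, ha, b, hb, hab⟩ := Submodule.mem_sup.1 h1
      refine Submodule.mem_sup.2 ⟨a, Submodule.span_mono ?_ ha, b, hb, hab⟩
      rintro w ⟨⟨s, rfl⟩, hw⟩
      obtain ⟨c, rfl⟩ := hspan s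
      exact ⟨_, ⟨c, rfl, (hθmem P _ _).2 (by rw [hθs P c]; exact hw)⟩, hθs P c⟩
    obtain ⟨w, hw, hwv⟩ := h2
    exact (θ P).injective hwv ▸ hw

/-- The sections of a very ample module generate and separate. -/
theorem exists_gen_of_closedImmersion [Smooth (X ↘ Spec (CommRingCat.of k))] (hd : topologicalKrullDim X = 1)
    (hL : PicF.IsInvertible L) {n : ℕ} (r : X ⟶ Groth.L18.PUP.P n k)
    [IsClosedImmersion r] (hr : r ≫ Groth.L18.PUP.pr n k = X ↘ Spec (CommRingCat.of k))
    (τ : (Scheme.Modules.pullback r).obj (Groth.L18.PUP.O1 n k) ≅ L) :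
    (∀ (P : X), IsClosed ({P} : Set X) → ∃ φ : Coh.structureModule X ⟶ L, Function.Surjective (st φ P)) ∧
    ∀ (P Q : X) (hP : IsClosed ({P} : Set X)), IsClosed ({Q} : Set X) →
      ∃ ψ : Coh.structureModule X ⟶ CohB1.tensorMod L (ptI P hP), Function.Surjective (st ψ Q) := by
  classical
  let pX := X ↘ Spec (CommRingCat.of k)
  let M₁ := (Scheme.Modules.pullback r).obj (Groth.L18.PUP.O1 n k)
  let θ : ∀ x : X, M₁.presheaf.stalk x ≃ₗ[X.presheaf.stalk x] L.presheaf.stalk x := fun x =>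
    ((Groth.L00.Stk.F X x).mapIso τ).toLinearEquiv
  have hθmap : ∀ (x : X) (J : Ideal (X.presheaf.stalk x)),
      (J • (⊤ : Submodule (X.presheaf.stalk x) (M₁.presheaf.stalk x))).map (θ x).toLinearMap =
        J • (⊤ : Submodule (X.presheaf.stalk x) (L.presheaf.stalk x)) := fun x J => by
    rw [Submodule.map_smul'', Submodule.map_top, LinearEquiv.range]
  have hθmem : ∀ (x : X) (J : Ideal (X.presheaf.stalk x)) (v : M₁.presheaf.stalk x),
      v ∈ J • (⊤ : Submodule (X.presheaf.stalk x) (M₁.presheaf.stalk x)) ↔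
        θ x v ∈ J • (⊤ : Submodule (X.presheaf.stalk x) (L.presheaf.stalk x)) := fun x J v => by
    rw [← hθmap x J, ← LinearEquiv.coe_toLinearMap (θ x)]
    exact ⟨fun h => Submodule.mem_map_of_mem h, fun ⟨w, hw, hwv⟩ => (θ x).injective hwv ▸ hw⟩
  have hφ : ∀ c : Fin (n + 1) → k, ∃ φ : Coh.structureModule X ⟶ L,
      ∀ x : X, st φ x (one X x) = θ x (Groth.L18.CIC.secGerm pX r x c) := fun c => by
    refine ⟨Groth.L16.homOfSection L (∑ j, ProjUP.toGlobal pX (c j) • τ.hom.app ⊤ (Groth.L18.PUP.rT r j)), fun x => ?_⟩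
    rw [st_one_top, app_homOfSection_one]
    refine ((st_germ τ.hom (U := ⊤) trivial _).trans ?_).symm
    refine congrArg _ ?_
    rw [map_sum]
    exact Finset.sum_congr rfl fun j _ => Scheme.Modules.Hom.app_smul _ _ _
  refine ⟨fun P hP => ?_, fun P Q hP hQ => ?_⟩
  · obtain ⟨i, hi⟩ := Opens.mem_iSup.mp
      ((Groth.L18.PS.iSup_chart (n := n) (R := k)).ge (trivial : r.base P ∈ (⊤ : (Groth.L18.PUP.P n k).Opens)))
    obtain ⟨φ, hφc⟩ := hφ (Pi.single i 1)
    refine ⟨φ, (surjective_st_iff_not_mem hL φ P).2 ?_⟩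
    rw [hφc, ← hθmem, Groth.L18.CIC.secGerm_mem_iff pX r hr P i hi, Groth.L18.CIC.lin_single,
      Groth.L18.CIC.cc_self, map_one]
    exact fun h => (maximalIdeal.isMaximal _).ne_top ((Ideal.eq_top_iff_one _).2 h)
  · have hι := isMinusPt_twι hL hP
    have hMinv := (twist_point k hd hL hP).1
    by_cases hPQ : Q = P
    · subst hPQ
      by_contra hall
      push Not at hall
      have hM : ∀ v : (CohB1.tensorMod L (ptI Q hP)).presheaf.stalk Q,
          v ∈ maximalIdeal (X.presheaf.stalk Q) •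
            (⊤ : Submodule (X.presheaf.stalk Q) ((CohB1.tensorMod L (ptI Q hP)).presheaf.stalk Q)) := fun v => by
        have htan := Groth.L18.CIC.tan_of_isClosedImmersion pX r hr Q hP
        have hle := Submodule.map_mono (f := (θ Q).toLinearMap) htan
        rw [Submodule.map_sup, Submodule.map_span, hθmap, hθmap] at hle
        have hle2 : maximalIdeal (X.presheaf.stalk Q) • (⊤ : Submodule (X.presheaf.stalk Q) (L.presheaf.stalk Q)) ≤
            (maximalIdeal (X.presheaf.stalk Q) •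
              (⊤ : Submodule (X.presheaf.stalk Q) ((CohB1.tensorMod L (ptI Q hP)).presheaf.stalk Q))).map
              (st (twι L (Scheme.IdealSheafData.vanishingIdeal ⟨{Q}, hP⟩)) Q) := by
          refine hle.trans (sup_le (Submodule.span_le.2 ?_) ?_)
          · rintro _ ⟨w, ⟨c, rfl, hw⟩, rfl⟩
            obtain ⟨φ, hφc⟩ := hφ c
            have h1 : ¬ Function.Surjective (st φ Q) := fun hs => (surjective_st_iff_not_mem hL φ Q).1 hs (by
              rw [hφc]; exact (hθmem Q _ _).1 hw)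
            obtain ⟨ψ, rfl⟩ := hι.exists_lift_section hL φ h1
            refine ⟨st ψ Q (one X Q), ?_, ?_⟩
            · obtain ⟨e, he⟩ := exists_frame_stalk hMinv Q
              obtain ⟨a, ha⟩ := he.2 (st ψ Q (one X Q))
              rw [← ha]
              refine Submodule.smul_mem_smul ((IsLocalRing.mem_maximalIdeal a).2 fun hu => hall ψ ?_) Submodule.mem_top
              exact (surjective_st_iff he ψ ha).2 hu
            · exact (st_comp ψ _ Q _).symm.trans (hφc Q)
          · rw [Submodule.map_smul'', Submodule.map_top, pow_two, Submodule.mul_smul]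
            exact Submodule.smul_mono le_rfl fun w hw => (hι.range_iff w).2 hw
        obtain ⟨u', hu', huv⟩ := hle2 ((hι.range_iff _).1 ⟨v, rfl⟩)
        haveI := hι.mono
        exact (Groth.L21.Mod.mono_iff_stalk_injective _).1 inferInstance Q huv ▸ hu'
      exact smul_top_ne_top hMinv Q fun v _ => hM v
    · obtain ⟨c, hcP, hcQ⟩ := Groth.L18.CIC.sep_of_isClosedImmersion pX r hr P Q hP hQ (Ne.symm hPQ)
      obtain ⟨φ, hφc⟩ := hφ c
      have h1 : ¬ Function.Surjective (st φ P) := fun hs => (surjective_st_iff_not_mem hL φ P).1 hs (by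
        rw [hφc]; exact (hθmem P _ _).1 hcP)
      obtain ⟨ψ, rfl⟩ := hι.exists_lift_section hL φ h1
      refine ⟨ψ, (hι.surjective_comp_iff hPQ ψ).1 ((surjective_st_iff_not_mem hL _ Q).2 ?_)⟩
      rw [hφc, ← hθmem]
      exact hcQ

variable [Smooth (X ↘ Spec (CommRingCat.of k))]

omit [IsAlgClosed k] in
theorem isGloballyGenerated_iff_drop [IsAlgClosed k] (hd : topologicalKrullDim X = 1) (hL : PicF.IsInvertible L) :
    Curv2.IsGloballyGenerated L ↔
      ∀ (P : X) (hP : IsClosed ({P} : Set X)), h k 0 (CohB1.tensorMod L (ptI P hP)) + 1 = h k 0 L := by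
  haveI := isNoetherian_of_proper (X := X) k
  rw [isGloballyGenerated_iff hL]
  exact forall₂_congr fun P hP => (twist_point k hd hL hP).2.2.2.2.2.symm

/-- The invariants of `L(-P-Q)`. -/
theorem twist_two_points (hd : topologicalKrullDim X = 1) (hL : PicF.IsInvertible L) {P Q : X}
    (hP : IsClosed ({P} : Set X)) (hQ : IsClosed ({Q} : Set X)) :
    PicF.IsInvertible (CohB1.tensorMod L (CohB1.tensorMod (ptI P hP) (ptI Q hQ))) ∧
      Curv2.euler k X (CohB1.tensorMod L (CohB1.tensorMod (ptI P hP) (ptI Q hQ))) = Curv2.euler k X L - 2 ∧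
      Curv2.deg k X (CohB1.tensorMod L (CohB1.tensorMod (ptI P hP) (ptI Q hQ))) 1 = Curv2.deg k X L 1 - 2 ∧
      h k 0 L ≤ h k 0 (CohB1.tensorMod L (CohB1.tensorMod (ptI P hP) (ptI Q hQ))) + 2 ∧
      (h k 0 (CohB1.tensorMod L (CohB1.tensorMod (ptI P hP) (ptI Q hQ))) + 2 = h k 0 L ↔
        (∃ φ : Coh.structureModule X ⟶ L, Function.Surjective (st φ P)) ∧
          ∃ ψ : Coh.structureModule X ⟶ CohB1.tensorMod L (ptI P hP), Function.Surjective (st ψ Q)) := by
  let i := Groth.L00.Tensor.tensorAssoc L (ptI P hP) (ptI Q hQ)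
  obtain ⟨hM, heM, hdM, -, hleM, hiM⟩ := twist_point k hd hL hP
  obtain ⟨hN, heN, hdN, -, hleN, hiN⟩ := twist_point k hd hM hQ
  have he : Curv2.euler k X (CohB1.tensorMod L (CohB1.tensorMod (ptI P hP) (ptI Q hQ))) = Curv2.euler k X L - 2 := by
    rw [← euler_congr k i, heN, heM]; ring
  rw [← h_congr k i 0]
  refine ⟨Groth.L18.Ample.isInvertible_of_iso i hN, he, by rw [Curv2.deg, Curv2.deg, he]; ring, by omega, ?_⟩
  rw [← hiM, ← hiN]
  omega

/-- Very ampleness through the drop of sections at pairs of points. -/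
theorem veryAmple_iff (hd : topologicalKrullDim X = 1) (hL : PicF.IsInvertible L) :
    (∃ (n : ℕ) (r : X ⟶ Groth.L18.PUP.P n k), IsClosedImmersion r ∧
      r ≫ Groth.L18.PUP.pr n k = X ↘ Spec (CommRingCat.of k) ∧
      Nonempty ((Scheme.Modules.pullback r).obj (Groth.L18.PUP.O1 n k) ≅ L)) ↔
    ∀ (P Q : X) (hP : IsClosed ({P} : Set X)) (hQ : IsClosed ({Q} : Set X)),
      h k 0 (CohB1.tensorMod L (CohB1.tensorMod (ptI P hP) (ptI Q hQ))) + 2 = h k 0 L := by
  haveI := isNoetherian_of_proper (X := X) k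
  constructor
  · rintro ⟨n, r, hrc, hr, ⟨τ⟩⟩ P Q hP hQ
    obtain ⟨hg, hs⟩ := exists_gen_of_closedImmersion k hd hL r hr τ
    exact (twist_two_points k hd hL hP hQ).2.2.2.2.mpr ⟨hg P hP, hs P Q hP hQ⟩
  · intro hD
    have hD' := fun P Q hP hQ => (twist_two_points k hd hL (P := P) (Q := Q) hP hQ).2.2.2.2.mp (hD P Q hP hQ)
    obtain ⟨P₀, hP₀, -⟩ := exists_closed_specialization (genericPoint X)
    refine exists_closedImmersion_of_sep_tan k hL (by have := hD P₀ P₀ hP₀ hP₀; omega)
      (fun P hP => (hD' P P hP hP).1) (fun P Q hP hQ hne => ?_) fun P hP => ?_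
    · obtain ⟨ψ, hψ⟩ := (hD' P Q hP hQ).2
      have hι := isMinusPt_twι hL hP
      refine ⟨(ψ ≫ twι L _).app ⊤ (oneSec X), ?_, ?_⟩ <;> rw [← st_one_top]
      · by_contra hn
        exact hι.not_surjective_comp hL ψ ((surjective_st_iff_not_mem hL _ P).2 hn)
      · exact (surjective_st_iff_not_mem hL _ Q).1 ((hι.surjective_comp_iff (Ne.symm hne) ψ).2 hψ)
    · intro v hv
      obtain ⟨ψ, hψ⟩ := (hD' P P hP hP).2
      have hι := isMinusPt_twι hL hP
      obtain ⟨w, rfl⟩ := (hι.range_iff v).2 hv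
      obtain ⟨a, rfl⟩ := hψ w
      obtain ⟨b, rfl⟩ := (bijective_smul_one P).2 a
      refine Submodule.mem_sup_left ?_
      show st (twι L _) P (st ψ P (b • one X P)) ∈ _
      rw [map_smul, map_smul, ← st_comp, st_one_top]
      refine Submodule.smul_mem _ _ (Submodule.subset_span ⟨⟨_, rfl⟩, ?_⟩)
      rw [← st_one_top]
      refine (hι.range_iff _).1 ⟨st ψ P (one X P), (st_comp ψ _ P _).symm⟩

end Groth.L21.RR
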