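import Groth.Agent.L21.RR.PointPow
import Groth.Agent.L21.RR.VeryAmpleIff
import Groth.Agent.L21.Duality.Deg
import Groth.Agent.L08.Cube.Inverse

/-!
Riemann-Roch for multiples of a regular rational point on an integral curve of arithmetic genus one.
-/

set_option autoImplicit false
set_option backward.isDefEq.respectTransparency false
set_option linter.style.haveILetI false
universe u

open CategoryTheory CategoryTheory.Limits AlgebraicGeometry TopologicalSpace Opposite IsLocalRing

noncomputable section

namespace Groth.L21.RR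

attribute [local instance] Curv2.resAlgebra

variable (k : Type u) [Field k] {X : Scheme.{u}} [IsIntegral X] [X.Over (Spec (CommRingCat.of k))]
  [IsProper (X ↘ Spec (CommRingCat.of k))]

theorem finrank_residueField_of_surjective {P : X} (hrat : Function.Surjective (Curv2.resMap k X P)) :
    Module.finrank k (X.residueField P) = 1 :=
  (LinearEquiv.ofBijective (Algebra.linearMap k (X.residueField P))
    ⟨(Curv2.resMap k X P).injective, hrat⟩).finrank_eq.symm.trans (Module.finrank_self k)

/-- A curve with a rational point has no non-constant functions. -/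
theorem h0_eq_one_of_rational {P : X} (hrat : Function.Surjective (Curv2.resMap k X P)) :
    h k 0 (Coh.structureModule X) = 1 := by
  letI := (isField_of_universallyClosed k (X ↘ Spec (CommRingCat.of k))).toField
  let χ : Γ(X, ⊤) →+* X.residueField P := (X.residue P).hom.comp (X.presheaf.germ ⊤ P trivial).hom
  have hne : (e0 (Coh.structureModule X)).symm (oneSec X) ≠ 0 := fun h => by
    have h1 : oneSec X = 0 := (e0 _).symm.injective (h.trans (map_zero _).symm)
    haveI : Nonempty ((⊤ : X.Opens) : Scheme) := ⟨⟨genericPoint X, trivial⟩⟩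
    exact one_ne_zero (α := Γ(X, ⊤)) h1
  refine finrank_eq_one _ hne fun w => ?_
  obtain ⟨c, hc⟩ := hrat (χ (show Γ(X, ⊤) from e0 (Coh.structureModule X) w))
  have hc' : Coh.toGlobal (X ↘ Spec (CommRingCat.of k)) c = (show Γ(X, ⊤) from e0 (Coh.structureModule X) w) :=
    χ.injective hc
  refine ⟨c, (e0 (Coh.structureModule X)).injective ?_⟩
  rw [e0_smul, AddEquiv.apply_symm_apply]
  exact (mul_one (M := Γ(X, ⊤)) _).trans hc'

/-- Multiples of a regular rational point in genus one. -/
theorem genus_one_point (hd : topologicalKrullDim X = 1) (hpa : Curv2.euler k X (Coh.structureModule X) = 0)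
    {P : X} (hP : IsClosed ({P} : Set X)) (hrat : Function.Surjective (Curv2.resMap k X P))
    (hreg : IsRegularLocalRing (X.presheaf.stalk P)) (n : ℕ) (L : X.Modules)
    (hL : Nonempty (CohB1.tensorMod L (ClSub.idealMod (Scheme.IdealSheafData.vanishingIdeal ⟨{P}, hP⟩ ^ n)) ≅
      Coh.structureModule X)) :
    h k 0 (Coh.structureModule X) = 1 ∧ h k 1 (Coh.structureModule X) = 1 ∧
      (1 ≤ n → h k 0 L = n ∧ Subsingleton (Coh.HH X L 1)) ∧ (2 ≤ n → Curv2.IsGloballyGenerated L) := by
  haveI := isNoetherian_of_proper (X := X) k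
  have h0 := h0_eq_one_of_rational k hrat
  have hres := finrank_residueField_of_surjective k hrat
  have hpa' := hpa
  rw [euler_eq k hd.le, h0] at hpa'
  have h1 : h k 1 (Coh.structureModule X) = 1 := by push_cast at hpa'; omega
  obtain ⟨e⟩ := hL
  obtain ⟨hJ, heJ⟩ := idealMod_point_pow k hd hP hreg n
  set I := Scheme.IdealSheafData.vanishingIdeal (⟨{P}, hP⟩ : Closeds X)
  have hLi : PicF.IsInvertible L := by
    obtain ⟨J', hJ', ⟨i⟩⟩ := Groth.L08.Cube.exists_inverse hJ
    refine Groth.L18.Ample.isInvertible_of_iso ?_ hJ'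
    exact (Groth.L00.Tensor.tensorUnitLeft J').symm ≪≫ Groth.L00.Tensor.tensorIso e.symm (Iso.refl J') ≪≫
      Groth.L00.Tensor.tensorAssoc L (ClSub.idealMod (I ^ n)) J' ≪≫ Groth.L00.Tensor.tensorIso (Iso.refl L) i ≪≫
      Groth.L00.Tensor.tensorUnitRight L
  have hsum := Groth.L21.Duality.deg_tensor (k := k) hd hLi hJ
  simp only [Curv2.deg, euler_congr k e, hpa, heJ, hres] at hsum
  have heL : Curv2.euler k X L = n := by push_cast at hsum; linarith
  refine ⟨h0, h1, fun hn => ?_, fun hn => ?_⟩
  · have hsub : Subsingleton (Coh.HH X L 1) := by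
      by_contra hns
      haveI := not_subsingleton_iff_nontrivial.1 hns
      haveI := finite_HH' k (Groth.L16.ProperFinite.isCoh_of_isInvertible hLi) 1
      have hpos : 1 ≤ h k 1 L := Module.finrank_pos
      have hle := h0_le_genus k hd.le (Groth.L16.ProperFinite.isCoh_of_isInvertible hLi)
        (fun φ hφ => suppClosed_cokernel hd.le hLi hφ) inferInstance
      rw [euler_eq k hd.le] at heL
      omega
    have h10 := h_eq_zero_of_subsingleton k hsub
    rw [euler_eq k hd.le, h10] at heL
    exact ⟨by push_cast at heL; omega, hsub⟩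
  · refine (isGloballyGenerated_iff hLi).2 fun q hq => ?_
    by_cases hqP : q = P
    · subst hqP
      obtain ⟨α, hα, hα0⟩ := exists_value hLi q
      obtain ⟨s, hs⟩ := exists_section_point α k hd.le hLi (𝟙 L) (Groth.L16.ProperFinite.isCoh_of_isInvertible hLi)
        hP hα (by rw [hres, h1, heL]; omega)
      obtain ⟨φ, hφ⟩ := exists_hom_secOf (X := X) s
      refine ⟨φ, (surjective_st_iff_not_mem hLi φ q).2 fun hmem => hs ((hα0 _).2 ?_)⟩
      rw [st_one_top, ← secOf_eq, hφ] at hmem
      exact hmem
    · refine ⟨e.inv ≫ twι L (I ^ n), ?_⟩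
      have hsupp : q ∉ ((I ^ n).support : Set X) := by
        rw [Scheme.IdealSheafData.support_pow _ n (by omega), Groth.L18.support_vanishingIdeal]
        exact hqP
      have h2 : Function.Surjective (st (twι L (I ^ n)) q) := fun v => by
        obtain ⟨b, hb⟩ := exists_frame_stalk hLi q
        haveI := subsingleton_stalk_quotMod _ hsupp
        haveI := (tensorStalkEquiv (L := L) (ClSub.quotMod (I ^ n)) hb).toEquiv.subsingleton
        exact (ShortComplex.moduleCat_exact_iff _).1
          ((shortExact_tw (I ^ n) hLi).exact.map (Groth.L00.Stk.F X q)) v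
            (show st (twπ L (I ^ n)) q v = 0 from Subsingleton.elim _ _)
      exact fun v => by
        obtain ⟨w, rfl⟩ := h2 v
        obtain ⟨r, rfl⟩ := (Groth.L21.Mod.epi_iff_stalk_surjective e.inv).1 inferInstance q w
        exact ⟨r, st_comp _ _ _ _⟩

end Groth.L21.RR
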