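import Groth.Agent.L21.RR.VeryAmpleField
import Groth.Agent.L21.RR.Finite
import Mathlib.RingTheory.Artinian.Module
import Mathlib.AlgebraicGeometry.Morphisms.Flat

/-!
An invertible module which becomes trivial over a field extension is trivial when the ring of global
functions is finite over the field.
-/

set_option autoImplicit false
set_option backward.isDefEq.respectTransparency false
set_option linter.style.haveILetI false
universe u

open CategoryTheory CategoryTheory.Limits AlgebraicGeometry TopologicalSpace Opposite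

noncomputable section

namespace Groth.L21.PicExt

open Groth.L18.Frame (rs ro pull rs_rs rs_self rs_smul IsFrame)

section Span

variable {k : Type u} [Field k] {X : Scheme.{u}} [X.Over (Spec (CommRingCat.of k))]
  [CompactSpace X] [QuasiSeparatedSpace X]
  {K : Type u} [Field K] [Algebra k K] {Y : Scheme.{u}} [Y.Over (Spec (CommRingCat.of K))] (g : Y ⟶ X)
  (sq : IsPullback g (Y ↘ Spec (CommRingCat.of K)) (X ↘ Spec (CommRingCat.of k))
    (Spec.map (CommRingCat.ofHom (algebraMap k K))))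
  {L : X.Modules} [Coh.IsQCoh L]

include sq in
/-- Global sections after a field extension are finite combinations of pulled back ones. -/
theorem exists_sum_pullSec (t : Γ((Scheme.Modules.pullback g).obj L, ⊤)) :
    ∃ (n : ℕ) (S : Fin n → Γ(L, ⊤)) (c : Fin n → K),
      t = ∑ j, ProjUP.toGlobal (Y ↘ Spec (CommRingCat.of K)) (c j) • ProjUP.pullSec g L (S j) := by
  let q := Spec.map (CommRingCat.ofHom (algebraMap k K))
  have eV : (⊤ : (Spec (CommRingCat.of K)).Opens) ≤ q ⁻¹ᵁ ⊤ := le_top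
  letI alg : Algebra Γ(Spec (CommRingCat.of k), ⊤) Γ(Spec (CommRingCat.of K), ⊤) :=
    (q.appLE ⊤ ⊤ eV).hom.toAlgebra
  haveI : Flat q := by
    rw [HasRingHomProperty.Spec_iff (P := @Flat)]
    exact RingHom.flat_algebraMap_iff.2 inferInstance
  have hflat : Module.Flat Γ(Spec (CommRingCat.of k), ⊤) Γ(Spec (CommRingCat.of K), ⊤) := by
    have h := q.flat_appLE (isAffineOpen_top _) (isAffineOpen_top _) eV
    exact RingHom.flat_algebraMap_iff.1 h
  have key : ∀ U : X.Opens, IsCompact (U : Set X) →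
      Groth.L17.DegZero.Good (X ↘ Spec (CommRingCat.of k)) q g (Y ↘ Spec (CommRingCat.of K)) sq.w L eV alg rfl U :=
    fun U hU => Groth.L17.SchemeTheta.qc_induction _
      (fun W hW => Groth.L17.DegZero.good_affine _ _ _ _ sq.w L eV alg rfl sq (isAffineOpen_top _)
        (isAffineOpen_top _) hW)
      (fun U₁ U₂ a b c => Groth.L17.DegZero.good_sup _ _ _ _ sq.w L eV alg rfl hflat a b c) hU
  have heq : ∀ (W' : Y.Opens) (a : W' ≤ g ⁻¹ᵁ ⊤) (b : W' ≤ (Y ↘ Spec (CommRingCat.of K)) ⁻¹ᵁ ⊤), W' = ⊤ →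
      Function.Bijective (Groth.L17.DegZero.β (X ↘ Spec (CommRingCat.of k)) q g (Y ↘ Spec (CommRingCat.of K))
        sq.w L eV alg rfl (W := ⊤) le_top W' a b) →
      Function.Bijective (Groth.L17.DegZero.β (X ↘ Spec (CommRingCat.of k)) q g (Y ↘ Spec (CommRingCat.of K))
        sq.w L eV alg rfl (W := ⊤) le_top (⊤ : Y.Opens) le_top le_top) := by
    rintro W' a b rfl hb
    exact hb
  obtain ⟨z, hz⟩ := (heq _ _ _ (top_le_iff.1 (le_inf le_top le_top)) (key ⊤ isCompact_univ le_top)).2 t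
  subst hz
  induction z using TensorProduct.induction_on with
  | zero => exact ⟨0, Fin.elim0, Fin.elim0, by simp⟩
  | add a b ha hb =>
    obtain ⟨n, S, c, hc⟩ := ha
    obtain ⟨m, T, d, hd⟩ := hb
    refine ⟨n + m, Fin.append S T, Fin.append c d, ?_⟩
    rw [map_add, hc, hd, Fin.sum_univ_add]
    simp
  | tmul a m =>
    refine ⟨1, fun _ => m, fun _ => (Scheme.ΓSpecIso (CommRingCat.of K)).hom a, ?_⟩
    rw [Groth.L17.DegZero.β_tmul, Groth.L18.Frame.rs_self, Fin.sum_univ_one]
    have happ : (Y ↘ Spec (CommRingCat.of K)).appLE ⊤ ⊤ le_top a = (Y ↘ Spec (CommRingCat.of K)).app ⊤ a := by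
      rw [Scheme.Hom.app_eq_appLE]; rfl
    rw [happ]
    have ha : (Y ↘ Spec (CommRingCat.of K)).app ⊤ a =
        ProjUP.toGlobal (Y ↘ Spec (CommRingCat.of K)) ((Scheme.ΓSpecIso (CommRingCat.of K)).hom a) :=
      congrArg _ (congr($((Scheme.ΓSpecIso (CommRingCat.of K)).hom_inv_id) a)).symm
    rw [ha]
    rfl

end Span

variable {X : Scheme.{u}}

/-- The open where a section is a frame. -/
def fl (L : X.Modules) (s : Γ(L, ⊤)) : X.Opens :=
  ⨆ W : {W : X.Opens // IsFrame L W (rs L le_top s)}, W.1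

theorem isFrame_fl (L : X.Modules) (s : Γ(L, ⊤)) : IsFrame L (fl L s) (rs L le_top s) :=
  IsFrame.of_cover (fun W : {W : X.Opens // IsFrame L W (rs L le_top s)} => W.1) (fun W => le_iSup (fun W => W.1) W) le_rfl
    fun W => by rw [rs_rs]; exact W.2

theorem mem_fl {L : X.Modules} {s : Γ(L, ⊤)} {W : X.Opens} (h : IsFrame L W (rs L le_top s)) {x : X} (hx : x ∈ W) :
    x ∈ fl L s := Opens.mem_iSup.2 ⟨⟨W, h⟩, hx⟩

theorem mem_fl_of_pullback {Y : Scheme.{u}} (g : Y ⟶ X) {L : X.Modules} (hL : PicF.IsInvertible L) (s : Γ(L, ⊤))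
    {y : Y} (h : y ∈ fl ((Scheme.Modules.pullback g).obj L) (ProjUP.pullSec g L s)) : g y ∈ fl L s := by
  obtain ⟨⟨W', hfr⟩, hyW'⟩ := Opens.mem_iSup.1 h
  obtain ⟨W, e, hxW, he⟩ := Groth.L18.Frame.exists_frame hL (g y)
  obtain ⟨a, ha⟩ := he.exists_coeff le_rfl (rs L (le_top : W ≤ ⊤) s)
  rw [rs_self] at ha
  have hle₁ : g ⁻¹ᵁ W ⊓ W' ≤ g ⁻¹ᵁ W := inf_le_left
  have hle₂ : g ⁻¹ᵁ W ⊓ W' ≤ W' := inf_le_right
  have h1 : ro hle₁ (g.app W a) • rs ((Scheme.Modules.pullback g).obj L) hle₁ (pull g L W e) =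
      rs ((Scheme.Modules.pullback g).obj L) hle₂
        (rs ((Scheme.Modules.pullback g).obj L) le_top (ProjUP.pullSec g L s)) := by
    rw [← rs_smul, ← Groth.L18.Frame.pull_smul, ha, ← Groth.L18.Frame.pull_rs, rs_rs, rs_rs]
    rfl
  have h2 := hfr.mono hle₂
  rw [← h1] at h2
  have hu : IsUnit (ro hle₁ (g.app W a)) := Groth.L18.Frame.isUnit_of_isFrame ((he.pullback g L).mono hle₁) h2
  have hy : g y ∈ X.basicOpen a := by
    have h3 := Y.basicOpen_of_isUnit hu
    have h4 : y ∈ Y.basicOpen (g.app W a) := by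
      have : y ∈ g ⁻¹ᵁ W ⊓ W' := ⟨hxW, hyW'⟩
      rw [← h3, Scheme.basicOpen_res] at this
      exact this.2
    rw [← Scheme.preimage_basicOpen] at h4
    exact h4
  refine mem_fl (W := X.basicOpen a) ?_ hy
  have h5 := (he.mono (X.basicOpen_le a)).smul_unit (a := ro (X.basicOpen_le a) a) (RingedSpace.isUnit_res_basicOpen _ a)
  rw [← rs_smul, ha, rs_rs] at h5
  exact h5

theorem mem_fl_pullback {Y : Scheme.{u}} (g : Y ⟶ X) {L : X.Modules} (s : Γ(L, ⊤))
    {y : Y} (h : g y ∈ fl L s) : y ∈ fl ((Scheme.Modules.pullback g).obj L) (ProjUP.pullSec g L s) := by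
  refine mem_fl (W := g ⁻¹ᵁ fl L s) ?_ h
  have := (isFrame_fl L s).pullback g L
  rw [← Groth.L18.Frame.pull_rs] at this
  exact this

theorem fl_smul {M : X.Modules} {t : Γ(M, ⊤)} (ht : IsFrame M ⊤ t) (a : Γ(X, ⊤)) :
    fl M (a • t) = X.basicOpen a := by
  refine le_antisymm ?_ ?_
  · intro x hx
    have h1 := isFrame_fl M (a • t)
    rw [rs_smul] at h1
    have hu := Groth.L18.Frame.isUnit_of_isFrame (ht.mono le_top) h1
    rw [X.mem_basicOpen a x (trivial : x ∈ (⊤ : X.Opens)), ← X.presheaf.germ_res_apply (homOfLE (le_top : fl M (a • t) ≤ ⊤)) x hx a]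
    exact hu.map (X.presheaf.germ _ x hx).hom
  · intro x hx
    refine mem_fl (W := X.basicOpen a) ?_ hx
    rw [rs_smul]
    exact (ht.mono le_top).smul_unit (RingedSpace.isUnit_res_basicOpen _ a)

theorem mem_bo (a : Γ(X, ⊤)) (x : X) : x ∈ X.basicOpen a ↔ IsUnit (X.presheaf.germ ⊤ x trivial a) :=
  X.mem_basicOpen a x trivial

theorem isOpen_compl_basicOpen {a b : Γ(X, ⊤)} {N : ℕ} (h : a ^ (N + 1) * b = a ^ N) :
    IsOpen ((X.basicOpen a : Set X)ᶜ) := by
  have h' : (X.basicOpen a : Set X)ᶜ = (X.basicOpen (1 - a * b) : Set X) := by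
    ext x
    simp only [Set.mem_compl_iff, SetLike.mem_coe, mem_bo]
    let φ := (X.presheaf.germ ⊤ x trivial).hom
    constructor
    · intro ha
      rcases IsLocalRing.isUnit_or_isUnit_one_sub_self (φ a * φ b) with hu | hu
      · exact absurd (isUnit_of_mul_isUnit_left hu) ha
      · simpa [φ] using hu
    · intro h1 ha
      have h2 : φ a ^ N * φ (1 - a * b) = 0 := by
        rw [← map_pow, ← map_mul, mul_sub, mul_one, ← mul_assoc, ← pow_succ, h, sub_self, map_zero]
      rw [(ha.pow N).mul_right_eq_zero] at h2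
      exact h1.ne_zero h2
  rw [h']
  exact (X.basicOpen (1 - a * b)).2

/-- A finite clopen cover by frame loci gives a global frame. -/
theorem exists_frame_of_clopen {L : X.Modules} {n : ℕ} (S : Fin n → Γ(L, ⊤))
    (hclosed : ∀ i, IsOpen ((fl L (S i) : Set X)ᶜ)) (hcov : ∀ x, ∃ i, x ∈ fl L (S i)) :
    ∃ s : Γ(L, ⊤), IsFrame L ⊤ s := by
  classical
  let V : Fin n → X.Opens := fun i => ⟨(fl L (S i) : Set X) ∩ ⋂ l : {l : Fin n // l < i}, (fl L (S l.1) : Set X)ᶜ,
    (fl L (S i)).2.inter (isOpen_iInter_of_finite fun l => hclosed l.1)⟩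
  have hV : ∀ i, V i ≤ fl L (S i) := fun i x hx => hx.1
  have hdisj : ∀ i l, i ≠ l → V i ⊓ V l ≤ ⊥ := fun i l hne x hx => by
    rcases lt_or_gt_of_ne hne with h | h
    · exact absurd hx.1.1 (Set.mem_iInter.1 hx.2.2 ⟨i, h⟩)
    · exact absurd hx.2.1 (Set.mem_iInter.1 hx.1.2 ⟨l, h⟩)
  have hc : (⊤ : X.Opens) ≤ ⨆ i, V i := fun x _ => by
    have hne : (Finset.univ.filter fun i => x ∈ fl L (S i)).Nonempty := by
      obtain ⟨i, hi⟩ := hcov x
      exact ⟨i, by simp [hi]⟩
    obtain ⟨i, hi⟩ : ∃ i, i = (Finset.univ.filter fun i => x ∈ fl L (S i)).min' hne := ⟨_, rfl⟩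
    have hmem := Finset.min'_mem _ hne
    rw [← hi, Finset.mem_filter] at hmem
    refine Opens.mem_iSup.2 ⟨i, hmem.2, Set.mem_iInter.2 fun l hl => ?_⟩
    have := Finset.min'_le (Finset.univ.filter fun i => x ∈ fl L (S i)) l.1 (by
      rw [Finset.mem_filter]; exact ⟨Finset.mem_univ _, hl⟩)
    rw [← hi] at this
    exact absurd l.2 (not_lt.2 this)
  let OM : TopCat.Sheaf Ab.{u} X.toTopCat := ⟨L.presheaf, L.isSheaf⟩
  obtain ⟨s, hs, -⟩ := OM.existsUnique_gluing' V ⊤ (fun i => homOfLE le_top) hc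
    (fun i => rs L le_top (S i)) fun i l => by
      show rs L inf_le_left (rs L le_top (S i)) = rs L inf_le_right (rs L le_top (S l))
      rw [rs_rs, rs_rs]
      by_cases hil : i = l
      · rw [hil]
      · refine OM.eq_of_locally_eq' (fun e : PEmpty.{1} => (⊥ : X.Opens)) _ (fun e => e.elim)
          (fun x hx => absurd (hdisj i l hil hx) (by simp)) _ _ fun e => e.elim
  refine ⟨s, IsFrame.of_cover V (fun i => le_top) hc fun i => ?_⟩
  rw [show rs L (le_top : V i ≤ ⊤) s = rs L le_top (S i) from hs i, ← rs_rs L le_top (hV i)]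
  exact (isFrame_fl L (S i)).mono (hV i)

theorem nonempty_iso_of_isFrame_top {L : X.Modules} {s : Γ(L, ⊤)} (hs : IsFrame L ⊤ s) :
    Nonempty (Coh.structureModule X ≅ L) :=
  ⟨@asIso _ _ _ _ (Groth.L16.homOfSection L s) (Groth.L16.isIso_homOfSection _ _ fun V => hs V le_top)⟩

section Main

variable {k : Type u} [Field k] [X.Over (Spec (CommRingCat.of k))] [CompactSpace X] [QuasiSeparatedSpace X]
  {K : Type u} [Field K] [Algebra k K] {Y : Scheme.{u}} [Y.Over (Spec (CommRingCat.of K))] (g : Y ⟶ X)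
  (sq : IsPullback g (Y ↘ Spec (CommRingCat.of K)) (X ↘ Spec (CommRingCat.of k))
    (Spec.map (CommRingCat.ofHom (algebraMap k K))))

include sq in
theorem exists_pow_eq (hfin : Module.Finite k (Coh.HH X (Coh.structureModule X) 0)) (a : Γ(Y, ⊤)) :
    ∃ (N : ℕ) (b : Γ(Y, ⊤)), a ^ (N + 1) * b = a ^ N := by
  haveI := Groth.L21.Extend.isQCoh_of_isInvertible (Groth.L18.Ample.isInvertible_structureModule X)
  obtain ⟨m, v, hv⟩ := Module.Finite.exists_fin (R := k) (M := Coh.HH X (Coh.structureModule X) 0)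
  let w : Fin m → Γ(X, ⊤) := fun j => Groth.L21.RR.e0 (Coh.structureModule X) (v j)
  have hspan : ∀ s : Γ(Coh.structureModule X, ⊤), ∃ c : Fin m → k,
      s = ∑ j, ProjUP.toGlobal (X ↘ Spec (CommRingCat.of k)) (c j) •
        (show Γ(Coh.structureModule X, ⊤) from w j) := fun s => by
    obtain ⟨c, hc⟩ := (Submodule.mem_span_range_iff_exists_fun k).1
      (hv.ge (Submodule.mem_top : (Groth.L21.RR.e0 (Coh.structureModule X)).symm s ∈ ⊤))
    refine ⟨c, ?_⟩
    rw [← (Groth.L21.RR.e0 (Coh.structureModule X)).apply_symm_apply s, ← hc, map_sum]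
    exact Finset.sum_congr rfl fun j _ => Groth.L21.RR.e0_smul k _ (c j) (v j)
  have he := (Groth.L21.RR.isFrame_oneSec (X := X)).pullback g (Coh.structureModule X)
  letI : Algebra K Γ(Y, ⊤) := (ProjUP.toGlobal (Y ↘ Spec (CommRingCat.of K))).toAlgebra
  have hfinY : Module.Finite K Γ(Y, ⊤) := by
    refine Module.Finite.of_surjective (Fintype.linearCombination K fun j => g.appTop (w j)) fun z => ?_
    obtain ⟨c, hc⟩ := Groth.L21.RR.exists_coeff_pullback g sq hspan
      (z • ProjUP.pullSec g (Coh.structureModule X) (Groth.L21.RR.oneSec X))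
    refine ⟨c, (he.inj (V := ⊤) le_top ?_).symm⟩
    rw [rs_self, Fintype.linearCombination_apply]
    refine Eq.trans hc (Eq.trans ?_ (Finset.sum_smul).symm)
    refine Finset.sum_congr rfl fun j _ => ?_
    rw [Algebra.smul_def, mul_smul]
    refine congrArg (ProjUP.toGlobal (Y ↘ Spec (CommRingCat.of K)) (c j) • ·) ?_
    have h1 : (show Γ(Coh.structureModule X, ⊤) from w j) = (w j) • Groth.L21.RR.oneSec X := (mul_one (w j)).symm
    rw [h1]
    exact (Groth.L18.Frame.pull_smul g _ _ _).trans (congrArg (fun z => _ • z) (rs_self _ _ _).symm)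
  haveI : IsArtinianRing Γ(Y, ⊤) := IsArtinianRing.of_finite K _
  obtain ⟨N, b, hb⟩ := IsArtinian.exists_pow_succ_smul_dvd a (1 : Γ(Y, ⊤))
  exact ⟨N, b, by simpa [smul_eq_mul] using hb⟩

include sq in
theorem nonempty_iso_of_pullback (hfin : Module.Finite k (Coh.HH X (Coh.structureModule X) 0)) {L : X.Modules}
    (hL : PicF.IsInvertible L) (e : Coh.structureModule Y ≅ (Scheme.Modules.pullback g).obj L) :
    Nonempty (Coh.structureModule X ≅ L) := by
  haveI := Groth.L21.Extend.isQCoh_of_isInvertible hL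
  let M := (Scheme.Modules.pullback g).obj L
  let t : Γ(M, ⊤) := e.hom.app ⊤ (Groth.L21.RR.oneSec Y)
  have ht : IsFrame M ⊤ t := fun V hV => by
    have h1 : (fun a : Γ(Y, V) => a • rs M hV t) =
        (fun z => e.hom.app V z) ∘ fun a : Γ(Y, V) => a • rs (Coh.structureModule Y) hV (Groth.L21.RR.oneSec Y) := by
      funext a
      show a • rs M hV (e.hom.app ⊤ (Groth.L21.RR.oneSec Y)) = e.hom.app V (a • _)
      rw [Scheme.Modules.Hom.app_smul]
      exact congrArg (a • ·) (ConcreteCategory.congr_hom (e.hom.mapPresheaf.naturality (homOfLE hV).op) _).symm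
    rw [h1]
    exact ((ConcreteCategory.isIso_iff_bijective (e.hom.app V)).1 inferInstance).comp
      (Groth.L21.RR.isFrame_oneSec V hV)
  obtain ⟨n, S, c, hS⟩ := exists_sum_pullSec g sq t
  haveI : Surjective (Spec.map (CommRingCat.ofHom (algebraMap k K))) :=
    ⟨fun p => ⟨(IsLocalRing.closedPoint K : PrimeSpectrum K), Subsingleton.elim (α := PrimeSpectrum k) _ _⟩⟩
  haveI : Surjective g := MorphismProperty.of_isPullback (P := @Surjective) sq.flip inferInstance
  haveI : Flat (Spec.map (CommRingCat.ofHom (algebraMap k K))) := by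
    rw [HasRingHomProperty.Spec_iff (P := @Flat)]
    exact RingHom.flat_algebraMap_iff.2 inferInstance
  haveI : Flat g := MorphismProperty.of_isPullback (P := @Flat) sq.flip inferInstance
  haveI : QuasiCompact g := MorphismProperty.of_isPullback (P := @QuasiCompact) sq.flip inferInstance
  choose a ha using fun i => ht.exists_coeff (V := ⊤) le_rfl (ProjUP.pullSec g L (S i))
  simp only [rs_self] at ha
  have hclosed : ∀ i, IsOpen ((fl L (S i) : Set X)ᶜ) := fun i => by
    rw [← (Flat.isQuotientMap_of_surjective g).isOpen_preimage]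
    have : g ⁻¹' ((fl L (S i) : Set X)ᶜ) = (Y.basicOpen (a i) : Set Y)ᶜ := by
      ext y
      simp only [Set.mem_preimage, Set.mem_compl_iff, SetLike.mem_coe, ← fl_smul ht, ha]
      exact not_congr ⟨fun h => mem_fl_pullback g _ h, fun h => mem_fl_of_pullback g hL _ h⟩
    rw [this]
    obtain ⟨N, b, hb⟩ := exists_pow_eq g sq hfin (a i)
    exact isOpen_compl_basicOpen hb
  have hcov : ∀ x, ∃ i, x ∈ fl L (S i) := fun x => by
    obtain ⟨y, rfl⟩ := g.surjective x
    by_contra hne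
    push Not at hne
    have hnu : ∀ i, ¬ IsUnit (Y.presheaf.germ ⊤ y trivial (a i)) := fun i hu => hne i (mem_fl_of_pullback g hL _ (by
      rw [← ha i, fl_smul ht, mem_bo]; exact hu))
    have h1 : (∑ i, ProjUP.toGlobal (Y ↘ Spec (CommRingCat.of K)) (c i) * a i) = 1 := by
      refine ht.inj (V := ⊤) le_rfl ?_
      rw [rs_self, one_smul, Finset.sum_smul]
      refine (Finset.sum_congr rfl fun i _ => ?_).trans hS.symm
      rw [mul_smul, ha]
    have h2 : Y.presheaf.germ ⊤ y trivial (∑ i, ProjUP.toGlobal (Y ↘ Spec (CommRingCat.of K)) (c i) * a i) ∈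
        IsLocalRing.maximalIdeal _ := by
      rw [map_sum]
      refine Ideal.sum_mem _ fun i _ => ?_
      rw [map_mul]
      exact Ideal.mul_mem_left _ _ ((IsLocalRing.mem_maximalIdeal _).2 (hnu i))
    rw [h1, map_one] at h2
    exact (IsLocalRing.maximalIdeal.isMaximal _).ne_top ((Ideal.eq_top_iff_one _).2 h2)
  obtain ⟨s, hs⟩ := exists_frame_of_clopen S hclosed hcov
  exact nonempty_iso_of_isFrame_top hs

end Main

end Groth.L21.PicExt
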