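import Groth.Agent.L21.RR.GenusZero
import Groth.Agent.L16.ProjSpace.Dim
import Groth.Agent.L16.ProjSpace.Basic
import Mathlib.AlgebraicGeometry.Morphisms.Proper

/-!
Recognition of the projective line: `H¹(O) = 0` and a module of degree one.
-/

set_option autoImplicit false
set_option backward.isDefEq.respectTransparency false
set_option linter.style.haveILetI false
universe u

open CategoryTheory CategoryTheory.Limits AlgebraicGeometry TopologicalSpace Opposite

noncomputable section

namespace Groth.L21.RR

open Groth.L16.CohLinear (hmap hmap_comp hmap_id overLin)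
open Groth.L18.Frame (IsFrame rs ro rs_rs rs_self rs_smul ro_ro)

variable {X : Scheme.{u}} [IsIntegral X] (k : Type u) [Field k] [X.Over (Spec (CommRingCat.of k))]
  [IsProper (X ↘ Spec (CommRingCat.of k))] {L : X.Modules}

/-- A non-zero finite module over the functions is at least as big as the functions. -/
theorem h0_structure_le {M : X.Modules} (hM : Coh.IsCoh M) (hne : Nontrivial (Coh.HH X M 0)) :
    h k 0 (Coh.structureModule X) ≤ h k 0 M := by
  haveI := isNoetherian_of_proper (X := X) k
  haveI := finite_HH' k hM 0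
  obtain ⟨q, hq⟩ := exists_ne (0 : Coh.HH X M 0)
  have hf := isField_of_universallyClosed k (X ↘ Spec (CommRingCat.of k))
  let f : Coh.HH X (Coh.structureModule X) 0 →ₗ[k] Coh.HH X M 0 :=
    { toFun := fun x => (show Coh.Γtop X from e0 (Coh.structureModule X) x) • q
      map_add' := fun x y => by
        rw [map_add]
        exact add_smul (R := Coh.Γtop X) _ _ q
      map_smul' := fun c x => by
        rw [e0_smul]
        exact mul_smul (α := Coh.Γtop X) _ _ q }
  refine LinearMap.finrank_le_finrank_of_injective (f := f) ((injective_iff_map_eq_zero f).2 fun x hx => ?_)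
  by_contra hx0
  have hex : e0 (Coh.structureModule X) x ≠ 0 := fun h => hx0 ((e0 _).injective (h.trans (map_zero _).symm))
  obtain ⟨r, hr⟩ := hf.mul_inv_cancel (a := (show Γ(X, ⊤) from e0 (Coh.structureModule X) x)) hex
  refine hq ?_
  have h1 : (show Coh.Γtop X from r) • ((show Coh.Γtop X from e0 (Coh.structureModule X) x) • q) = 0 := by
    rw [show (show Coh.Γtop X from e0 (Coh.structureModule X) x) • q = 0 from hx, smul_zero]
  rw [smul_smul] at h1
  rw [show (show Coh.Γtop X from r) * (show Coh.Γtop X from e0 (Coh.structureModule X) x) = 1 from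
    (mul_comm (show Γ(X, ⊤) from r) _).trans hr, one_smul] at h1
  exact h1

theorem h0_eq_one_of_deg_one (hd : topologicalKrullDim X ≤ 1)
    (h1 : Subsingleton (Coh.HH X (Coh.structureModule X) 1)) (hL : PicF.IsInvertible L)
    (hdeg : Curv2.deg k X L 1 = 1) : h k 0 (Coh.structureModule X) = 1 := by
  haveI := isNoetherian_of_proper (X := X) k
  haveI hOf := finite_HH' k (Groth.L16.CohClosedPush.isCoh_structure (X := X)) 0
  haveI : Nontrivial (Coh.HH X (Coh.structureModule X) 0) := by
    refine ⟨(e0 _).symm (oneSec X), 0, fun h => ?_⟩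
    have h1' : oneSec X = 0 := (e0 _).symm.injective (h.trans (map_zero _).symm)
    haveI : Nonempty ((⊤ : X.Opens) : Scheme) := ⟨⟨genericPoint X, trivial⟩⟩
    exact one_ne_zero (α := Γ(X, ⊤)) h1'
  have hpos : 0 < h k 0 (Coh.structureModule X) := Module.finrank_pos
  have hd' : Curv2.deg k X L 1 = Curv2.euler k X L - (1 : ℕ) * Curv2.euler k X (Coh.structureModule X) := rfl
  rw [euler_eq k hd, euler_eq k hd, h_eq_zero_of_subsingleton k h1, hdeg] at hd'
  push_cast at hd'
  haveI : Nontrivial (Coh.HH X L 0) := Module.nontrivial_of_finrank_pos (R := k)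
    (show 0 < h k 0 L by omega)
  obtain ⟨φ, hφ⟩ := exists_hom_ne_zero (L := L)
  have hQc := (Groth.L16.CohKernel.isCoh_kernel_cokernel (Groth.L16.CohClosedPush.isCoh_structure (X := X))
    (Groth.L16.ProperFinite.isCoh_of_isInvertible hL) φ).2
  have hQ := deg_eq_h0_cokernel k hd hL hφ
  rw [hdeg] at hQ
  have hne : Nontrivial (Coh.HH X (cokernel φ) 0) :=
    Module.nontrivial_of_finrank_pos (R := k) (show 0 < h k 0 (cokernel φ) by omega)
  have := h0_structure_le k hQc hne
  omega

omit [X.Over (Spec (CommRingCat.of k))] [IsProper (X ↘ Spec (CommRingCat.of k))] in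
/-- A closed immersion of an integral curve into the projective line is an isomorphism. -/
theorem isIso_of_closedImmersion_projLine (hd : topologicalKrullDim X = 1)
    (r : X ⟶ CohB1.ProjSpace 1 k) [IsClosedImmersion r] : IsIso r := by
  haveI : IsIntegral (CohB1.ProjSpace 1 k) := Groth.L16.ProjSpace.isIntegral (n := 1) (R := k)
  haveI : Surjective r := by
    have hd1 : topologicalKrullDim (CohB1.ProjSpace 1 k) ≤ 1 :=
      le_of_eq ((Groth.L16.ProjSpace.topologicalKrullDim_eq_of_field (n := 1) k).trans Nat.cast_one)
    obtain ⟨z, hz⟩ : ∃ z : X, z ≠ genericPoint X := by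
      by_contra hall
      push Not at hall
      haveI : Subsingleton X := ⟨fun a b => (hall a).trans (hall b).symm⟩
      haveI : DiscreteTopology X := Subsingleton.discreteTopology
      have := topologicalKrullDim_zero_of_discreteTopology X
      rw [hd] at this
      exact absurd this (by decide)
    have hsp : r (genericPoint X) ⤳ r z := ((genericPoint_spec X).specializes trivial).map r.continuous
    rcases Top.spec_of_dim_le_one (X := (CohB1.ProjSpace 1 k).toTopCat) hd1
      (genericPoint (CohB1.ProjSpace 1 k)) (r (genericPoint X)) (r z)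
      ((genericPoint_spec (CohB1.ProjSpace 1 k)).specializes trivial) hsp with e | e
    · refine ⟨fun y => ?_⟩
      have hy : y ∈ closure ({r (genericPoint X)} : Set _) := by
        rw [← e]
        exact ((genericPoint_spec (CohB1.ProjSpace 1 k)).specializes trivial).mem_closure
      exact (r.isClosedEmbedding.isClosed_range.closure_subset_iff.2
        (Set.singleton_subset_iff.2 ⟨_, rfl⟩)) hy
    · exact absurd (r.isClosedEmbedding.injective e).symm hz
  exact isIso_of_isClosedImmersion_of_surjective r

theorem exists_iso_projLine (hd : topologicalKrullDim X = 1)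
    (h1 : Subsingleton (Coh.HH X (Coh.structureModule X) 1)) (hL : PicF.IsInvertible L)
    (hdeg : Curv2.deg k X L 1 = 1) :
    ∃ e : X ≅ CohB1.ProjSpace 1 k,
      e.hom ≫ CohB1.ProjSpace.toSpec 1 k = X ↘ Spec (CommRingCat.of k) ∧
      Nonempty ((Scheme.Modules.pullback e.hom).obj (Groth.L18.PUP.O1 1 k) ≅ L) := by
  obtain ⟨r, hr, hrq, hiso⟩ := exists_closedImmersion_of_h1_zero k (le_of_eq hd)
    (h0_eq_one_of_deg_one k (le_of_eq hd) h1 hL hdeg) h1 hL (d := 1) one_pos (by rw [hdeg]; rfl)
  haveI : IsIso r := isIso_of_closedImmersion_projLine k hd r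
  exact ⟨asIso r, hrq, hiso⟩

end Groth.L21.RR
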