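import Groth.Agent.L21.RR.VeryAmple
import Groth.Agent.L17.FlatBase.DegZero
import Groth.Agent.L17.BC.PullSec
import Groth.Agent.L18.AmplePull
import Mathlib.AlgebraicGeometry.ZariskisMainTheorem

/-!
Very ampleness of invertible modules of large degree on curves over arbitrary fields, by descent
from an algebraic closure.
-/

set_option autoImplicit false
set_option backward.isDefEq.respectTransparency false
set_option linter.style.haveILetI false
universe u

open CategoryTheory CategoryTheory.Limits AlgebraicGeometry TopologicalSpace Opposite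
attribute [local instance] Curv2.resAlgebra

noncomputable section

namespace Groth.L21.RR

open Groth.L18.Frame (IsFrame rs ro pull)

section PullSec

variable {T Y A B : Scheme.{u}}

/-- Pullback of global sections along a composite. -/
theorem pullSec_comp (f : T ⟶ Y) (v : Y ⟶ A) (M : A.Modules) (s : Γ(M, ⊤)) :
    ((Scheme.Modules.pullbackComp f v).hom.app M).app ⊤ (ProjUP.pullSec f _ (ProjUP.pullSec v M s)) =
      ProjUP.pullSec (f ≫ v) M s :=
  Groth.L17.BC.PullSec.comp_pull f v M ⊤ s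

/-- Pullback of global sections is natural. -/
theorem pullSec_map (f : T ⟶ Y) {M N : Y.Modules} (φ : M ⟶ N) (s : Γ(M, ⊤)) :
    ((Scheme.Modules.pullback f).map φ).app ⊤ (ProjUP.pullSec f M s) = ProjUP.pullSec f N (φ.app ⊤ s) :=
  Groth.L17.BC.PullSec.map_pull f φ ⊤ s

/-- Compatible isomorphisms stay compatible after composing. -/
theorem exists_iso_comp (f : T ⟶ Y) (v : Y ⟶ A) (w : Y ⟶ B) {M : A.Modules} {N : B.Modules}
    (σ : (Scheme.Modules.pullback v).obj M ≅ (Scheme.Modules.pullback w).obj N) {ι : Type*}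
    (s : ι → Γ(M, ⊤)) (t : ι → Γ(N, ⊤))
    (hσ : ∀ i, σ.hom.app ⊤ (ProjUP.pullSec v M (s i)) = ProjUP.pullSec w N (t i)) :
    ∃ Φ : (Scheme.Modules.pullback (f ≫ v)).obj M ≅ (Scheme.Modules.pullback (f ≫ w)).obj N,
      ∀ i, Φ.hom.app ⊤ (ProjUP.pullSec (f ≫ v) M (s i)) = ProjUP.pullSec (f ≫ w) N (t i) := by
  refine ⟨((Scheme.Modules.pullbackComp f v).app M).symm ≪≫ (Scheme.Modules.pullback f).mapIso σ ≪≫
    (Scheme.Modules.pullbackComp f w).app N, fun i => ?_⟩
  show ((Scheme.Modules.pullbackComp f w).hom.app N).app ⊤ (((Scheme.Modules.pullback f).map σ.hom).app ⊤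
    (((Scheme.Modules.pullbackComp f v).inv.app M).app ⊤ (ProjUP.pullSec (f ≫ v) M (s i)))) = _
  have h1 : ((Scheme.Modules.pullbackComp f v).inv.app M).app ⊤ (ProjUP.pullSec (f ≫ v) M (s i)) =
      ProjUP.pullSec f _ (ProjUP.pullSec v M (s i)) := by
    rw [← pullSec_comp f v M (s i)]
    exact congr($(congrArg (fun k => Scheme.Modules.Hom.app k ⊤)
      ((Scheme.Modules.pullbackComp f v).hom_inv_id_app M)) (ProjUP.pullSec f _ (ProjUP.pullSec v M (s i))))
  rw [h1, pullSec_map, hσ, pullSec_comp]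

/-- Pullback of global sections along equal morphisms. -/
theorem exists_iso_congr {f g : T ⟶ A} (h : f = g) (M : A.Modules) :
    ∃ Φ : (Scheme.Modules.pullback f).obj M ≅ (Scheme.Modules.pullback g).obj M,
      ∀ s : Γ(M, ⊤), Φ.hom.app ⊤ (ProjUP.pullSec f M s) = ProjUP.pullSec g M s := by
  subst h
  exact ⟨Iso.refl _, fun s => rfl⟩

end PullSec

section BaseField

variable {k : Type u} [Field k] {X : Scheme.{u}} [X.Over (Spec (CommRingCat.of k))]
  {K : Type u} [Field K] [Algebra k K] {Y : Scheme.{u}} [Y.Over (Spec (CommRingCat.of K))] (g : Y ⟶ X)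
  (sq : IsPullback g (Y ↘ Spec (CommRingCat.of K)) (X ↘ Spec (CommRingCat.of k))
    (Spec.map (CommRingCat.ofHom (algebraMap k K))))
  {L : X.Modules} {n : ℕ}

include sq in
theorem appTop_toGlobal (c : k) :
    g.appTop (ProjUP.toGlobal (X ↘ Spec (CommRingCat.of k)) c) =
      ProjUP.toGlobal (Y ↘ Spec (CommRingCat.of K)) (algebraMap k K c) := by
  show ((Scheme.ΓSpecIso (CommRingCat.of k)).inv ≫ (X ↘ Spec (CommRingCat.of k)).appTop ≫ g.appTop) c =
    (CommRingCat.ofHom (algebraMap k K) ≫ (Scheme.ΓSpecIso (CommRingCat.of K)).inv ≫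
      (Y ↘ Spec (CommRingCat.of K)).appTop) c
  rw [← Scheme.Hom.comp_appTop, sq.w, Scheme.Hom.comp_appTop, ← Category.assoc,
    ← Scheme.ΓSpecIso_inv_naturality, Category.assoc]

include sq in
/-- Global sections after a field extension are combinations of pulled back ones. -/
theorem exists_coeff_pullback [CompactSpace X] [QuasiSeparatedSpace X] [Coh.IsQCoh L] {S : Fin n → Γ(L, ⊤)}
    (hspan : ∀ s : Γ(L, ⊤), ∃ c : Fin n → k,
      s = ∑ j, ProjUP.toGlobal (X ↘ Spec (CommRingCat.of k)) (c j) • S j)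
    (t : Γ((Scheme.Modules.pullback g).obj L, ⊤)) :
    ∃ c : Fin n → K, t = ∑ j, ProjUP.toGlobal (Y ↘ Spec (CommRingCat.of K)) (c j) • ProjUP.pullSec g L (S j) := by
  let q := Spec.map (CommRingCat.ofHom (algebraMap k K))
  have eV : (⊤ : (Spec (CommRingCat.of K)).Opens) ≤ q ⁻¹ᵁ ⊤ := le_top
  letI alg : Algebra Γ(Spec (CommRingCat.of k), ⊤) Γ(Spec (CommRingCat.of K), ⊤) :=
    (q.appLE ⊤ ⊤ eV).hom.toAlgebra
  haveI : Flat q := by
    rw [HasRingHomProperty.Spec_iff (P := @Flat)]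
    exact RingHom.flat_algebraMap_iff.2 inferInstance
  have hflat : Module.Flat Γ(Spec (CommRingCat.of k), ⊤) Γ(Spec (CommRingCat.of K), ⊤) := by
    have h := q.flat_appLE (isAffineOpen_top _) (isAffineOpen_top _) eV
    exact RingHom.flat_algebraMap_iff.1 h
  have key : ∀ U : X.Opens, IsCompact (U : Set X) →
      Groth.L17.DegZero.Good (X ↘ Spec (CommRingCat.of k)) q g (Y ↘ Spec (CommRingCat.of K)) sq.w L eV alg rfl U :=
    fun U hU => Groth.L17.SchemeTheta.qc_induction _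
      (fun W hW => Groth.L17.DegZero.good_affine _ _ _ _ sq.w L eV alg rfl sq (isAffineOpen_top _)
        (isAffineOpen_top _) hW)
      (fun U₁ U₂ a b c => Groth.L17.DegZero.good_sup _ _ _ _ sq.w L eV alg rfl hflat a b c) hU
  have heq : ∀ (W' : Y.Opens) (a : W' ≤ g ⁻¹ᵁ ⊤) (b : W' ≤ (Y ↘ Spec (CommRingCat.of K)) ⁻¹ᵁ ⊤), W' = ⊤ →
      Function.Bijective (Groth.L17.DegZero.β (X ↘ Spec (CommRingCat.of k)) q g (Y ↘ Spec (CommRingCat.of K))
        sq.w L eV alg rfl (W := ⊤) le_top W' a b) →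
      Function.Bijective (Groth.L17.DegZero.β (X ↘ Spec (CommRingCat.of k)) q g (Y ↘ Spec (CommRingCat.of K))
        sq.w L eV alg rfl (W := ⊤) le_top (⊤ : Y.Opens) le_top le_top) := by
    rintro W' a b rfl hb
    exact hb
  obtain ⟨z, hz⟩ := (heq _ _ _ (top_le_iff.1 (le_inf le_top le_top)) (key ⊤ isCompact_univ le_top)).2 t
  subst hz
  induction z using TensorProduct.induction_on with
  | zero => exact ⟨0, by simp⟩
  | add a b ha hb =>
    obtain ⟨c, hc⟩ := ha
    obtain ⟨d, hd⟩ := hb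
    exact ⟨c + d, by rw [map_add, hc, hd, ← Finset.sum_add_distrib]; simp only [Pi.add_apply, map_add, add_smul]⟩
  | tmul a m =>
    obtain ⟨d, hd⟩ := hspan m
    refine ⟨fun j => (Scheme.ΓSpecIso (CommRingCat.of K)).hom a * algebraMap k K (d j), ?_⟩
    rw [Groth.L17.DegZero.β_tmul, Groth.L18.Frame.rs_self]
    have happ : (Y ↘ Spec (CommRingCat.of K)).appLE ⊤ ⊤ le_top a = (Y ↘ Spec (CommRingCat.of K)).app ⊤ a := by
      rw [Scheme.Hom.app_eq_appLE]; rfl
    rw [happ]
    have ha : (Y ↘ Spec (CommRingCat.of K)).app ⊤ a =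
        ProjUP.toGlobal (Y ↘ Spec (CommRingCat.of K)) ((Scheme.ΓSpecIso (CommRingCat.of K)).hom a) :=
      congrArg _ (congr($((Scheme.ΓSpecIso (CommRingCat.of K)).hom_inv_id) a)).symm
    rw [ha]
    have hm : pull g L ⊤ m =
        ∑ j, (show Γ(Y, ⊤) from g.app ⊤ (ProjUP.toGlobal (X ↘ Spec (CommRingCat.of k)) (d j))) •
          ProjUP.pullSec g L (S j) := by
      rw [show pull g L ⊤ m = pull g L ⊤ (show Γ(L, ⊤) from m) from rfl, hd]
      refine (map_sum (((Scheme.Modules.pullbackPushforwardAdjunction g).unit.app L).app ⊤).hom _ _).trans ?_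
      exact Finset.sum_congr rfl fun j _ => Groth.L18.Frame.pull_smul g L _ _
    rw [hm]
    refine (Finset.smul_sum).trans (Finset.sum_congr rfl fun j _ => ?_)
    rw [← mul_smul, map_mul]
    exact congrArg (fun z => (ProjUP.toGlobal (Y ↘ Spec (CommRingCat.of K)) _ * z) • ProjUP.pullSec g L (S j))
      (appTop_toGlobal g sq (d j))

include sq in
/-- Generation by sections descends along field extensions. -/
theorem generatedBy_of_pullback (hL : PicF.IsInvertible L) {S : Fin n → Γ(L, ⊤)}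
    (hS : ProjUP.GeneratedBy ((Scheme.Modules.pullback g).obj L) fun j => ProjUP.pullSec g L (S j)) :
    ProjUP.GeneratedBy L S := by
  haveI : Surjective (Spec.map (CommRingCat.ofHom (algebraMap k K))) :=
    ⟨fun p => ⟨(IsLocalRing.closedPoint K : PrimeSpectrum K), Subsingleton.elim (α := PrimeSpectrum k) _ _⟩⟩
  haveI : Surjective g := MorphismProperty.of_isPullback (P := @Surjective) sq.flip inferInstance
  refine Groth.L18.SpecLine.generatedBy_of_frames (ι := Fin n) S fun x => ?_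
  obtain ⟨y, rfl⟩ := g.surjective x
  obtain ⟨W, e, hxW, he⟩ := Groth.L18.Frame.exists_frame hL (g y)
  obtain ⟨W', i, -, hyW', hfr⟩ :=
    Groth.L18.Frame.exists_frame_of_generated (Groth.L18.Ample.isInvertible_pullback g hL) _ hS y
  obtain ⟨a, ha⟩ := he.exists_coeff le_rfl (rs L (le_top : W ≤ ⊤) (S i))
  rw [Groth.L18.Frame.rs_self] at ha
  have hle₁ : g ⁻¹ᵁ W ⊓ W' ≤ g ⁻¹ᵁ W := inf_le_left
  have hle₂ : g ⁻¹ᵁ W ⊓ W' ≤ W' := inf_le_right
  have h1 : ro hle₁ (g.app W a) • rs ((Scheme.Modules.pullback g).obj L) hle₁ (pull g L W e) =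
      rs ((Scheme.Modules.pullback g).obj L) hle₂
        (rs ((Scheme.Modules.pullback g).obj L) le_top (ProjUP.pullSec g L (S i))) := by
    rw [← Groth.L18.Frame.rs_smul, ← Groth.L18.Frame.pull_smul, ha, ← Groth.L18.Frame.pull_rs,
      Groth.L18.Frame.rs_rs, Groth.L18.Frame.rs_rs]
    rfl
  have h2 := hfr.mono hle₂
  rw [← h1] at h2
  have hu : IsUnit (ro hle₁ (g.app W a)) := Groth.L18.Frame.isUnit_of_isFrame ((he.pullback g L).mono hle₁) h2
  have hy : g y ∈ X.basicOpen a := by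
    have h3 := Y.basicOpen_of_isUnit hu
    have h4 : y ∈ Y.basicOpen (g.app W a) := by
      have : y ∈ g ⁻¹ᵁ W ⊓ W' := ⟨hxW, hyW'⟩
      rw [← h3, Scheme.basicOpen_res] at this
      exact this.2
    rw [← Scheme.preimage_basicOpen] at h4
    exact h4
  refine ⟨X.basicOpen a, i, hy, ?_⟩
  have h5 := (he.mono (X.basicOpen_le a)).smul_unit (a := ro (X.basicOpen_le a) a) (RingedSpace.isUnit_res_basicOpen _ a)
  rw [← Groth.L18.Frame.rs_smul, ha, Groth.L18.Frame.rs_rs] at h5
  exact h5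

include sq in
/-- Closed immersions into projective space descend along field extensions. -/
theorem isClosedImmersion_of_pullback [IsProper (X ↘ Spec (CommRingCat.of k))] {S : Fin (n + 1) → Γ(L, ⊤)}
    (r : X ⟶ Groth.L18.PUP.P n k) (hr : r ≫ Groth.L18.PUP.pr n k = X ↘ Spec (CommRingCat.of k))
    (τ : (Scheme.Modules.pullback r).obj (Groth.L18.PUP.O1 n k) ≅ L)
    (hτ : ∀ j, τ.hom.app ⊤ (Groth.L18.PUP.rT r j) = S j)
    (rK : Y ⟶ Groth.L18.PUP.P n K) [IsClosedImmersion rK]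
    (hrK : rK ≫ Groth.L18.PUP.pr n K = Y ↘ Spec (CommRingCat.of K))
    (τK : (Scheme.Modules.pullback rK).obj (Groth.L18.PUP.O1 n K) ≅ (Scheme.Modules.pullback g).obj L)
    (hτK : ∀ j, τK.hom.app ⊤ (Groth.L18.PUP.rT rK j) = ProjUP.pullSec g L (S j)) :
    IsClosedImmersion r := by
  let σ := τK ≪≫ (Scheme.Modules.pullback g).mapIso τ.symm ≪≫
    (Scheme.Modules.pullbackComp g r).app (Groth.L18.PUP.O1 n k)
  have hσ : ∀ j, σ.hom.app ⊤ (ProjUP.pullSec rK (Groth.L18.PUP.O1 n K) (Groth.L18.PUP.T j)) =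
      ProjUP.pullSec (g ≫ r) (Groth.L18.PUP.O1 n k) (Groth.L18.PUP.T j) := fun j => by
    show ((Scheme.Modules.pullbackComp g r).hom.app _).app ⊤ (((Scheme.Modules.pullback g).map τ.inv).app ⊤
      (τK.hom.app ⊤ (Groth.L18.PUP.rT rK j))) = _
    have hinv : τ.inv.app ⊤ (S j) = Groth.L18.PUP.rT r j := by
      rw [← hτ j]
      exact congr($(congrArg (fun k => Scheme.Modules.Hom.app k ⊤) τ.hom_inv_id) (Groth.L18.PUP.rT r j))
    rw [hτK, pullSec_map, hinv]
    exact pullSec_comp g r _ _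
  haveI : IsProper (r ≫ Groth.L18.PUP.pr n k) := by rw [hr]; infer_instance
  haveI : IsProper r := IsProper.of_comp r (Groth.L18.PUP.pr n k)
  haveI : Surjective (Spec.map (CommRingCat.ofHom (algebraMap k K))) :=
    ⟨fun p => ⟨(IsLocalRing.closedPoint K : PrimeSpectrum K), Subsingleton.elim (α := PrimeSpectrum k) _ _⟩⟩
  haveI : Flat (Spec.map (CommRingCat.ofHom (algebraMap k K))) := by
    rw [HasRingHomProperty.Spec_iff (P := @Flat)]
    exact RingHom.flat_algebraMap_iff.2 inferInstance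
  refine (IsClosedImmersion.iff_isProper_and_mono r).2 ⟨inferInstance, ⟨fun {T} a b hab => ?_⟩⟩
  have hpb : a ≫ (X ↘ Spec (CommRingCat.of k)) = b ≫ (X ↘ Spec (CommRingCat.of k)) := by
    rw [← hr, ← Category.assoc, hab, Category.assoc]
  let q := Spec.map (CommRingCat.ofHom (algebraMap k K))
  let p := pullback.fst (a ≫ (X ↘ Spec (CommRingCat.of k))) q
  let a' := sq.lift (p ≫ a) (pullback.snd _ _) (by rw [Category.assoc]; exact pullback.condition)
  let b' := sq.lift (p ≫ b) (pullback.snd _ _) (by rw [Category.assoc, ← hpb]; exact pullback.condition)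
  have hag : a' ≫ g = p ≫ a := sq.lift_fst _ _ _
  have hbg : b' ≫ g = p ≫ b := sq.lift_fst _ _ _
  have hab' : a' ≫ rK = b' ≫ rK := by
    obtain ⟨Φa, hΦa⟩ := exists_iso_comp a' rK (g ≫ r) σ _ _ hσ
    obtain ⟨Φb, hΦb⟩ := exists_iso_comp b' rK (g ≫ r) σ _ _ hσ
    obtain ⟨Ψ, hΨ⟩ := exists_iso_congr (show a' ≫ g ≫ r = b' ≫ g ≫ r by
      rw [reassoc_of% hag, reassoc_of% hbg, hab]) (Groth.L18.PUP.O1 n k)
    refine Groth.L18.PUP.hom_ext _ _ ?_ (Φa ≪≫ Ψ ≪≫ Φb.symm) fun j => ?_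
    · rw [Category.assoc, Category.assoc, hrK, sq.lift_snd, sq.lift_snd]
    · show Φb.inv.app ⊤ (Ψ.hom.app ⊤ (Φa.hom.app ⊤ (ProjUP.pullSec (a' ≫ rK) _ (Groth.L18.PUP.T j)))) = _
      rw [hΦa, hΨ, ← hΦb]
      exact congr($(congrArg (fun k => Scheme.Modules.Hom.app k ⊤) Φb.hom_inv_id)
        (ProjUP.pullSec (b' ≫ rK) (Groth.L18.PUP.O1 n K) (Groth.L18.PUP.T j)))
  have h' : a' = b' := (cancel_mono rK).1 hab'
  haveI : Epi p := Flat.epi_of_flat_of_surjective p
  rw [← cancel_epi p, ← hag, ← hbg, h']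

end BaseField

/-- Invertible modules of degree at least `2g + 1` are very ample. -/
theorem exists_closedImmersion_of_deg_ge (k : Type u) [Field k] {X : Scheme.{u}}
    [X.Over (Spec (CommRingCat.of k))] [IsProper (X ↘ Spec (CommRingCat.of k))]
    [GeometricallyIntegral (X ↘ Spec (CommRingCat.of k))] (hd : topologicalKrullDim X = 1) {L : X.Modules}
    (hL : PicF.IsInvertible L) (he : (h k 1 (Coh.structureModule X) : ℤ) + 2 ≤ Curv2.euler k X L) :
    ∃ (n : ℕ) (r : X ⟶ Groth.L18.PUP.P n k), IsClosedImmersion r ∧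
      r ≫ Groth.L18.PUP.pr n k = X ↘ Spec (CommRingCat.of k) ∧
      Nonempty ((Scheme.Modules.pullback r).obj (Groth.L18.PUP.O1 n k) ≅ L) := by
  haveI := isNoetherian_of_proper (X := X) k
  haveI := Groth.L21.Extend.isQCoh_of_isInvertible hL
  obtain ⟨n, S, hspan⟩ := exists_span_fin k hd.le hL he
  let K := AlgebraicClosure k
  let Y := pullback (X ↘ Spec (CommRingCat.of k)) (Spec.map (CommRingCat.ofHom (algebraMap k K)))
  let g : Y ⟶ X := pullback.fst (X ↘ Spec (CommRingCat.of k)) (Spec.map (CommRingCat.ofHom (algebraMap k K)))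
  letI : Y.Over (Spec (CommRingCat.of K)) := ⟨pullback.snd _ _⟩
  have sq : IsPullback g (Y ↘ Spec (CommRingCat.of K)) (X ↘ Spec (CommRingCat.of k))
      (Spec.map (CommRingCat.ofHom (algebraMap k K))) :=
    IsPullback.of_hasPullback _ _
  obtain ⟨hY, hP, hdY⟩ := bc_facts k K hd g sq
  haveI := hY
  haveI := hP
  have hLK := Groth.L18.Ample.isInvertible_pullback g hL
  have heK : (h K 1 (Coh.structureModule Y) : ℤ) + 2 ≤ Curv2.euler K Y ((Scheme.Modules.pullback g).obj L) := by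
    rw [h_structure_bc g sq 1, euler_pullback g sq (Groth.L16.ProperFinite.isCoh_of_isInvertible hL)]
    exact he
  have hspanK := fun t => exists_coeff_pullback g sq hspan t
  have hgenK := generatedBy_of_span K hdY.le hLK heK hspanK
  obtain ⟨rK, hrK, τK, hτK⟩ := Groth.L18.PUP.exists_hom (Y ↘ Spec (CommRingCat.of K)) _ hLK _ hgenK
  obtain ⟨r, hr, τ, hτ⟩ := Groth.L18.PUP.exists_hom (X ↘ Spec (CommRingCat.of k)) L hL S
    (generatedBy_of_pullback g sq hL hgenK)
  haveI := isClosedImmersion_of_span K hdY.le hLK heK hspanK rK hrK τK hτK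
  exact ⟨n, r, isClosedImmersion_of_pullback g sq r hr τ hτ rK hrK τK hτK, hr, ⟨τ⟩⟩

end Groth.L21.RR
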