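import Groth.Agent.L21.RR.VeryAmpleIff
import Groth.Agent.L21.RR.Mul
import Mathlib.Algebra.Module.Submodule.Union

/-!
Products of sections of invertible modules on curves: the base point free pencil trick and the addition inequality
behind Clifford's theorem.
-/

set_option autoImplicit false
set_option backward.isDefEq.respectTransparency false
set_option linter.style.haveILetI false
universe u

open CategoryTheory CategoryTheory.Limits AlgebraicGeometry TopologicalSpace Opposite IsLocalRing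

noncomputable section

namespace Groth.L21.RR

open Groth.L16.CohLinear (hmap)
open Groth.L18.Frame (IsFrame rs rs_rs rs_smul)
open Groth.L18.GenLoc (secOf)
open Groth.L00.Tensor (tensorAssoc tensorComm tensorIso tensorUnitRight)

variable {X : Scheme.{u}}

/-- Subspaces of sections whose intersection on the stalks comes from a third module. -/
theorem h0_add_le_of_inter (k : Type u) [Field k] [X.Over (Spec (CommRingCat.of k))]
    [IsProper (X ↘ Spec (CommRingCat.of k))] {A B C P : X.Modules} (hP : Coh.IsCoh P) (hC : Coh.IsCoh C)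
    (a : A ⟶ P) (b : B ⟶ P) (c : C ⟶ P) [Mono a] [Mono b] [Mono c]
    (hx : ∀ (x : X) v, (∃ u, st a x u = v) → (∃ u, st b x u = v) → ∃ u, st c x u = v) :
    h k 0 A + h k 0 B ≤ h k 0 P + h k 0 C := by
  haveI := isNoetherian_of_proper (X := X) k
  haveI := finite_HH' k hP 0
  haveI := finite_HH' k hC 0
  have ha := LinearMap.finrank_range_of_inj (f := hk k a 0) (injective_hmap_zero a)
  have hb := LinearMap.finrank_range_of_inj (f := hk k b 0) (injective_hmap_zero b)
  have hc := LinearMap.finrank_range_of_inj (f := hk k c 0) (injective_hmap_zero c)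
  have hle : (hk k a 0).range ⊓ (hk k b 0).range ≤ (hk k c 0).range := by
    rintro w ⟨⟨p, hp⟩, ⟨q, hq⟩⟩
    obtain ⟨φ, hφ⟩ := exists_hom_of_hh0 p
    obtain ⟨ψ, hψ⟩ := exists_hom_of_hh0 q
    have h1 : φ ≫ a = ψ ≫ b := hom_ext_one (by
      show a.app ⊤ (φ.app ⊤ (oneSec X)) = b.app ⊤ (ψ.app ⊤ (oneSec X))
      rw [hφ, hψ, ← e0_hmap, ← e0_hmap]
      exact congrArg (e0 P) (hp.trans hq.symm))
    obtain ⟨g, hg⟩ := exists_lift c (φ ≫ a) fun x r =>
      hx x _ ⟨st φ x r, (st_comp φ a x r).symm⟩ ⟨st ψ x r, by rw [h1]; exact (st_comp ψ b x r).symm⟩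
    refine ⟨(e0 C).symm (g.app ⊤ (oneSec X)), (e0 P).injective ?_⟩
    show e0 P (hmap c 0 _) = e0 P w
    rw [e0_hmap, AddEquiv.apply_symm_apply, ← hp]
    refine Eq.trans ?_ (e0_hmap a p).symm
    rw [← hφ]
    show (g ≫ c).app ⊤ (oneSec X) = (φ ≫ a).app ⊤ (oneSec X)
    rw [hg]
  have h1 := Submodule.finrank_sup_add_finrank_inf_eq (hk k a 0).range (hk k b 0).range
  have h2 := Submodule.finrank_le ((hk k a 0).range ⊔ (hk k b 0).range)
  have h3 := Submodule.finrank_mono hle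
  simp only [h] at *
  omega

/-- Multiplication by a section multiplies the stalks by its value. -/
theorem exists_range_mulS {L : X.Modules} (hL : PicF.IsInvertible L) (φ : Coh.structureModule X ⟶ L) (x : X) :
    ∃ σ : X.presheaf.stalk x, (IsUnit σ ↔ Function.Surjective (st φ x)) ∧
      (∀ v, (∃ u, st φ x u = v) ↔ ∃ w : L.presheaf.stalk x, σ • w = v) ∧
      ∀ (N : X.Modules), PicF.IsInvertible N →
        ∀ v, (∃ u, st (mulS N φ) x u = v) ↔ ∃ w : (CohB1.tensorMod N L).presheaf.stalk x, σ • w = v := by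
  obtain ⟨W, ε, hxW, hε⟩ := Groth.L18.Frame.exists_frame hL x
  obtain ⟨b, hb, hb'⟩ := exists_coeff_secOf hε φ
  refine ⟨X.presheaf.germ W x hxW b, (surjective_st_iff (bijective_germ_frame hε hxW) φ (hb' x hxW)).symm,
    fun v => ⟨?_, ?_⟩, fun N hN => ?_⟩
  · rintro ⟨r, rfl⟩
    obtain ⟨c, rfl⟩ := (bijective_smul_one x).2 r
    refine ⟨c • L.presheaf.germ W x hxW ε, ?_⟩
    show _ = st φ x (c • one X x)
    rw [map_smul, ← hb' x hxW, smul_comm]
  · rintro ⟨w, rfl⟩
    obtain ⟨c, rfl⟩ := (bijective_germ_frame hε hxW).2 w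
    refine ⟨c • one X x, ?_⟩
    rw [map_smul, ← hb' x hxW, smul_comm]
  obtain ⟨W', e, hxW', he⟩ := Groth.L18.Frame.exists_frame hN x
  have hx : x ∈ W ⊓ W' := ⟨hxW, hxW'⟩
  have hb2 : (X.presheaf.map (homOfLE (inf_le_left : W ⊓ W' ≤ W)).op b) • rs L (inf_le_left : W ⊓ W' ≤ W) ε =
      rs L le_top (secOf φ) := by
    have h3 := congrArg (rs L (inf_le_left : W ⊓ W' ≤ W)) hb
    rw [rs_smul, rs_rs] at h3
    exact h3
  have hgb : X.presheaf.germ (W ⊓ W') x hx (X.presheaf.map (homOfLE (inf_le_left : W ⊓ W' ≤ W)).op b) =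
      X.presheaf.germ W x hxW b := X.presheaf.germ_res_apply _ _ _ _
  have key : ∀ a : X.presheaf.stalk x,
      st (mulS N φ) x (a • N.presheaf.germ (W ⊓ W') x hx (rs N (inf_le_right : W ⊓ W' ≤ W') e)) =
        X.presheaf.germ W x hxW b • (a • (CohB1.tensorMod N L).presheaf.germ (W ⊓ W') x hx
          (Groth.L18.GenLoc.tens N L (W ⊓ W') (rs N (inf_le_right : W ⊓ W' ≤ W') e) (rs L (inf_le_left : W ⊓ W' ≤ W) ε))) := fun a => by
    rw [st_mulS N φ hb2 hx a, hgb, smul_smul, mul_comm]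
  refine fun v => ⟨?_, ?_⟩
  · rintro ⟨r, rfl⟩
    obtain ⟨a, rfl⟩ := (bijective_germ_frame (he.mono (inf_le_right : W ⊓ W' ≤ W')) hx).2 r
    exact ⟨_, (key a).symm⟩
  · rintro ⟨w, rfl⟩
    obtain ⟨a, rfl⟩ := (bijective_germ_frame (Groth.L18.GenLoc.isFrame_tens
      (he.mono (inf_le_right : W ⊓ W' ≤ W')) (hε.mono (inf_le_left : W ⊓ W' ≤ W))) hx).2 w
    exact ⟨_, key a⟩

section Integral

variable (k : Type u) [Field k] [IsIntegral X] [X.Over (Spec (CommRingCat.of k))]
  [IsProper (X ↘ Spec (CommRingCat.of k))]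

/-- The base point free pencil trick. -/
theorem pencil_trick {D M N : X.Modules} (hD : PicF.IsInvertible D) (hM : PicF.IsInvertible M)
    (hN : PicF.IsInvertible N) (i : CohB1.tensorMod N D ≅ M) {s t : Coh.structureModule X ⟶ D}
    (hs : s ≠ 0) (ht : t ≠ 0)
    (hcz : ∀ x : X, IsClosed ({x} : Set X) → Function.Surjective (st s x) ∨ Function.Surjective (st t x)) :
    2 * h k 0 M ≤ h k 0 (CohB1.tensorMod M D) + h k 0 N := by
  haveI := isNoetherian_of_proper (X := X) k
  haveI := mono_mulS hM hD hs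
  haveI := mono_mulS hM hD ht
  haveI := mono_mulS hN hD ht
  have hall : ∀ x : X, Function.Surjective (st s x) ∨ Function.Surjective (st t x) := fun x => by
    obtain ⟨z, hz, hxz⟩ := exists_closed_specialization x
    exact (hcz z hz).imp (surjective_st_of_specializes hD hxz) (surjective_st_of_specializes hD hxz)
  rw [two_mul]
  refine h0_add_le_of_inter k (Groth.L16.ProperFinite.isCoh_of_isInvertible (Groth.L18.GenLoc.isInvertible_tensor hM hD))
    (Groth.L16.ProperFinite.isCoh_of_isInvertible hN) (mulS M s) (mulS M t) (mulS N t ≫ i.hom ≫ mulS M s)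
    fun x v hv₁ hv₂ => ?_
  obtain ⟨σ, hσ, -, hσM⟩ := exists_range_mulS hD s x
  obtain ⟨τ, hτ, -, hτM⟩ := exists_range_mulS hD t x
  obtain ⟨w₁, rfl⟩ := (hσM M hM v).1 hv₁
  obtain ⟨w₂, hw₂⟩ := (hτM M hM _).1 hv₂
  obtain ⟨w, hw⟩ : ∃ w, σ • w₁ = τ • σ • w := by
    rcases (hall x).imp hσ.2 hτ.2 with hu | hu
    · exact ⟨(↑hu.unit⁻¹ : X.presheaf.stalk x) • w₂, by rw [smul_smul σ, IsUnit.mul_val_inv, one_smul, hw₂]⟩
    · exact ⟨(↑hu.unit⁻¹ : X.presheaf.stalk x) • w₁, by
        rw [smul_comm τ, smul_smul τ, IsUnit.mul_val_inv, one_smul]⟩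
  obtain ⟨r, hr⟩ := (hσM M hM (σ • w)).2 ⟨w, rfl⟩
  obtain ⟨r', rfl⟩ : ∃ r', st i.hom x r' = r :=
    (Groth.L21.Mod.epi_iff_stalk_surjective i.hom).1 inferInstance x r
  obtain ⟨p, hp⟩ := (hτM N hN (τ • r')).2 ⟨r', rfl⟩
  refine ⟨p, ?_⟩
  rw [st_comp, st_comp, hp, map_smul, map_smul, hr, hw]

/-- Independent sections. -/
theorem exists_two_sections {D : X.Modules} (hD : PicF.IsInvertible D) (h2 : h k 0 D = 2)
    (hgen : ∀ x : X, IsClosed ({x} : Set X) → ∃ φ : Coh.structureModule X ⟶ D, Function.Surjective (st φ x)) :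
    ∃ s t : Coh.structureModule X ⟶ D, s ≠ 0 ∧ t ≠ 0 ∧
      ∀ x : X, IsClosed ({x} : Set X) → Function.Surjective (st s x) ∨ Function.Surjective (st t x) := by
  haveI := isNoetherian_of_proper (X := X) k
  haveI := finite_HH' k (Groth.L16.ProperFinite.isCoh_of_isInvertible hD) 0
  let b := Module.finBasisOfFinrankEq k (Coh.HH X D 0) h2
  choose φ hφ using fun j => exists_hom_of_hh0 (b j)
  have hne : ∀ j, φ j ≠ 0 := fun j h0 => b.ne_zero j ((e0 D).injective (by
    rw [map_zero, ← hφ j, h0]; rfl))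
  refine ⟨φ 0, φ 1, hne 0, hne 1, fun x hx => ?_⟩
  by_contra hb
  push Not at hb
  obtain ⟨ψ, hψ⟩ := hgen x hx
  refine (surjective_st_iff_not_mem hD ψ x).1 hψ ?_
  have hj : ∀ j, st (φ j) x (one X x) ∈ maximalIdeal (X.presheaf.stalk x) • (⊤ : Submodule (X.presheaf.stalk x) (D.presheaf.stalk x)) := by
    intro j
    by_contra hn
    have := (surjective_st_iff_not_mem hD (φ j) x).2 hn
    fin_cases j
    · exact hb.1 this
    · exact hb.2 this
  rw [st_one_top, ← (e0 D).apply_symm_apply (ψ.app ⊤ (oneSec X)), ← b.sum_repr ((e0 D).symm _), map_sum, map_sum]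
  refine Submodule.sum_mem _ fun j _ => ?_
  rw [e0_smul, Groth.L20.ModStalk.germ_smul, ← hφ j, ← st_one_top]
  exact Submodule.smul_mem _ _ (hj j)

/-- The base point free pencil trick for a complete pencil. -/
theorem pencil_trick' {D M N : X.Modules} (hD : PicF.IsInvertible D) (h2 : h k 0 D = 2)
    (hgD : Curv2.IsGloballyGenerated D) (hM : PicF.IsInvertible M) (hN : PicF.IsInvertible N)
    (i : CohB1.tensorMod N D ≅ M) : 2 * h k 0 M ≤ h k 0 (CohB1.tensorMod M D) + h k 0 N := by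
  obtain ⟨s, t, hs, ht, hcz⟩ := exists_two_sections k hD h2 fun x hx => exists_gen_of_globallyGenerated hD hgD hx
  exact pencil_trick k hD hM hN i hs ht hcz

theorem h0_add_le_of_coprime {L N : X.Modules} (hL : PicF.IsInvertible L) (hN : PicF.IsInvertible N)
    {s : Coh.structureModule X ⟶ L} {t : Coh.structureModule X ⟶ N} (hs : s ≠ 0) (ht : t ≠ 0)
    (hcz : ∀ x : X, IsClosed ({x} : Set X) → Function.Surjective (st s x) ∨ Function.Surjective (st t x)) :
    h k 0 L + h k 0 N ≤ h k 0 (CohB1.tensorMod L N) + h k 0 (Coh.structureModule X) := by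
  haveI := isNoetherian_of_proper (X := X) k
  haveI := mono_mulS hL hN ht
  haveI := mono_mulS hN hL hs
  haveI := mono_of_ne_zero hL hs
  refine h0_add_le_of_inter k (Groth.L16.ProperFinite.isCoh_of_isInvertible (Groth.L18.GenLoc.isInvertible_tensor hL hN))
    (Groth.L16.CohClosedPush.isCoh_structure (X := X)) (mulS L t) (mulS N s ≫ (tensorComm N L).hom) (s ≫ mulS L t)
    fun x v hv₁ hv₂ => ?_
  obtain ⟨σ, hσ, hσs, hσM⟩ := exists_range_mulS hL s x
  obtain ⟨τ, hτ, -, hτM⟩ := exists_range_mulS hN t x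
  obtain ⟨w₁, rfl⟩ := (hτM L hL v).1 hv₁
  obtain ⟨r, hr⟩ := hv₂
  rw [st_comp] at hr
  obtain ⟨w₀, hw₀⟩ := (hσM N hN _).1 ⟨r, rfl⟩
  rw [← hw₀, map_smul] at hr
  obtain ⟨z, hz, hxz⟩ := exists_closed_specialization x
  have hall : Function.Surjective (st s x) ∨ Function.Surjective (st t x) :=
    (hcz z hz).imp (surjective_st_of_specializes hL hxz) (surjective_st_of_specializes hN hxz)
  obtain ⟨w, hw⟩ : ∃ w, τ • w₁ = σ • τ • w := by
    rcases hall.imp hσ.2 hτ.2 with hu | hu
    · exact ⟨(↑hu.unit⁻¹ : X.presheaf.stalk x) • w₁, by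
        rw [smul_comm σ, smul_smul σ, IsUnit.mul_val_inv, one_smul]⟩
    · exact ⟨(↑hu.unit⁻¹ : X.presheaf.stalk x) • st (tensorComm N L).hom x w₀,
        by rw [smul_smul τ, IsUnit.mul_val_inv, one_smul, hr]⟩
  obtain ⟨p, hp⟩ := (hτM L hL (τ • w)).2 ⟨w, rfl⟩
  obtain ⟨p', hp'⟩ := (hσs (σ • p)).2 ⟨p, rfl⟩
  refine ⟨p', ?_⟩
  rw [st_comp, hp', map_smul, hp, hw]

variable [IsAlgClosed k] [Smooth (X ↘ Spec (CommRingCat.of k))]

/-- Addition of dimensions of effective classes. -/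
theorem h0_add_le (hd : topologicalKrullDim X = 1) {L N : X.Modules} (hL : PicF.IsInvertible L)
    (hN : PicF.IsInvertible N) (h1L : 1 ≤ h k 0 L) (h1N : 1 ≤ h k 0 N) :
    h k 0 L + h k 0 N ≤ h k 0 (CohB1.tensorMod L N) + h k 0 (Coh.structureModule X) := by
  classical
  haveI := isNoetherian_of_proper (X := X) k
  have hnn : ∀ {A : X.Modules}, PicF.IsInvertible A → 1 ≤ h k 0 A → 0 ≤ Curv2.deg k X A 1 ∧
      ∃ φ : Coh.structureModule X ⟶ A, φ ≠ 0 := fun {A} hA h1 => by
    haveI : Nontrivial (Coh.HH X A 0) := not_subsingleton_iff_nontrivial.1 fun hs => by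
      have := h_eq_zero_of_subsingleton k hs
      omega
    exact ⟨deg_nonneg k hd.le hA inferInstance, exists_hom_ne_zero⟩
  induction hn : (Curv2.deg k X L 1).toNat using Nat.strong_induction_on generalizing L with
  | _ n ih =>
    obtain ⟨hdeg, -⟩ := hnn hL h1L
    by_cases hb : ∀ (P : X), IsClosed ({P} : Set X) → ∃ φ : Coh.structureModule X ⟶ L, Function.Surjective (st φ P)
    swap
    · push Not at hb
      obtain ⟨P, hP, hns⟩ := hb
      obtain ⟨hM, -, hdM, hleM, hle', hiff⟩ := twist_point k hd hL hP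
      have heq : h k 0 (CohB1.tensorMod L (ptI P hP)) = h k 0 L := by
        by_contra hne
        obtain ⟨φ, hφ⟩ := hiff.1 (by omega)
        exact hns φ hφ
      have hdM0 := (hnn hM (by omega)).1
      have hrec := ih _ (by omega) hM (by omega) rfl
      obtain ⟨-, -, -, hle2, -⟩ := twist_point k hd (Groth.L18.GenLoc.isInvertible_tensor hL hN) hP
      let j : CohB1.tensorMod (CohB1.tensorMod L (ptI P hP)) N ≅ CohB1.tensorMod (CohB1.tensorMod L N) (ptI P hP) :=
        tensorAssoc L (ptI P hP) N ≪≫ tensorIso (Iso.refl L) (tensorComm (ptI P hP) N) ≪≫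
          (tensorAssoc L N (ptI P hP)).symm
      rw [h_congr k j 0] at hrec
      omega
    obtain ⟨-, t, ht⟩ := hnn hN h1N
    haveI := finite_HH' k (Groth.L16.ProperFinite.isCoh_of_isInvertible hL) 0
    let Z := {x : X | x ∉ CohB1.genLocus N t}
    have hZ : Z.Finite := finite_compl_genLocus hd.le hN ht
    let Zc := {x : X | x ∈ Z ∧ IsClosed ({x} : Set X)}
    haveI : Finite Zc := (hZ.subset fun x hx => hx.1).to_subtype
    let p : Option Zc → Submodule k (Coh.HH X L 0) := fun o => o.elim ⊥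
      fun z => (hk k (twι L (Scheme.IdealSheafData.vanishingIdeal ⟨{z.1}, z.2.2⟩)) 0).range
    haveI : Nontrivial (Coh.HH X L 0) := not_subsingleton_iff_nontrivial.1 fun hs => by
      have := h_eq_zero_of_subsingleton k hs
      omega
    have hp : ∀ o, p o ≠ ⊤ := by
      rintro (_ | z) htop
      · exact bot_ne_top htop
      obtain ⟨φ, hφ⟩ := hb z.1 z.2.2
      obtain ⟨w, hw⟩ : (e0 L).symm (φ.app ⊤ (oneSec X)) ∈ p (some z) := htop ▸ Submodule.mem_top
      obtain ⟨ψ, hψ⟩ := exists_hom_of_hh0 w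
      refine (isMinusPt_twι hL z.2.2).not_surjective_comp hL ψ ?_
      rw [show ψ ≫ twι L _ = φ from hom_ext_one (by
        show (twι L _).app ⊤ (ψ.app ⊤ (oneSec X)) = _
        rw [hψ, ← e0_hmap]
        exact (congrArg (e0 L) hw).trans (AddEquiv.apply_symm_apply _ _))]
      exact hφ
    haveI : Infinite k := IsAlgClosed.instInfinite
    obtain ⟨y, hy⟩ := Submodule.exists_forall_notMem_of_forall_ne_top p hp
    obtain ⟨s, hs⟩ := exists_hom_of_hh0 y
    have hs0 : s ≠ 0 := fun h0 => hy none (by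
      show y ∈ (⊥ : Submodule k (Coh.HH X L 0))
      rw [Submodule.mem_bot]
      refine (e0 L).injective ?_
      rw [map_zero, ← hs, h0]
      rfl)
    refine h0_add_le_of_coprime k hL hN hs0 ht fun x hx => ?_
    by_cases hxt : Function.Surjective (st t x)
    · exact Or.inr hxt
    refine Or.inl ?_
    have hxZ : x ∈ Zc := ⟨fun hmem => hxt ((mem_genLocus_iff hN t x).1 hmem), hx⟩
    by_contra hns
    obtain ⟨ψ, hψ⟩ := (isMinusPt_twι hL hx).exists_lift_section hL s hns
    refine hy (some ⟨x, hxZ⟩) ⟨(e0 _).symm (ψ.app ⊤ (oneSec X)), (e0 L).injective ?_⟩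
    show e0 L (hmap (twι L _) 0 _) = e0 L y
    rw [e0_hmap, AddEquiv.apply_symm_apply, ← hs, ← hψ]
    rfl

end Integral

end Groth.L21.RR
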