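import Groth.Agent.L21.P1.Pencil
import Groth.Agent.L21.Duality.Pencils
import Groth.Agent.L21.Disc.DoubleOmega
import Groth.Agent.L21.Bundle.Sub
import Groth.Agent.L21.CurveMaps
import Groth.Agent.L21.AffCd.PointH1
import Groth.Prelude.Def_LinSer
import Groth.Prelude.Def_Omega3

/-!
The morphism to the line attached to a pencil has degree at most the degree of the pencil.
-/

set_option autoImplicit false
set_option backward.isDefEq.respectTransparency false
set_option backward.isDefEq.respectTransparency.types false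
set_option linter.style.haveILetI false
universe u

open CategoryTheory CategoryTheory.Limits AlgebraicGeometry TopologicalSpace Opposite

noncomputable section

namespace Groth.L21.RR.PencilDeg

open Groth.L18.PUP (P pr)
open Groth.L18.Frame (IsFrame rs)
open Groth.L21.Disc (overMap)
open scoped nonZeroDivisors

variable {k : Type u} [Field k] {X : Scheme.{u}} [X.Over (Spec (CommRingCat.of k))]
  [IsProper (X ↘ Spec (CommRingCat.of k))] [IsIntegral X]

include k in
/-- Regular curves are normal. -/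
theorem normal_of_regular (hd : topologicalKrullDim X = 1)
    (hreg : ∀ x : X, IsRegularLocalRing (X.presheaf.stalk x)) (x : X) :
    IsDomain (X.presheaf.stalk x) ∧ IsIntegrallyClosed (X.presheaf.stalk x) := by
  haveI := Groth.L21.RR.isNoetherian_of_proper (X := X) k
  haveI := hreg x
  have hp := Groth.L21.SmoothDescent.isPrincipal_of_dim_le_one
    ((Groth.L21.SmoothDescent.ringKrullDim_stalk_le x).trans hd.le)
  haveI : IsPrincipalIdealRing (X.presheaf.stalk x) :=
    (tfae_of_isNoetherianRing_of_isLocalRing_of_isDomain (X.presheaf.stalk x)).out 4 0 |>.mp hp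
  exact ⟨inferInstance, inferInstance⟩

/-- The function field degree of a finite morphism with normal source is the rank. -/
theorem finrank_functionField {X Y : Scheme.{u}} (f : X ⟶ Y) [IsFinite f] [IsIntegral X] [IsIntegral Y]
    (hnX : ∀ x : X, IsDomain (X.presheaf.stalk x) ∧ IsIntegrallyClosed (X.presheaf.stalk x))
    (z : Y) (hz : f (genericPoint X) = z) (hz' : z = genericPoint Y)
    {n : ℕ} (hE : FlatMod.IsFinLocFreeOfRank n (Groth.L21.Disc.pushO f)) :
    (letI := (overMap f (genericPoint X) z hz).toAlgebra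
     Module.finrank (Y.presheaf.stalk z) X.functionField) = n := by
  subst hz'
  letI := ((Y.presheaf.stalkSpecializes (specializes_of_eq hz) ≫
      f.stalkMap (genericPoint X)).hom).toAlgebra
  haveI : Algebra.IsAlgebraic Y.functionField X.functionField :=
    Groth.L21.DoubleCover.isAlgebraic_functionField f hz
  obtain ⟨⟨U, hU⟩, e, hηU, -, he⟩ :=
    Groth.L22.CurveDeg.Det.exists_affine_basis hE (genericPoint Y) ⊤ trivial
  haveI : Nonempty U := ⟨⟨_, hηU⟩⟩
  haveI : Nonempty (f ⁻¹ᵁ U : X.Opens) := ⟨⟨genericPoint X, show f (genericPoint X) ∈ U by rw [hz]; exact hηU⟩⟩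
  have hW : IsAffineOpen (f ⁻¹ᵁ U) := hU.preimage f
  haveI := functionField_isFractionRing_of_isAffineOpen Y U hU
  haveI := functionField_isFractionRing_of_isAffineOpen X (f ⁻¹ᵁ U) hW
  letI := Groth.L21.Disc.secAlg f U
  letI : Algebra Γ(Y, U) X.functionField :=
    ((algebraMap Γ(X, f ⁻¹ᵁ U) X.functionField).comp (algebraMap Γ(Y, U) Γ(X, f ⁻¹ᵁ U))).toAlgebra
  haveI : IsScalarTower Γ(Y, U) Γ(X, f ⁻¹ᵁ U) X.functionField := IsScalarTower.of_algebraMap_eq' rfl
  haveI : IsScalarTower Γ(Y, U) Y.functionField X.functionField := IsScalarTower.of_algebraMap_eq fun r =>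
    (Groth.L21.Disc.overMap_germ f (genericPoint X) (genericPoint Y) hz U hηU r).symm
  haveI : Module.Finite Γ(Y, U) Γ(X, f ⁻¹ᵁ U) := f.finite_app U hU
  haveI := Groth.L21.isIntegrallyClosed_of_normal hnX hW
  haveI : IsIntegralClosure Γ(X, f ⁻¹ᵁ U) Γ(Y, U) X.functionField :=
    IsIntegralClosure.of_isIntegrallyClosed _ _ _
  haveI := IsIntegralClosure.isLocalization Γ(Y, U) Y.functionField X.functionField Γ(X, f ⁻¹ᵁ U)
  show Module.finrank Y.functionField X.functionField = n
  rw [Module.finrank_eq_card_basis ((Groth.L21.Disc.toBasis f he).localizationLocalization Y.functionField Γ(Y, U)⁰ X.functionField),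
    Fintype.card_fin]

omit [IsIntegral X] in
theorem deg_pullback_O_one' (f : X ⟶ P 1 k) [IsFinite f] (hd : topologicalKrullDim X ≤ 1)
    (hf : f ≫ pr 1 k = X ↘ Spec (CommRingCat.of k)) {n : ℕ}
    (hn : FlatMod.IsFinLocFreeOfRank n ((Scheme.Modules.pushforward f).obj (Coh.structureModule X))) :
    Curv2.deg k X ((Scheme.Modules.pullback f).obj (Groth.L21.P1.O k 1)) 1 = n := by
  haveI := Groth.L21.RR.isNoetherian_of_proper (X := X) k
  obtain ⟨d, -, ⟨θ⟩⟩ := Groth.L21.P1.exists_splitting k hn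
  have he : ∀ r : ℕ, Curv2.euler k X (CohB1.tensorPow ((Scheme.Modules.pullback f).obj (Groth.L21.P1.O k 1)) r) =
      ∑ l, ((r : ℤ) + d l + 1) := fun r => by
    rw [Groth.L21.RR.euler_eq k hd, Groth.L21.P1.h_tensorPow_pullback_twist k f hf d θ r 0,
      Groth.L21.P1.h_tensorPow_pullback_twist k f hf d θ r 1, Nat.cast_sum, Nat.cast_sum, ← Finset.sum_sub_distrib]
    refine Finset.sum_congr rfl fun l _ => ?_
    rw [(Groth.L21.P1.h_O k _).1, (Groth.L21.P1.h_O k _).2]
    omega
  have h1 := (Groth.L21.RR.euler_congr k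
    (Groth.L00.Tensor.tensorPowOne ((Scheme.Modules.pullback f).obj (Groth.L21.P1.O k 1)))).symm.trans (he 1)
  have hd' : Curv2.deg k X ((Scheme.Modules.pullback f).obj (Groth.L21.P1.O k 1)) 1 =
      Curv2.euler k X ((Scheme.Modules.pullback f).obj (Groth.L21.P1.O k 1)) -
        (1 : ℕ) * Curv2.euler k X (CohB1.tensorPow ((Scheme.Modules.pullback f).obj (Groth.L21.P1.O k 1)) 0) := rfl
  rw [hd', h1, he 0]
  simp [Finset.sum_add_distrib]

omit [IsIntegral X] in
theorem exists_toGlobal_eq (h0 : Module.finrank k (Coh.HH X (Coh.structureModule X) 0) = 1)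
    (hne : Nontrivial Γ(X, ⊤)) (a : Γ(X, ⊤)) :
    ∃ c : k, (show Γ(X, ⊤) from Coh.toGlobal (X ↘ Spec (CommRingCat.of k)) c) = a := by
  have h1 : (e0 (Coh.structureModule X)).symm (oneSec X) ≠ 0 := fun h => by
    have h2 : oneSec X = 0 := (e0 _).symm.injective (h.trans (map_zero _).symm)
    exact one_ne_zero (α := Γ(X, ⊤)) h2
  obtain ⟨c, hc⟩ := exists_smul_eq_of_finrank_eq_one h0 h1 ((e0 (Coh.structureModule X)).symm a)
  refine ⟨c, ?_⟩
  have h2 := congrArg (e0 (Coh.structureModule X)) hc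
  rw [e0_smul, AddEquiv.apply_symm_apply, AddEquiv.apply_symm_apply] at h2
  exact (mul_one _).symm.trans h2

theorem degree_le_or_constant (hdim : topologicalKrullDim X = 1)
    (hreg : ∀ x : X, IsRegularLocalRing (X.presheaf.stalk x)) (d : ℕ) (L : X.Modules)
    (s : Fin (1 + 1) → LinSer.Sect X L) (hL : LinSer.IsLinSer k X L d 1 s)
    (φ : X ⟶ P 1 k) (α : (Scheme.Modules.pullback φ).obj (Groth.L18.PUP.O1 1 k) ⟶ L)
    (hφ : φ ≫ pr 1 k = X ↘ (Spec (CommRingCat.of k)) ∧
        ∀ i : Fin (1 + 1), α.app ⊤ (Groth.L18.PUP.rT φ i) = s i) :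
    ((¬ ∃ p : P 1 k, IsClosed ({p} : Set (P 1 k)) ∧ Set.range φ ⊆ {p}) ∧
      (letI := (φ.stalkMap (genericPoint X)).hom.toAlgebra
       Module.finrank ((P 1 k).presheaf.stalk (φ (genericPoint X))) X.functionField ≤ d)) ∨
    ((∃ p : P 1 k, IsClosed ({p} : Set (P 1 k)) ∧ Set.range φ ⊆ {p}) ∧
      Module.finrank k (Coh.HH X (Coh.structureModule X) 0) ≠ 1) := by
  classical
  haveI := Groth.L21.RR.isNoetherian_of_proper (X := X) k
  haveI : IsNoetherian (Groth.L18.PUP.P 1 k) :=
    Groth.L21.RR.isNoetherian_of_proper (X := Groth.L18.PUP.P 1 k) k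
  have hind := hL.2.2
  let a : Γ((Scheme.Modules.pullback φ).obj (Groth.L18.PUP.O1 1 k), ⊤) → Γ(L, ⊤) := fun t => α.app ⊤ t
  have hs : ∀ i, a (Groth.L18.PUP.rT φ i) = s i := hφ.2
  by_cases hP : ∃ p : P 1 k, IsClosed ({p} : Set (P 1 k)) ∧ Set.range φ ⊆ {p}
  · refine Or.inr ⟨hP, fun h0 => ?_⟩
    obtain ⟨p, -, hr⟩ := hP
    obtain ⟨i, hi⟩ := Opens.mem_iSup.mp ((Groth.L18.PS.iSup_chart (n := 1) (R := k)).ge (trivial : p ∈ (⊤ : (P 1 k).Opens)))
    have htop : (⊤ : X.Opens) ≤ φ ⁻¹ᵁ (Groth.L18.PUP.D i) := fun x _ => by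
      show φ x ∈ Groth.L18.PUP.D i
      rw [Set.mem_singleton_iff.mp (hr ⟨x, rfl⟩)]; exact hi
    haveI : Nonempty ((⊤ : X.Opens) : Scheme) := ⟨⟨genericPoint X, trivial⟩⟩
    obtain ⟨c, hc⟩ := Groth.L21.RR.PencilDeg.exists_toGlobal_eq h0 inferInstance
      (φ.appLE _ ⊤ htop (Groth.L18.PUP.cc i (i + 1)))
    have h1 := Groth.L18.PUP.rT_smul_le φ htop (i + 1)
    rw [Groth.L18.Frame.rs_self, Groth.L18.Frame.rs_self, ← hc] at h1
    have h2 : (Coh.toGlobal (X ↘ Spec (CommRingCat.of k)) c) • s i = s (i + 1) := by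
      rw [← hs, ← hs, ← h1]
      exact (α.app_smul _ _).symm
    have hne : i + 1 ≠ i := by fin_cases i <;> decide
    let cf : Fin (1 + 1) → k := fun j => if j = i then c else -1
    have h3 := hind cf (by
      have hu : (Finset.univ : Finset (Fin (1 + 1))) = {i, i + 1} := by fin_cases i <;> decide
      rw [hu, Finset.sum_pair hne.symm, show cf i = c from if_pos rfl,
        show cf (i + 1) = -1 from if_neg hne, map_neg, map_one, h2]
      exact (congrArg _ (neg_one_smul _ _)).trans (add_neg_cancel _))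
    have h4 : (-1 : k) = 0 := by
      have := congrFun h3 (i + 1)
      rwa [show cf (i + 1) = -1 from if_neg hne] at this
    simp at h4
  refine Or.inl ⟨hP, ?_⟩
  have hgen : φ (genericPoint X) = genericPoint (Groth.L18.PUP.P 1 k) := by
    refine Groth.L21.RR.eq_genericPoint_of_not_isClosed (Groth.L21.P1.topologicalKrullDim_le k) fun hcl => hP ?_
    refine ⟨_, hcl, ?_⟩
    rintro _ ⟨x, rfl⟩
    exact (((genericPoint_spec X).specializes (y := x) trivial).map φ.continuous).mem_closed hcl rfl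
  have hnc : (Set.range φ.base).Nontrivial := by
    obtain ⟨x, -, hx⟩ := (isClosed_univ (X := X)).exists_closed_singleton Set.univ_nonempty
    haveI : IsSeparated (pr 1 k) := inferInstance
    haveI : IsProper φ := by
      haveI : IsProper (φ ≫ (pr 1 k)) := by rw [hφ.1]; infer_instance
      exact IsProper.of_comp φ ((pr 1 k))
    refine ⟨_, ⟨genericPoint X, rfl⟩, _, ⟨x, rfl⟩, fun h => ?_⟩
    refine Groth.L21.RR.ne_genericPoint_of_isClosed Groth.L21.P1.topologicalKrullDim_eq ?_ (h.symm.trans hgen)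
    simpa using φ.isClosedMap _ hx
  haveI : IsFinite φ := by
    haveI : IsSeparated (pr 1 k) := inferInstance
    refine Groth.L21.CurveTop.isFinite_of_nonconstant (X ↘ Spec (CommRingCat.of k)) ((pr 1 k))
      φ hφ.1 hdim.le fun Z hZ _ => ?_
    have hZu : Z = Set.univ := Set.mem_singleton_iff.mp (irreducibleComponents_eq_singleton (X := X) ▸ hZ)
    rw [hZu, Set.image_univ]
    exact hnc
  haveI : Flat φ := Groth.L21.flat_of_nonconstant (Groth.L21.P1.topologicalKrullDim_le k) Groth.L21.P1.normal_P1 φ hnc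
  obtain ⟨n, hn⟩ := Groth.L21.Disc.exists_rank_push φ
  have hfr := Groth.L21.RR.PencilDeg.finrank_functionField φ
    (Groth.L21.RR.PencilDeg.normal_of_regular (k := k) hdim hreg) (φ (genericPoint X)) rfl hgen hn
  have hdeg := Groth.L21.RR.PencilDeg.deg_pullback_O_one' φ hdim.le hφ.1 hn
  have hM : PicF.IsInvertible ((Scheme.Modules.pullback φ).obj (Groth.L18.PUP.O1 1 k)) :=
    Groth.L18.Ample.isInvertible_pullback φ (Groth.L16.ProjTwist.isInvertible_twistProjSpace 1 k 1)
  have hmono : Mono α := by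
    refine (Groth.L21.Mod.mono_iff_stalk_injective α).2 fun x => (injective_iff_map_eq_zero _).2 fun v hv => ?_
    obtain ⟨i, hi⟩ := Opens.mem_iSup.mp ((Groth.L18.PS.iSup_chart (n := 1) (R := k)).ge (trivial : φ x ∈ (⊤ : (P 1 k).Opens)))
    obtain ⟨b, hb⟩ := (Groth.L21.RR.bijective_germ_frame (Groth.L18.PUP.rT_frame φ i) hi).2 v
    subst hb
    change Groth.L21.RR.st α x _ = 0 at hv
    rw [map_smul, Groth.L20.ModStalk.germ_rs, Groth.L21.RR.st_germ] at hv
    obtain ⟨ψ, hψ⟩ := Groth.L21.RR.exists_hom_secOf (s i)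
    have hψ0 : ψ ≠ 0 := by
      intro h
      have hsi : s i = 0 := by rw [← hψ, h]; rfl
      have := congrFun (hind (fun j => if j = i then 1 else 0) (by simp [hsi])) i
      simp at this
    have hne := Groth.L21.RR.st_one_ne_zero hL.1 hψ0 x
    rw [Groth.L21.RR.st_one ψ x (W := ⊤) trivial, Groth.L18.Frame.rs_self, ← Groth.L21.RR.secOf_eq, hψ] at hne
    obtain ⟨e, he⟩ := Groth.L21.RR.exists_frame_stalk hL.1 x
    obtain ⟨d', hd'⟩ := he.2 (L.presheaf.germ ⊤ x trivial (s i))
    have hb0 : b = 0 := by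
      have hsi : L.presheaf.germ ⊤ x trivial (a (Groth.L18.PUP.rT φ i)) = L.presheaf.germ ⊤ x trivial (s i) :=
        congrArg _ (hs i)
      have hv' : b • L.presheaf.germ ⊤ x trivial (s i) = 0 := by
        rw [← hsi]; exact hv
      rw [← hd', smul_smul] at hv'
      rcases mul_eq_zero.1 (he.1 (hv'.trans (zero_smul (X.presheaf.stalk x) e).symm)) with h | h
      · exact h
      · exact absurd (by rw [← hd', h]; exact zero_smul _ _) hne
    rw [hb0]
    beta_reduce; simp
  haveI := hmono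
  have h1 := Groth.L21.Bundle.locFree_one hM
  have h2 := Groth.L21.Bundle.locFree_one hL.1
  have hle := (Groth.L21.Bundle.dg_le_of_mono hdim.le k α (Groth.L21.Bundle.isCoh_of_rank h1)
    (Groth.L21.Bundle.isCoh_of_rank h2) (by rw [Groth.L21.Bundle.rk_eq h1, Groth.L21.Bundle.rk_eq h2])).1
  rw [← Groth.L21.Bundle.dg_eq k h1, ← Groth.L21.Bundle.dg_eq k h2, hL.2.1] at hle
  have hnd : n ≤ d := by
    have h3 : (n : ℤ) ≤ d := hdeg.symm.trans_le hle
    exact_mod_cast h3
  refine le_of_eq_of_le ?_ hnd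
  rw [Groth.L21.Disc.overMap_self] at hfr
  exact hfr

end Groth.L21.RR.PencilDeg
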